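import Groth.Agent.Deform.AntiAffineParts
import Groth.Agent.Deform.AVFactor
import Groth.Agent.Deform.AffineKernel
import Groth.Agent.GrpSchLib.QuotAffine
import Groth.Agent.GrpSchLib.PerfectSmooth
import Groth.Agent.GrpSchLib.MonoSubgroup
import Groth.Agent.GrpSchLib.FieldReduced
import Groth.Agent.GrpSchLib.IdentityComp
import Groth.Agent.GrpSchLib.HomFlat
import Groth.Agent.GrpSchLib.RedSubgroup
import Groth.Agent.GrpSchLib.ImageFactor
import Groth.Agent.GrpSchLib.UnitsScheme

/-!
# Generalities for the structure theorem of algebraic groups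
-/

universe u

open CategoryTheory CategoryTheory.Limits MonoidalCategory CartesianMonoidalCategory MonObj GrpObj AlgebraicGeometry

attribute [local instance] CategoryTheory.Hom.monoid CategoryTheory.Hom.group
set_option linter.style.haveILetI false
set_option linter.unusedSectionVars false

namespace Groth.Agent.Deform.Chev

noncomputable section

variable {k : Type u} [Field k]

theorem quasiCompact_of_grp {G H : Over (Spec (CommRingCat.of k))} [GrpObj H] [QuasiCompact G.hom] (f : G ⟶ H) :
    QuasiCompact f.left := by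
  haveI := GrpSchLib.AntiAffine.isSeparated_grp H
  haveI : QuasiCompact (f.left ≫ H.hom) := by rw [Over.w f]; infer_instance
  exact QuasiCompact.of_comp f.left H.hom

theorem isNormalHom_of_kernel {G Q N : Over (Spec (CommRingCat.of k))} [GrpObj G] [GrpObj Q] [GrpObj N] (q : G ⟶ Q)
    [IsMonHom q] (i : N ⟶ G) [IsMonHom i] (hk : AlgGrp.IsKernel i q) : AlgGrp.IsNormalHom i := fun T g n => by
  have h : (g * (n ≫ i) * g⁻¹) ≫ q = 1 := by
    rw [MonObj.mul_comp, MonObj.mul_comp, Category.assoc, show i ≫ q = 1 from hk.w, MonObj.comp_one, _root_.mul_one,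
      GrpObj.inv_comp, mul_inv_cancel]
  exact ⟨hk.lift _ (toUnit T) h, (hk.lift_fst _ _ h).symm⟩

/-- The quotient by a closed normal subgroup. -/
theorem exists_quotient {G N : Over (Spec (CommRingCat.of k))} [GrpObj G] [GrpObj N] [LocallyOfFiniteType G.hom]
    [QuasiCompact G.hom] (i : N ⟶ G) [IsMonHom i] [IsClosedImmersion i.left] (hn : AlgGrp.IsNormalHom i) :
    ∃ (Q : Over (Spec (CommRingCat.of k))) (_ : GrpObj Q) (q : G ⟶ Q), IsMonHom q ∧ Flat q.left ∧ Surjective q.left ∧
      LocallyOfFiniteType Q.hom ∧ QuasiCompact Q.hom ∧ AlgGrp.IsKernel i q := by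
  haveI : LocallyOfFiniteType N.hom := by rw [← Over.w i]; infer_instance
  haveI : Flat N.hom := Deform.AffineKernel.flat_over_field _
  haveI : Flat G.hom := Deform.AffineKernel.flat_over_field _
  haveI : Mono i := (Over.forget _).mono_of_mono_map (inferInstanceAs (Mono i.left))
  obtain ⟨Q, q, hqf, hqs, hql, sq, hsep, hQl, -, -⟩ := Deform.QuotArtin.exists_quot i
  haveI := hqf; haveI := hqs; haveI := hql; haveI := hsep; haveI := hQl
  obtain ⟨gQ, hq, hqk⟩ := Deform.QuotGroup.exists_grpObj i q sq hn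
  haveI : LocallyOfFiniteType Q.hom := inferInstance
  haveI : CompactSpace G.left := QuasiCompact.compactSpace_of_compactSpace G.hom
  haveI : CompactSpace Q.left := q.left.surjective.compactSpace q.left.continuous
  exact ⟨Q, gQ, q, hq, hqf, hqs, inferInstance, (quasiCompact_iff_compactSpace Q.hom).mpr inferInstance, hqk⟩

/-- A group mapping to an affine group with affine kernel is affine. -/
theorem isAffine_of_ker {G H N : Over (Spec (CommRingCat.of k))} [GrpObj G] [GrpObj H] [GrpObj N]
    [LocallyOfFiniteType G.hom] [QuasiCompact G.hom] [LocallyOfFiniteType H.hom] [IsAffine H.left] (f : G ⟶ H)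
    [IsMonHom f] (i : N ⟶ G) [IsMonHom i] [IsClosedImmersion i.left] [IsAffine N.left]
    (hk : AlgGrp.IsKernel i f) : IsAffine G.left := by
  haveI := quasiCompact_of_grp f
  haveI := Deform.AffineKernel.isAffineHom_of_ker f i (isNormalHom_of_kernel f i hk) hk
  exact isAffine_of_isAffineHom f.left

/-- A closed subset which carries the group law on the points of a reduced scheme gives a subgroup. -/
theorem exists_subgroup_of_lift [PerfectField k] {G : Over (Spec (CommRingCat.of k))} [GrpObj G]
    [LocallyOfFiniteType G.hom] [QuasiCompact G.hom] {C : Set G.left} (hC : IsClosed C)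
    (hone : Set.range η[G].left ⊆ C)
    (hmul : ∀ (Y : Over (Spec (CommRingCat.of k))) (i : Y ⟶ G), IsClosedImmersion i.left → IsReduced Y.left →
      Set.range i.left = C → Set.range ((fst Y Y ≫ i) * (snd Y Y ≫ i)).left ⊆ C ∧ Set.range (i⁻¹).left ⊆ C) :
    ∃ (Y : Over (Spec (CommRingCat.of k))) (_ : GrpObj Y) (i : Y ⟶ G), IsMonHom i ∧ IsClosedImmersion i.left ∧
      Smooth Y.hom ∧ QuasiCompact Y.hom ∧ Set.range i.left = C := by
  let I := Scheme.IdealSheafData.vanishingIdeal (⟨C, hC⟩ : TopologicalSpace.Closeds G.left)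
  let Y : Over (Spec (CommRingCat.of k)) := Over.mk (I.subschemeι ≫ G.hom)
  let i : Y ⟶ G := Over.homMk I.subschemeι rfl
  haveI : IsReduced Y.left := H23.RedSub.isReduced_vanishingIdeal ⟨C, hC⟩
  haveI : IsClosedImmersion i.left := inferInstanceAs (IsClosedImmersion I.subschemeι)
  haveI : LocallyOfFiniteType Y.hom := inferInstanceAs (LocallyOfFiniteType (I.subschemeι ≫ G.hom))
  haveI : QuasiCompact Y.hom := inferInstanceAs (QuasiCompact (I.subschemeι ≫ G.hom))
  haveI : Mono i.left := inferInstance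
  haveI : Mono i := (Over.forget _).mono_of_mono_map (inferInstanceAs (Mono i.left))
  have hr : Set.range i.left = C := H23.RedSub.range_vanishingIdeal ⟨C, hC⟩
  have hl : ∀ (T : Over (Spec (CommRingCat.of k))) (_ : IsReduced T.left) (f : T ⟶ G),
      Set.range f.left ⊆ C → ∃ g : T ⟶ Y, g ≫ i = f := by
    intro T _ f hf
    obtain ⟨g, hg⟩ := H23.RedSub.exists_lift_closed f.left i.left (hf.trans hr.ge)
    exact ⟨Over.homMk g (by rw [← Over.w i, reassoc_of% hg, Over.w f]), Over.OverMorphism.ext hg⟩
  haveI : IsReduced (Y ⊗ Y).left := GrpSchLib.isReduced_pullback_of_perfectField Y.hom Y.hom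
  haveI : IsReduced (𝟙_ (Over (Spec (CommRingCat.of k)))).left := inferInstanceAs (IsReduced (Spec (CommRingCat.of k)))
  obtain ⟨hm', hv'⟩ := hmul Y i inferInstance inferInstance hr
  obtain ⟨e, he⟩ := hl (𝟙_ _) inferInstance η[G] hone
  obtain ⟨m, hm⟩ := hl (Y ⊗ Y) inferInstance _ hm'
  obtain ⟨v, hv⟩ := hl Y inferInstance _ hv'
  obtain ⟨str, hi⟩ := GrpSchLib.exists_grpObj_of_mono i e he m hm v hv
  haveI : Smooth Y.hom := GrpSchLib.smooth_of_perfectField_of_isReduced Y
  exact ⟨Y, str, i, hi, inferInstance, inferInstance, inferInstance, hr⟩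

theorem exists_lift_range {G X T : Over (Spec (CommRingCat.of k))} [IsReduced T.left] (i : X ⟶ G)
    [IsClosedImmersion i.left] (f : T ⟶ G) (h : Set.range f.left ⊆ Set.range i.left) : ∃ g : T ⟶ X, g ≫ i = f := by
  obtain ⟨g, hg⟩ := H23.RedSub.exists_lift_closed f.left i.left h
  exact ⟨Over.homMk g (by rw [← Over.w i, reassoc_of% hg, Over.w f]), Over.OverMorphism.ext hg⟩

/-- The kernel receives the homomorphisms killed by the quotient. -/
theorem exists_lift_kernel {G Q N T : Over (Spec (CommRingCat.of k))} [GrpObj Q] (i : N ⟶ G)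
    (q : G ⟶ Q) [GrpObj G] (hk : AlgGrp.IsKernel i q) (f : T ⟶ G) (hf : f ≫ q = 1) : ∃ g : T ⟶ N, g ≫ i = f :=
  ⟨hk.lift f (toUnit T) hf, hk.lift_fst _ _ _⟩

end

end Groth.Agent.Deform.Chev
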