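import Groth.Agent.Deform.Chev.Stab
import Groth.Agent.Deform.Chev.Basic
import Groth.Agent.S8053
import Groth.Agent.S7996
import Groth.Agent.S3293
import Groth.Agent.Deform.Extension
import Groth.Agent.GrpSchLib.HomFinite
import Groth.Agent.Lib.AVMulN
import Groth.Agent.H23.MaxAbelian

/-!
# The structure theorem over an algebraically closed field
-/

universe u

open CategoryTheory CategoryTheory.Limits MonoidalCategory CartesianMonoidalCategory MonObj GrpObj AlgebraicGeometry

attribute [local instance] CategoryTheory.Hom.monoid CategoryTheory.Hom.group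
set_option linter.style.haveILetI false
set_option linter.unusedSectionVars false

namespace Groth.Agent.Deform.Chev

noncomputable section

variable {k : Type u} [Field k] [IsAlgClosed k]

theorem connectedSpace_tensor (N N' : Over (Spec (CommRingCat.of k))) [GrpObj N] [GrpObj N'] [Smooth N.hom]
    [Smooth N'.hom] [QuasiCompact N.hom] [QuasiCompact N'.hom] [ConnectedSpace N.left] [ConnectedSpace N'.left] :
    ConnectedSpace (N ⊗ N').left := by
  haveI : GeometricallyIntegral N.hom := AVFactor.geometricallyIntegral_smooth N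
  haveI : GeometricallyIntegral N'.hom := AVFactor.geometricallyIntegral_smooth N'
  haveI : IsIntegral N'.left := GrpSchLib.Kunneth.isIntegral_grp N'
  haveI : IrreducibleSpace ↥(pullback N.hom N'.hom) :=
    GeometricallyIrreducible.irreducibleSpace (pullback.snd N.hom N'.hom) (pullback.snd N.hom N'.hom).isOpenMap
  exact inferInstanceAs (ConnectedSpace ↥(pullback N.hom N'.hom))

section Comm

variable (G : Over (Spec (CommRingCat.of k))) [GrpObj G] [IsCommMonObj G] [Smooth G.hom] [QuasiCompact G.hom]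
  [ConnectedSpace G.left]

/-- The ranges of the connected smooth affine subgroups. -/
def IsAffSub (Z : Set G.left) : Prop :=
  ∃ (N : Over (Spec (CommRingCat.of k))) (_ : GrpObj N) (i : N ⟶ G), IsMonHom i ∧ IsClosedImmersion i.left ∧
    Smooth N.hom ∧ QuasiCompact N.hom ∧ ConnectedSpace N.left ∧ IsAffine N.left ∧ Set.range i.left = Z

theorem IsAffSub.props {Z : Set G.left} (h : IsAffSub G Z) :
    IsIrreducible Z ∧ IsClosed Z ∧ pimg (1 : Pt G) ∈ Z := by
  obtain ⟨N, _, i, hi, hci, hs, hq, hc, ha, rfl⟩ := h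
  haveI := hs; haveI := hq; haveI := hc
  haveI : IsIntegral N.left := GrpSchLib.Kunneth.isIntegral_grp N
  refine ⟨?_, i.left.isClosedEmbedding.isClosed_range, pimg (1 : Pt N), ?_⟩
  · rw [← Set.image_univ]
    exact (IrreducibleSpace.isIrreducible_univ _).image _ i.left.continuous.continuousOn
  · rw [← pimg_comp, MonObj.one_comp]

theorem isAffSub_join {N N' : Over (Spec (CommRingCat.of k))} [GrpObj N] [GrpObj N'] (i : N ⟶ G) (i' : N' ⟶ G)
    [IsMonHom i] [IsMonHom i'] [Smooth N.hom] [Smooth N'.hom] [QuasiCompact N.hom] [QuasiCompact N'.hom]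
    [ConnectedSpace N.left] [ConnectedSpace N'.left] [IsAffine N.left] [IsAffine N'.left] :
    ∃ Z, IsAffSub G Z ∧ Set.range i.left ⊆ Z ∧ Set.range i'.left ⊆ Z := by
  let ψ : N ⊗ N' ⟶ G := (fst N N' ≫ i) * (snd N N' ≫ i')
  have hψ : ∀ {T : Over (Spec (CommRingCat.of k))} (a b : T ⟶ N ⊗ N'), (a * b) ≫ ψ = (a ≫ ψ) * (b ≫ ψ) := by
    intro T a b
    simp only [ψ, MonObj.comp_mul, ← Category.assoc]
    rw [show (a * b) ≫ fst N N' = (a ≫ fst N N') * (b ≫ fst N N') from MonObj.mul_comp _ _ _,
      show (a * b) ≫ snd N N' = (a ≫ snd N N') * (b ≫ snd N N') from MonObj.mul_comp _ _ _, MonObj.mul_comp,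
      MonObj.mul_comp]
    exact mul_mul_mul_comm _ _ _ _
  haveI : IsMonHom ψ := by
    have h1 : (1 : 𝟙_ _ ⟶ N ⊗ N') ≫ ψ = 1 := by
      simp only [ψ, MonObj.comp_mul, ← Category.assoc, MonObj.one_comp, _root_.mul_one]
    constructor
    · rw [MonObj.one_eq_one, MonObj.one_eq_one, h1]
    · rw [MonObj.mul_eq_mul, hψ, MonObj.mul_eq_mul (M := G), MonObj.comp_mul (ψ ⊗ₘ ψ) (fst G G) (snd G G),
        tensorHom_fst, tensorHom_snd]
  haveI : IsAffineHom N.hom := isAffineHom_of_isAffine _
  haveI : IsAffine (N ⊗ N').left := inferInstanceAs (IsAffine (pullback N.hom N'.hom))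
  haveI : LocallyOfFiniteType (N ⊗ N').hom := inferInstanceAs (LocallyOfFiniteType (pullback.fst N.hom N'.hom ≫ N.hom))
  haveI := connectedSpace_tensor N N'
  haveI : Smooth (N ⊗ N').hom := inferInstanceAs (Smooth (pullback.fst N.hom N'.hom ≫ N.hom))
  haveI : IsReduced (N ⊗ N').left := GrpSchLib.isReduced_of_smooth_field (N ⊗ N').hom
  obtain ⟨J, iJ, q, c, hq, hc, hJa, hcc, hJl, hqs, hqc⟩ := AntiAffineParts.exists_affine_image ψ
  haveI := hc; haveI := hcc; haveI := hJa; haveI := hJl; haveI := hqs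
  haveI : QuasiCompact J.hom := by rw [← Over.w c]; infer_instance
  obtain ⟨J', iJ', r, hr, hrc, hJr, hrs, hJ'l, hJ'q⟩ := GrpSchLib.RedSubgroup.exists_redSubgroup J
  haveI := hr; haveI := hrc; haveI := hJr; haveI := hrs; haveI := hJ'l; haveI := hJ'q
  haveI : Smooth J'.hom := GrpSchLib.smooth_of_perfectField_of_isReduced J'
  obtain ⟨q', hq'⟩ := exists_lift_range r q (by rw [r.left.surjective.range_eq]; exact Set.subset_univ _)
  haveI : Surjective q'.left := ⟨fun x => by
    obtain ⟨z, hz⟩ := q.left.surjective (r.left x)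
    refine ⟨z, r.left.isClosedEmbedding.injective ?_⟩
    rw [← Scheme.Hom.comp_apply, ← Over.comp_left, hq', hz]⟩
  haveI : ConnectedSpace J'.left := q'.left.surjective.connectedSpace q'.left.continuous
  haveI : IsAffine J'.left := isAffine_of_isAffineHom r.left
  have hfac : ψ = q' ≫ r ≫ c := by rw [reassoc_of% hq', hqc]
  refine ⟨Set.range (r ≫ c).left, ⟨J', iJ', r ≫ c, inferInstance,
    inferInstanceAs (IsClosedImmersion (r.left ≫ c.left)), inferInstance, inferInstance, inferInstance, inferInstance, rfl⟩,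
    ?_, ?_⟩
  · rintro _ ⟨x, rfl⟩
    refine ⟨(lift (𝟙 N) 1 ≫ q').left x, ?_⟩
    rw [← Scheme.Hom.comp_apply, ← Over.comp_left, Category.assoc, ← hfac]
    simp only [ψ, MonObj.comp_mul, lift_fst_assoc, lift_snd_assoc, MonObj.one_comp, Category.id_comp, _root_.mul_one]
  · rintro _ ⟨x, rfl⟩
    refine ⟨(lift 1 (𝟙 N') ≫ q').left x, ?_⟩
    rw [← Scheme.Hom.comp_apply, ← Over.comp_left, Category.assoc, ← hfac]
    simp only [ψ, MonObj.comp_mul, lift_fst_assoc, lift_snd_assoc, MonObj.one_comp, Category.id_comp, _root_.one_mul]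

/-- A commutative connected group is an extension of an abelian variety by a connected affine group. -/
theorem exists_comm : ∃ (N : Over (Spec (CommRingCat.of k))) (_ : GrpObj N) (i : N ⟶ G)
    (Q : Over (Spec (CommRingCat.of k))) (_ : GrpObj Q) (q : G ⟶ Q), IsMonHom i ∧ IsClosedImmersion i.left ∧
      Smooth N.hom ∧ QuasiCompact N.hom ∧ ConnectedSpace N.left ∧ IsAffine N.left ∧ IsMonHom q ∧ Flat q.left ∧
      Surjective q.left ∧ AlgGrp.IsKernel i q ∧ IsProper Q.hom ∧ Smooth Q.hom ∧ ConnectedSpace Q.left := by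
  haveI : IsLocallyNoetherian G.left := LocallyOfFiniteType.isLocallyNoetherian G.hom
  have h0 : ∃ Z, IsAffSub G Z := by
    haveI : Smooth (𝟙_ (Over (Spec (CommRingCat.of k)))).hom := inferInstanceAs (Smooth (𝟙 (Spec (CommRingCat.of k))))
    haveI : QuasiCompact (𝟙_ (Over (Spec (CommRingCat.of k)))).hom :=
      inferInstanceAs (QuasiCompact (𝟙 (Spec (CommRingCat.of k))))
    haveI : ConnectedSpace (𝟙_ (Over (Spec (CommRingCat.of k)))).left :=
      inferInstanceAs (ConnectedSpace (PrimeSpectrum k))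
    haveI : IsAffine (𝟙_ (Over (Spec (CommRingCat.of k)))).left := inferInstanceAs (IsAffine (Spec (CommRingCat.of k)))
    haveI : IsMonHom η[G] := by
      constructor
      · exact (congrArg (· ≫ η[G]) (toUnit_unique η[𝟙_ (Over (Spec (CommRingCat.of k)))] (𝟙 _))).trans (Category.id_comp _)
      · rw [MonObj.mul_eq_mul (M := G), MonObj.comp_mul, tensorHom_fst, tensorHom_snd, MonObj.one_eq_one (M := G),
          MonObj.comp_one, MonObj.comp_one, MonObj.comp_one, _root_.one_mul]
    obtain ⟨Z, hZ, -⟩ := isAffSub_join G η[G] η[G]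
    exact ⟨Z, hZ⟩
  obtain ⟨Z, hZ, hmax⟩ := H23.MaxAbelian.exists_maximal (pimg (1 : Pt G)) (IsAffSub G) (fun _ h => h.props) h0
  obtain ⟨N, iN, i, hi, hic, hNs, hNq, hNc, hNa, hNZ⟩ := hZ
  haveI := hi; haveI := hic; haveI := hNs; haveI := hNq; haveI := hNc; haveI := hNa
  have hn : AlgGrp.IsNormalHom i := fun T g n => ⟨n, (by rw [mul_comm g, mul_inv_cancel_right])⟩
  obtain ⟨Q, iQ, q, hq, hqf, hqs, hQl, hQq, hk⟩ := exists_quotient i hn
  haveI := hq; haveI := hqf; haveI := hqs; haveI := hQl; haveI := hQq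
  haveI : Smooth Q.hom := GrpSchLib.smooth_of_quotient q
  haveI : ConnectedSpace Q.left := q.left.surjective.connectedSpace q.left.continuous
  haveI : IsCommMonObj Q := by
    haveI := quasiCompact_of_grp q
    refine Deform.Extension.isCommMonObj_of fun T x y => ?_
    obtain ⟨h1, h2, h3⟩ : Flat q.left ∧ Surjective q.left ∧ QuasiCompact q.left := ⟨inferInstance, inferInstance, inferInstance⟩
    let P : Over (Spec (CommRingCat.of k)) := Over.mk (pullback.fst (lift x y).left (q ⊗ₘ q).left ≫ T.hom)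
    let π : P ⟶ T := Over.homMk (pullback.fst (lift x y).left (q ⊗ₘ q).left) rfl
    let xy : P ⟶ G ⊗ G := Over.homMk (pullback.snd (lift x y).left (q ⊗ₘ q).left) (by
      show _ ≫ (G ⊗ G).hom = pullback.fst (lift x y).left (q ⊗ₘ q).left ≫ T.hom
      rw [← Over.w (q ⊗ₘ q), ← pullback.condition_assoc, Over.w])
    have hxy : π ≫ lift x y = xy ≫ (q ⊗ₘ q) := Over.OverMorphism.ext pullback.condition
    haveI : LocallyOfFiniteType (G ⊗ G).hom := inferInstanceAs (LocallyOfFiniteType (pullback.fst G.hom G.hom ≫ G.hom))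
    haveI : LocallyOfFinitePresentation q.left := by
      haveI : IsLocallyNoetherian Q.left := LocallyOfFiniteType.isLocallyNoetherian Q.hom
      haveI : LocallyOfFiniteType (q.left ≫ Q.hom) := by rw [Over.w q]; infer_instance
      haveI : LocallyOfFiniteType q.left := locallyOfFiniteType_of_comp q.left Q.hom
      infer_instance
    obtain ⟨e1, e2, e3⟩ := Deform.QuotGroup.fppf_tensor q q
    haveI := e1; haveI := e2; haveI := e3
    haveI : Flat π.left := inferInstanceAs (Flat (pullback.fst (lift x y).left (q ⊗ₘ q).left))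
    haveI : Surjective π.left := inferInstanceAs (Surjective (pullback.fst (lift x y).left (q ⊗ₘ q).left))
    haveI : LocallyOfFinitePresentation π.left :=
      inferInstanceAs (LocallyOfFinitePresentation (pullback.fst (lift x y).left (q ⊗ₘ q).left))
    haveI := QuotDescent.epi_of_fppf π
    have ea : π ≫ x = (xy ≫ fst G G) ≫ q := by simpa using congrArg (· ≫ fst Q Q) hxy
    have eb : π ≫ y = (xy ≫ snd G G) ≫ q := by simpa using congrArg (· ≫ snd Q Q) hxy
    rw [← cancel_epi π, MonObj.comp_mul, MonObj.comp_mul, ea, eb, ← MonObj.mul_comp, ← MonObj.mul_comp, mul_comm]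
  by_cases hQ : IsProper Q.hom
  · exact ⟨N, iN, i, Q, iQ, q, hi, hic, hNs, hNq, hNc, hNa, hq, hqf, hqs, hk, hQ, inferInstance, inferInstance⟩
  exfalso
  obtain ⟨N₂, iN₂, a, ha, hac, hN₂s, hN₂q, hN₂c, hN₂a, hN₂ne⟩ := exists_affine_subgroup Q hQ
  haveI := ha; haveI := hac; haveI := hN₂s; haveI := hN₂q; haveI := hN₂c; haveI := hN₂a
  haveI : IsReduced N₂.left := GrpSchLib.isReduced_of_smooth_field N₂.hom
  -- the inverse image
  have hC : IsClosed (q.left ⁻¹' Set.range a.left) := a.left.isClosedEmbedding.isClosed_range.preimage q.left.continuous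
  obtain ⟨P, iP, j, hj, hjc, hPs, hPq, hPC⟩ := exists_subgroup_of_lift (G := G) hC (by
      rintro _ ⟨z, rfl⟩
      refine ⟨η[N₂].left z, ?_⟩
      rw [← Scheme.Hom.comp_apply, ← Over.comp_left, IsMonHom.one_hom a, ← Scheme.Hom.comp_apply, ← Over.comp_left,
        IsMonHom.one_hom q]) fun Y y hyc hYr hY => by
    haveI := hyc; haveI := hYr
    obtain ⟨g, hg⟩ := exists_lift_range a (y ≫ q) (by
      rintro _ ⟨z, rfl⟩
      exact hY.le ⟨z, rfl⟩)
    have hsub : ∀ {T : Over (Spec (CommRingCat.of k))} (f : T ⟶ G) (f' : T ⟶ N₂), f' ≫ a = f ≫ q →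
        Set.range f.left ⊆ q.left ⁻¹' Set.range a.left := by
      rintro T f f' e _ ⟨z, rfl⟩
      exact ⟨f'.left z, by rw [← Scheme.Hom.comp_apply, ← Over.comp_left, e]; rfl⟩
    exact ⟨hsub _ ((fst Y Y ≫ g) * (snd Y Y ≫ g)) (by
        simp only [MonObj.mul_comp, Category.assoc, hg]),
      hsub _ g⁻¹ (by simp only [GrpObj.inv_comp, hg])⟩
  haveI := hj; haveI := hjc; haveI := hPs; haveI := hPq
  haveI : IsReduced P.left := GrpSchLib.isReduced_of_smooth_field P.hom
  obtain ⟨g, hg⟩ := exists_lift_range a (j ≫ q) (by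
    rintro _ ⟨z, rfl⟩
    exact hPC.le ⟨z, rfl⟩)
  haveI : Mono a := (Over.forget _).mono_of_mono_map (inferInstanceAs (Mono a.left))
  haveI : IsMonHom g := by
    constructor
    · rw [← cancel_mono a, Category.assoc, hg, IsMonHom.one_hom a, IsMonHom.one_hom]
    · rw [← cancel_mono a, Category.assoc, hg, Category.assoc, IsMonHom.mul_hom a, IsMonHom.mul_hom,
        ← Category.assoc (g ⊗ₘ g), MonoidalCategory.tensorHom_comp_tensorHom, hg]
  haveI : Surjective g.left := ⟨fun x => by
    obtain ⟨y, hy⟩ := q.left.surjective (a.left x)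
    obtain ⟨z, hz⟩ := hPC.ge (show y ∈ q.left ⁻¹' Set.range a.left from ⟨x, hy.symm⟩)
    refine ⟨z, a.left.isClosedEmbedding.injective ?_⟩
    rw [← Scheme.Hom.comp_apply, ← Over.comp_left, hg, Over.comp_left, Scheme.Hom.comp_apply, hz, hy]⟩
  haveI : IsAffine P.left := by
    haveI := GrpSchLib.AntiAffine.isSeparated_grp N₂
    haveI := GrpSchLib.AntiAffine.isSeparated_grp N
    obtain ⟨K, iK, κ, hκ, hκc, -, hKk⟩ := GrpSchLib.exists_kernel g
    haveI := hκ; haveI := hκc
    obtain ⟨l, hl⟩ := exists_lift_kernel i q hk (κ ≫ j) (by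
      rw [Category.assoc, ← hg, ← Category.assoc, show κ ≫ g = 1 from hKk.w, MonObj.one_comp])
    haveI : IsClosedImmersion (l.left ≫ i.left) := by
      rw [← Over.comp_left, hl]; exact inferInstanceAs (IsClosedImmersion (κ.left ≫ j.left))
    haveI : IsClosedImmersion l.left := IsClosedImmersion.of_comp l.left i.left
    haveI : IsAffine K.left := isAffine_of_isAffineHom l.left
    exact isAffine_of_ker g κ hKk
  obtain ⟨P₀, iP₀, c, hc, hcc, hcf, hcr, hgi, hP₀c⟩ := GrpSchLib.exists_identityComponent (G := P)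
  haveI := hc; haveI := hcc; haveI := hcf; haveI := hgi; haveI := hP₀c
  haveI : IsLocallyNoetherian P.left := LocallyOfFiniteType.isLocallyNoetherian P.hom
  haveI : IsOpenImmersion c.left := IsOpenImmersion.of_flat_of_mono c.left
  haveI : Smooth P₀.hom := by rw [← Over.w c]; infer_instance
  haveI : QuasiCompact P₀.hom := by rw [← Over.w c]; infer_instance
  haveI : IrreducibleSpace P₀.left := GeometricallyIrreducible.irreducibleSpace P₀.hom P₀.hom.isOpenMap
  haveI : ConnectedSpace P₀.left := inferInstance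
  haveI : IsAffine P₀.left := isAffine_of_isAffineHom c.left
  obtain ⟨Z', hZ', hNsub, hPsub⟩ := isAffSub_join G i (c ≫ j)
  have hZeq := hmax Z' hZ' (hNZ ▸ hNsub)
  have hq1 : (c ≫ g) = 1 := by
    haveI : IsReduced P₀.left := GrpSchLib.isReduced_of_smooth_field P₀.hom
    obtain ⟨l, hl⟩ := exists_lift_range i (c ≫ j) (by rw [hNZ, hZeq]; exact hPsub)
    rw [← cancel_mono a, Category.assoc, hg, ← Category.assoc, ← hl, Category.assoc, show i ≫ q = 1 from hk.w,
      MonObj.comp_one, MonObj.one_comp]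
  haveI := quasiCompact_of_grp g
  haveI : Flat g.left := GrpSchLib.flat_of_surjective_hom g
  haveI : LocallyOfFiniteType g.left := by
    haveI : LocallyOfFiniteType (g.left ≫ N₂.hom) := by rw [Over.w g]; infer_instance
    exact locallyOfFiniteType_of_comp g.left N₂.hom
  haveI : IsLocallyNoetherian N₂.left := LocallyOfFiniteType.isLocallyNoetherian N₂.hom
  haveI : IsIntegral N₂.left := GrpSchLib.Kunneth.isIntegral_grp N₂
  have hrg : g.left '' Set.range c.left = {pimg (1 : Pt N₂)} := by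
    refine Set.eq_singleton_iff_unique_mem.mpr ⟨⟨c.left (pimg (1 : Pt P₀)), ⟨_, rfl⟩, ?_⟩, ?_⟩
    · rw [← Scheme.Hom.comp_apply, ← Over.comp_left, hq1, ← pimg_comp, MonObj.comp_one]
    · rintro _ ⟨_, ⟨z, rfl⟩, rfl⟩
      rw [← Scheme.Hom.comp_apply, ← Over.comp_left, hq1, Hom.one_def, Over.comp_left,
        Scheme.Hom.comp_apply, MonObj.one_eq_one]
      exact congrArg (1 : Pt N₂).left (Subsingleton.elim (α := PrimeSpectrum k) _ _)
  have hopen : IsOpen ({pimg (1 : Pt N₂)} : Set N₂.left) :=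
    hrg ▸ g.left.isOpenMap _ c.left.isOpenEmbedding.isOpen_range
  refine hN₂ne ⟨fun x y => ?_⟩
  have hu : ({pimg (1 : Pt N₂)} : Set N₂.left) = Set.univ :=
    IsClopen.eq_univ ⟨isClosed_pimg _, hopen⟩ (Set.singleton_nonempty _)
  exact (hu.ge (Set.mem_univ x) : x = _).trans (hu.ge (Set.mem_univ y) : y = _).symm

end Comm

variable (G : Over (Spec (CommRingCat.of k))) [GrpObj G] [Smooth G.hom] [QuasiCompact G.hom] [ConnectedSpace G.left]

/-- An affine normal subgroup with abelian quotient. -/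
theorem exists_affine_normal : ∃ (N : Over (Spec (CommRingCat.of k))) (_ : GrpObj N) (i : N ⟶ G)
    (A : Over (Spec (CommRingCat.of k))) (_ : GrpObj A) (q : G ⟶ A), IsMonHom i ∧ IsClosedImmersion i.left ∧
      IsAffine N.left ∧ IsMonHom q ∧ Flat q.left ∧ Surjective q.left ∧ AlgGrp.IsKernel i q ∧ IsProper A.hom := by
  obtain ⟨M, iM, κ, hκ, hκc, hMl, hMq, hMb, I, iI, p, hp, hI, hIl, hpf, hps, hker⟩ := AntiAffineParts.exists_ant G
  haveI := hκ; haveI := hκc; haveI := hMl; haveI := hMq; haveI := hp; haveI := hI; haveI := hIl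
  have hMb' : Function.Bijective ((Scheme.ΓSpecIso (CommRingCat.of k)).inv ≫ M.hom.appTop).hom :=
    (GrpSchLib.AntiAffine.bijective_appTop_iff M.hom).mpr hMb
  obtain ⟨hMc, hMcomm⟩ := S3293.result k M hMb'
  haveI := hMc; haveI := hMcomm
  haveI : Smooth M.hom := GrpSchLib.AntiAffineSmooth.smooth hMb
  obtain ⟨L, iL, l, A, iA, m, hl, hlc, hLs, hLq, hLc, hLa, hm, hmf, hms, hmk, hA, hAs, hAc⟩ := exists_comm M
  haveI := hl; haveI := hlc; haveI := hLs; haveI := hLq; haveI := hLc; haveI := hLa; haveI := hm; haveI := hmf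
  haveI := hms; haveI := hA; haveI := hAs; haveI := hAc
  haveI : IsMonHom (l ≫ κ) := inferInstance
  haveI : IsClosedImmersion (l ≫ κ).left := inferInstanceAs (IsClosedImmersion (l.left ≫ κ.left))
  have hn : AlgGrp.IsNormalHom (l ≫ κ) := fun T g n => ⟨n, by
    have h := S7996.result k M G hMb' κ T (n ≫ l) T (𝟙 T) g
    simp only [Category.id_comp, Category.assoc] at h
    rw [← h, mul_inv_cancel_right]⟩
  obtain ⟨G', iG', π, hπ, hπf, hπs, hG'l, hG'q, hπk⟩ := exists_quotient (l ≫ κ) hn
  haveI := hπ; haveI := hπf; haveI := hπs; haveI := hG'l; haveI := hG'q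
  haveI : Smooth G'.hom := GrpSchLib.smooth_of_quotient π
  haveI : ConnectedSpace G'.left := π.left.surjective.connectedSpace π.left.continuous
  haveI := quasiCompact_of_grp m
  obtain ⟨a, ha, hma, -⟩ := S3280.result k M L A G' m l hmk (κ ≫ π) (by
    rw [← Category.assoc]; exact hπk.w)
  haveI := ha
  haveI : Mono κ := (Over.forget _).mono_of_mono_map (inferInstanceAs (Mono κ.left))
  haveI : Mono a := by
    refine AVFactor.mono_of_kernel m a l hmk (IsPullback.of_isLimit' ⟨?_⟩ (PullbackCone.isLimitAux' _ fun s => ?_))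
    · rw [hma, ← Category.assoc]; exact hπk.w
    · have h : (s.fst ≫ κ) ≫ π = 1 := by
        rw [Category.assoc, ← hma]
        exact s.condition.trans (congrArg (· ≫ η[G']) (toUnit_unique s.snd (toUnit s.pt)))
      refine ⟨hπk.lift (s.fst ≫ κ) (toUnit _) h, ?_, toUnit_unique _ _, fun {z} h1 _ => ?_⟩
      · rw [← cancel_mono κ, Category.assoc]
        exact hπk.lift_fst _ _ _
      · refine hπk.hom_ext ?_ (toUnit_unique _ _)
        rw [hπk.lift_fst]
        rw [← Category.assoc]
        exact congrArg (· ≫ κ) h1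
  haveI := quasiCompact_of_grp a
  haveI : IsClosedImmersion a.left := S3036.result k A G' a
  obtain ⟨φ₀, n, hn0, hφ₀⟩ := S8053.result k G' A a
  let φ : G' ⟶ A := (toUnit G' ≫ η[G'] ≫ φ₀)⁻¹ * φ₀
  have hφ1 : η[G'] ≫ φ = 1 := by
    simp only [φ, MonObj.comp_mul, GrpObj.comp_inv, ← Category.assoc]
    rw [toUnit_unique (η[G'] ≫ toUnit G') (𝟙 _), Category.id_comp, inv_mul_cancel]
  haveI : IsMonHom φ := AVFactor.isMonHom_of_one φ hφ1
  have haφ : a ≫ φ = 𝟙 A ^ n := by
    have h := hφ₀ A 1 (𝟙 A)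
    rw [_root_.one_mul, Category.id_comp] at h
    simp only [φ, MonObj.comp_mul, GrpObj.comp_inv, ← Category.assoc]
    rw [h, toUnit_unique (a ≫ toUnit G') (toUnit A)]
    have h1 : (1 : A ⟶ G') = toUnit A ≫ η[G'] := Hom.one_def
    rw [h1, inv_mul_cancel_left]
  let ψ : G ⟶ A := π ≫ φ
  haveI : GeometricallyIntegral A.hom := AVFactor.geometricallyIntegral_smooth A
  haveI := AVMulN.surjective_pow (A := A) n hn0
  haveI hpowf := AVMulN.isFinite_pow (A := A) n hn0
  have hκψ : κ ≫ ψ = m ≫ (𝟙 A ^ n) := by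
    rw [← haφ, reassoc_of% hma]
  haveI : Surjective (κ.left ≫ ψ.left) := by
    rw [← Over.comp_left, hκψ, Over.comp_left]; infer_instance
  haveI : Surjective ψ.left := Surjective.of_comp κ.left ψ.left
  haveI := quasiCompact_of_grp ψ
  haveI : IsReduced A.left := GrpSchLib.isReduced_of_smooth_field A.hom
  haveI : Flat ψ.left := GrpSchLib.flat_of_surjective_hom ψ
  haveI := GrpSchLib.AntiAffine.isSeparated_grp A
  obtain ⟨N, iN, i, hi, hic, -, hk⟩ := GrpSchLib.exists_kernel ψ
  haveI := hi; haveI := hic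
  refine ⟨N, iN, i, A, iA, ψ, hi, hic, ?_, inferInstance, inferInstance, inferInstance, hk, hA⟩
  haveI : LocallyOfFiniteType N.hom := by rw [← Over.w i]; infer_instance
  haveI : QuasiCompact N.hom := by rw [← Over.w i]; infer_instance
  -- the part in the anti-affine group
  haveI : IsMonHom (𝟙 A ^ n : A ⟶ A) := haφ ▸ inferInstanceAs (IsMonHom (a ≫ φ))
  obtain ⟨Kn, iKn, e, he, hec, -, hek⟩ := GrpSchLib.exists_kernel (m ≫ (𝟙 A ^ n : A ⟶ A))
  haveI := he; haveI := hec
  haveI : LocallyOfFiniteType Kn.hom := by rw [← Over.w e]; infer_instance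
  haveI : QuasiCompact Kn.hom := by rw [← Over.w e]; infer_instance
  haveI : IsAffine Kn.left := by
    obtain ⟨An, iAn, t, ht, htc, -, htk⟩ := GrpSchLib.exists_kernel (𝟙 A ^ n : A ⟶ A)
    haveI := ht; haveI := htc
    haveI : LocallyOfFiniteType An.hom := by rw [← Over.w t]; infer_instance
    haveI : IsFinite An.hom :=
      MorphismProperty.of_isPullback (P := @IsFinite) (htk.map (Over.forget _)) hpowf
    haveI : IsAffine An.left := isAffine_of_isAffineHom An.hom
    obtain ⟨f, hf⟩ := exists_lift_kernel t _ htk (e ≫ m) (by rw [Category.assoc]; exact hek.w)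
    haveI : Mono t := (Over.forget _).mono_of_mono_map (inferInstanceAs (Mono t.left))
    haveI : IsMonHom f := by
      constructor
      · rw [← cancel_mono t, Category.assoc, hf, IsMonHom.one_hom t, IsMonHom.one_hom]
      · rw [← cancel_mono t, Category.assoc, hf, Category.assoc, IsMonHom.mul_hom t, IsMonHom.mul_hom,
          ← Category.assoc (f ⊗ₘ f), MonoidalCategory.tensorHom_comp_tensorHom, hf]
    haveI := GrpSchLib.AntiAffine.isSeparated_grp An
    obtain ⟨K, iK, c, hc, hcc, -, hKk⟩ := GrpSchLib.exists_kernel f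
    haveI := hc; haveI := hcc
    haveI := GrpSchLib.AntiAffine.isSeparated_grp L
    obtain ⟨d, hd⟩ := exists_lift_kernel l m hmk (c ≫ e) (by
      rw [Category.assoc, ← hf, ← Category.assoc, show c ≫ f = 1 from hKk.w, MonObj.one_comp])
    haveI : IsClosedImmersion (d.left ≫ l.left) := by
      rw [← Over.comp_left, hd]; exact inferInstanceAs (IsClosedImmersion (c.left ≫ e.left))
    haveI : IsClosedImmersion d.left := IsClosedImmersion.of_comp d.left l.left
    haveI : IsAffine K.left := isAffine_of_isAffineHom d.left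
    exact isAffine_of_ker f c hKk
  haveI := GrpSchLib.AntiAffine.isSeparated_grp I
  obtain ⟨K, iK, c, hc, hcc, -, hKk⟩ := GrpSchLib.exists_kernel (i ≫ p)
  haveI := hc; haveI := hcc
  obtain ⟨d, hd⟩ := exists_lift_kernel κ p hker (c ≫ i) (by rw [Category.assoc]; exact hKk.w)
  obtain ⟨d', hd'⟩ := exists_lift_kernel e (m ≫ (𝟙 A ^ n : A ⟶ A)) hek d (by
    rw [← hκψ, reassoc_of% hd, show i ≫ ψ = 1 from hk.w, MonObj.comp_one])
  haveI := GrpSchLib.AntiAffine.isSeparated_grp Kn
  haveI : IsClosedImmersion (d'.left ≫ e.left ≫ κ.left) := by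
    rw [← Over.comp_left, ← Over.comp_left, reassoc_of% hd', hd]
    exact inferInstanceAs (IsClosedImmersion (c.left ≫ i.left))
  haveI : IsClosedImmersion d'.left := IsClosedImmersion.of_comp d'.left (e.left ≫ κ.left)
  haveI : IsAffine K.left := isAffine_of_isAffineHom d'.left
  exact isAffine_of_ker (i ≫ p) c hKk

/-- The structure theorem over an algebraically closed field. -/
theorem exists_decomp : ∃ (N : Over (Spec (CommRingCat.of k))) (_ : GrpObj N) (i : N ⟶ G)
    (Q : Over (Spec (CommRingCat.of k))) (_ : GrpObj Q) (q : G ⟶ Q), IsMonHom i ∧ IsClosedImmersion i.left ∧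
      Smooth N.hom ∧ QuasiCompact N.hom ∧ ConnectedSpace N.left ∧ IsAffine N.left ∧ AlgGrp.IsNormalHom i ∧
      IsMonHom q ∧ Flat q.left ∧ Surjective q.left ∧ AlgGrp.IsKernel i q ∧ IsProper Q.hom ∧ Smooth Q.hom ∧
      ConnectedSpace Q.left := by
  obtain ⟨N₁, iN₁, i₁, A, iA, q₁, hi₁, hic₁, hN₁a, hq₁, hqf₁, hqs₁, hk₁, hA⟩ := exists_affine_normal G
  haveI := hi₁; haveI := hic₁; haveI := hN₁a; haveI := hq₁; haveI := hqf₁; haveI := hqs₁; haveI := hA
  haveI : LocallyOfFiniteType N₁.hom := by rw [← Over.w i₁]; infer_instance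
  haveI : QuasiCompact N₁.hom := by rw [← Over.w i₁]; infer_instance
  obtain ⟨R, iR, r, hr, hrc, hRr, hrs, hRl, hRq⟩ := GrpSchLib.RedSubgroup.exists_redSubgroup N₁
  haveI := hr; haveI := hrc; haveI := hRr; haveI := hrs; haveI := hRl; haveI := hRq
  haveI : Smooth R.hom := GrpSchLib.smooth_of_perfectField_of_isReduced R
  haveI : IsAffine R.left := isAffine_of_isAffineHom r.left
  obtain ⟨N, iN, c, hc, hcc, hcf, hcr, hgi, hNc⟩ := GrpSchLib.exists_identityComponent (G := R)
  haveI := hc; haveI := hcc; haveI := hcf; haveI := hgi; haveI := hNc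
  haveI : IsLocallyNoetherian R.left := LocallyOfFiniteType.isLocallyNoetherian R.hom
  haveI : IsOpenImmersion c.left := IsOpenImmersion.of_flat_of_mono c.left
  haveI : Smooth N.hom := by rw [← Over.w c]; infer_instance
  haveI : QuasiCompact N.hom := by rw [← Over.w c]; infer_instance
  haveI : IrreducibleSpace N.left := GeometricallyIrreducible.irreducibleSpace N.hom N.hom.isOpenMap
  haveI : ConnectedSpace N.left := inferInstance
  haveI : IsAffine N.left := isAffine_of_isAffineHom c.left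
  let i : N ⟶ G := c ≫ r ≫ i₁
  haveI : IsClosedImmersion i.left := inferInstanceAs (IsClosedImmersion (c.left ≫ r.left ≫ i₁.left))
  -- normality
  have hn : AlgGrp.IsNormalHom i := by
    let f : G ⊗ N ⟶ G := fst G N * (snd G N ≫ i) * (fst G N)⁻¹
    have hf1 : f ≫ q₁ = 1 := by
      simp only [f, MonObj.mul_comp, GrpObj.inv_comp, i, Category.assoc, show i₁ ≫ q₁ = 1 from hk₁.w, MonObj.comp_one,
        _root_.mul_one, mul_inv_cancel]
    obtain ⟨f₁, hf₁⟩ := exists_lift_kernel i₁ q₁ hk₁ f hf1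
    haveI : IsReduced (G ⊗ N).left := GrpSchLib.isReduced_of_smooth_field (pullback.fst G.hom N.hom ≫ G.hom)
    haveI := connectedSpace_tensor G N
    obtain ⟨f₂, hf₂⟩ := exists_lift_range r f₁ (by rw [r.left.surjective.range_eq]; exact Set.subset_univ _)
    obtain ⟨f₃, hf₃⟩ := exists_lift_range c f₂ (by
      rw [hcr]
      have h1 : η[R].left (IsLocalRing.closedPoint k) ∈ Set.range f₂.left := by
        refine ⟨(lift (1 : Pt G) (1 : Pt N)).left (IsLocalRing.closedPoint k), ?_⟩
        rw [← Scheme.Hom.comp_apply, ← Over.comp_left]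
        haveI : Mono r := (Over.forget _).mono_of_mono_map (inferInstanceAs (Mono r.left))
        haveI : Mono i₁ := (Over.forget _).mono_of_mono_map (inferInstanceAs (Mono i₁.left))
        have : lift (1 : Pt G) (1 : Pt N) ≫ f₂ = η[R] := by
          rw [← cancel_mono r, ← cancel_mono i₁, Category.assoc, Category.assoc, reassoc_of% hf₂, hf₁,
            IsMonHom.one_hom r, IsMonHom.one_hom i₁, MonObj.one_eq_one]
          simp only [f, MonObj.comp_mul, GrpObj.comp_inv, lift_fst, lift_snd_assoc, MonObj.one_comp, _root_.inv_one,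
            _root_.mul_one]
        rw [this]
      exact (isPreconnected_range f₂.left.continuous).subset_connectedComponent h1)
    intro T g x
    refine ⟨lift g x ≫ f₃, ?_⟩
    show g * (x ≫ i) * g⁻¹ = (lift g x ≫ f₃) ≫ c ≫ r ≫ i₁
    rw [Category.assoc, reassoc_of% hf₃, reassoc_of% hf₂, hf₁]
    simp only [f, MonObj.comp_mul, GrpObj.comp_inv, lift_fst, lift_snd_assoc]
  obtain ⟨Q, iQ, q, hq, hqf, hqs, hQl, hQq, hk⟩ := exists_quotient i hn
  haveI := hq; haveI := hqf; haveI := hqs; haveI := hQl; haveI := hQq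
  haveI : Smooth Q.hom := GrpSchLib.smooth_of_quotient q
  haveI : ConnectedSpace Q.left := q.left.surjective.connectedSpace q.left.continuous
  refine ⟨N, iN, i, Q, iQ, q, inferInstance, inferInstance, inferInstance, inferInstance, inferInstance,
    inferInstance, hn, hq, hqf, hqs, hk, ?_, inferInstance, inferInstance⟩
  haveI := quasiCompact_of_grp q
  obtain ⟨h, hh, hqh, -⟩ := S3280.result k G N Q A q i hk q₁ (by
    rw [show i ≫ q₁ = c ≫ r ≫ i₁ ≫ q₁ by simp only [i, Category.assoc], show i₁ ≫ q₁ = 1 from hk₁.w, MonObj.comp_one,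
      MonObj.comp_one]
    exact Hom.one_def)
  haveI := hh
  haveI := quasiCompact_of_grp h
  suffices IsFinite h.left by rw [← Over.w h]; infer_instance
  refine GrpSchLib.HomFinite.isFinite_of_discrete_ker h ?_
  let K₀ := pullback h.left η[A].left
  haveI : IsClosedImmersion η[A].left := by
    haveI := GrpSchLib.AntiAffine.isSeparated_grp A
    haveI : IsClosedImmersion (η[A].left ≫ A.hom) := by
      rw [Over.w η[A]]; exact inferInstanceAs (IsClosedImmersion (𝟙 (Spec (CommRingCat.of k))))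
    exact IsClosedImmersion.of_comp η[A].left A.hom
  haveI : JacobsonSpace K₀ := LocallyOfFiniteType.jacobsonSpace (pullback.fst h.left η[A].left ≫ Q.hom)
  suffices Finite K₀ by infer_instance
  -- the kernel is covered by the images of the finitely many components
  have hfin : ((r ≫ i₁ ≫ q).left '' Set.univ).Finite := by
    haveI : CompactSpace R.left := QuasiCompact.compactSpace_of_compactSpace R.hom
    have hop : ∀ y : Pt R, IsOpen ((tr y).left '' Set.range c.left) := fun y =>
      (tr y).left.isOpenEmbedding.isOpenMap _ c.left.isOpenEmbedding.isOpen_range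
    have hcov : (⋃ y : Pt R, (tr y).left '' Set.range c.left) = Set.univ := by
      by_contra hne
      obtain ⟨y, hy⟩ := exists_pt (G := R) (S := (⋃ y : Pt R, (tr y).left '' Set.range c.left)ᶜ)
        (Set.nonempty_compl.mpr hne) (isOpen_iUnion hop).isClosed_compl.isLocallyClosed
      refine hy (Set.mem_iUnion.mpr ⟨y, pimg (1 : Pt R), ?_, ?_⟩)
      · rw [hcr, ← MonObj.one_eq_one]; exact mem_connectedComponent
      · rw [← pimg_mul, _root_.mul_one]
    obtain ⟨s, hs⟩ := isCompact_univ.elim_finite_subcover _ hop hcov.ge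
    refine (s.finite_toSet.image fun y : Pt R => pimg (y ≫ r ≫ i₁ ≫ q)).subset ?_
    rintro _ ⟨z, -, rfl⟩
    obtain ⟨y, hy, hz⟩ := Set.mem_iUnion₂.mp (hs (Set.mem_univ z))
    obtain ⟨_, ⟨w, rfl⟩, rfl⟩ := hz
    refine ⟨y, hy, ?_⟩
    have e : c ≫ tr y ≫ r ≫ i₁ ≫ q = toUnit N ≫ y ≫ r ≫ i₁ ≫ q := by
      rw [← Category.assoc, comp_tr, MonObj.mul_comp, Category.assoc,
        show c ≫ r ≫ i₁ ≫ q = 1 by rw [← Category.assoc r, ← Category.assoc c]; exact hk.w.trans (Hom.one_def).symm,
        _root_.mul_one]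
    show pimg (y ≫ r ≫ i₁ ≫ q) = (r ≫ i₁ ≫ q).left ((tr y).left (c.left w))
    rw [← Scheme.Hom.comp_apply, ← Scheme.Hom.comp_apply, ← Over.comp_left, ← Over.comp_left, e,
      Over.comp_left, Scheme.Hom.comp_apply]
    exact congrArg (y ≫ r ≫ i₁ ≫ q).left (Subsingleton.elim (α := PrimeSpectrum k) _ _)
  haveI := hfin.to_subtype
  refine Finite.of_injective (fun z => (⟨pullback.fst h.left η[A].left z, ?_⟩ :
    ((r ≫ i₁ ≫ q).left '' Set.univ : Set Q.left))) fun z z' e => ?_
  · obtain ⟨x, hx⟩ := q.left.surjective (pullback.fst h.left η[A].left z)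
    have hx' : x ∈ Set.range i₁.left := by
      have hsq := hk₁.map (Over.forget _)
      have hh2 : q₁.left x = η[A].left (pullback.snd h.left η[A].left z) := by
        rw [← hqh, Over.comp_left, Scheme.Hom.comp_apply, hx, ← Scheme.Hom.comp_apply, pullback.condition,
          Scheme.Hom.comp_apply]
      obtain ⟨w, hw1, -⟩ := Scheme.Pullback.exists_preimage_pullback x _ hh2
      refine ⟨hsq.isoPullback.inv w, ?_⟩
      refine Eq.trans ?_ hw1
      exact congrArg (fun m : _ ⟶ G.left => m w) hsq.isoPullback_inv_fst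
    obtain ⟨w, rfl⟩ := hx'
    obtain ⟨v, rfl⟩ := r.left.surjective w
    exact ⟨v, trivial, hx⟩
  · exact (pullback.fst h.left η[A].left).isClosedEmbedding.injective (congrArg Subtype.val e)

end

end Groth.Agent.Deform.Chev
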