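import Groth.Agent.Deform.Chev.AlgClosed
import Groth.Agent.S2349

/-!
# The structure theorem for possibly disconnected groups over an algebraically closed field
-/

universe u

open CategoryTheory CategoryTheory.Limits MonoidalCategory CartesianMonoidalCategory MonObj GrpObj AlgebraicGeometry

attribute [local instance] CategoryTheory.Hom.monoid CategoryTheory.Hom.group
set_option linter.style.haveILetI false
set_option linter.unusedSectionVars false

namespace Groth.Agent.Deform.Chev

noncomputable section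

variable {k : Type u} [Field k]

/-- The neutral component of a smooth group. -/
theorem exists_neutral (G : Over (Spec (CommRingCat.of k))) [GrpObj G] [Smooth G.hom] [QuasiCompact G.hom] :
    ∃ (G₀ : Over (Spec (CommRingCat.of k))) (_ : GrpObj G₀) (i₀ : G₀ ⟶ G), IsMonHom i₀ ∧
      IsClosedImmersion i₀.left ∧ IsOpenImmersion i₀.left ∧ Smooth G₀.hom ∧ QuasiCompact G₀.hom ∧
      ConnectedSpace G₀.left ∧ Set.range i₀.left = connectedComponent (η[G].left (IsLocalRing.closedPoint k)) := by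
  obtain ⟨G₀, iG₀, c, hc, hcc, hcf, hcr, hgi, hGc⟩ := GrpSchLib.exists_identityComponent (G := G)
  haveI := hc; haveI := hcc; haveI := hcf; haveI := hgi
  haveI : IsLocallyNoetherian G.left := LocallyOfFiniteType.isLocallyNoetherian G.hom
  haveI : IsOpenImmersion c.left := IsOpenImmersion.of_flat_of_mono c.left
  haveI : Smooth G₀.hom := by rw [← Over.w c]; infer_instance
  haveI : QuasiCompact G₀.hom := by rw [← Over.w c]; infer_instance
  haveI : IrreducibleSpace G₀.left := GeometricallyIrreducible.irreducibleSpace G₀.hom G₀.hom.isOpenMap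
  exact ⟨G₀, iG₀, c, hc, hcc, inferInstance, inferInstance, inferInstance, inferInstance, hcr⟩

/-- A pointed map from a connected scheme lands in the neutral component. -/
theorem exists_lift_neutral {G G₀ T : Over (Spec (CommRingCat.of k))} [GrpObj G] [IsReduced T.left]
    [PreconnectedSpace T.left] (i₀ : G₀ ⟶ G) [IsClosedImmersion i₀.left]
    (hr : Set.range i₀.left = connectedComponent (η[G].left (IsLocalRing.closedPoint k))) (f : T ⟶ G) (t : Pt T)
    (ht : t ≫ f = 1) : ∃ g : T ⟶ G₀, g ≫ i₀ = f := by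
  refine exists_lift_range i₀ f (hr ▸ ?_)
  have h1 : η[G].left (IsLocalRing.closedPoint k) ∈ Set.range f.left :=
    ⟨pimg t, by show pimg (t ≫ f) = _; rw [ht, ← MonObj.one_eq_one]; rfl⟩
  exact (isPreconnected_range f.left.continuous).subset_connectedComponent h1

variable [IsAlgClosed k]

/-- A group with proper neutral component is proper. -/
theorem isProper_of_neutral {G G₀ : Over (Spec (CommRingCat.of k))} [GrpObj G] [Smooth G.hom] [QuasiCompact G.hom]
    (i₀ : G₀ ⟶ G) [IsClosedImmersion i₀.left] [IsOpenImmersion i₀.left]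
    (hr : Set.range i₀.left = connectedComponent (η[G].left (IsLocalRing.closedPoint k))) [IsProper G₀.hom] :
    IsProper G.hom := by
  haveI : CompactSpace G.left := QuasiCompact.compactSpace_of_compactSpace G.hom
  haveI := GrpSchLib.AntiAffine.isSeparated_grp G
  have hop : ∀ y : Pt G, IsOpen ((tr y).left '' Set.range i₀.left) := fun y =>
    (tr y).left.isOpenEmbedding.isOpenMap _ i₀.left.isOpenEmbedding.isOpen_range
  have hcov : (⋃ y : Pt G, (tr y).left '' Set.range i₀.left) = Set.univ := by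
    by_contra hne
    obtain ⟨y, hy⟩ := exists_pt (G := G) (S := (⋃ y : Pt G, (tr y).left '' Set.range i₀.left)ᶜ)
      (Set.nonempty_compl.mpr hne) (isOpen_iUnion hop).isClosed_compl.isLocallyClosed
    refine hy (Set.mem_iUnion.mpr ⟨y, pimg (1 : Pt G), ?_, ?_⟩)
    · rw [hr, ← MonObj.one_eq_one]; exact mem_connectedComponent
    · rw [← pimg_mul, _root_.mul_one]
  obtain ⟨s, hs⟩ := isCompact_univ.elim_finite_subcover _ hop hcov.ge
  refine (S2349.result G.hom (ULift.{u} s) (fun _ => G₀.left) (fun _ => Spec (CommRingCat.of k))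
    (fun y => i₀.left ≫ (tr y.down.1).left) (fun _ => 𝟙 _) (fun _ => G₀.hom) (fun y => ?_) fun x => ?_).mpr
      fun _ => inferInstance
  · rw [Category.comp_id, Category.assoc, Over.w, Over.w]
  · obtain ⟨y, hy, hx⟩ := Set.mem_iUnion₂.mp (hs (Set.mem_univ x))
    obtain ⟨_, ⟨w, rfl⟩, rfl⟩ := hx
    exact ⟨⟨⟨y, hy⟩⟩, w, rfl⟩

/-- The structure theorem: the largest connected affine normal subgroup. -/
theorem exists_affPart (G : Over (Spec (CommRingCat.of k))) [GrpObj G] [Smooth G.hom] [QuasiCompact G.hom] :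
    ∃ (N : Over (Spec (CommRingCat.of k))) (_ : GrpObj N) (i : N ⟶ G)
      (G₀ : Over (Spec (CommRingCat.of k))) (_ : GrpObj G₀) (i₀ : G₀ ⟶ G) (j : N ⟶ G₀)
      (Q : Over (Spec (CommRingCat.of k))) (_ : GrpObj Q) (q : G₀ ⟶ Q),
      (IsMonHom i ∧ IsClosedImmersion i.left ∧ Smooth N.hom ∧ QuasiCompact N.hom ∧ ConnectedSpace N.left ∧
        IsAffine N.left ∧ AlgGrp.IsNormalHom i ∧ j ≫ i₀ = i) ∧
      (IsMonHom i₀ ∧ IsClosedImmersion i₀.left ∧ IsOpenImmersion i₀.left ∧ Smooth G₀.hom ∧ QuasiCompact G₀.hom ∧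
        ConnectedSpace G₀.left ∧ Set.range i₀.left = connectedComponent (η[G].left (IsLocalRing.closedPoint k))) ∧
      (IsMonHom q ∧ Flat q.left ∧ Surjective q.left ∧ AlgGrp.IsKernel j q ∧ IsProper Q.hom ∧ Smooth Q.hom ∧
        ConnectedSpace Q.left) ∧
      ∀ (H : Over (Spec (CommRingCat.of k))) [GrpObj H] (h : H ⟶ G) [IsMonHom h] [Smooth H.hom]
        [ConnectedSpace H.left] [IsAffine H.left], ∃ f : H ⟶ N, f ≫ i = h := by
  obtain ⟨G₀, iG₀, i₀, hi₀, hc₀, ho₀, hs₀, hq₀, hcon₀, hr₀⟩ := exists_neutral G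
  haveI := hi₀; haveI := hc₀; haveI := ho₀; haveI := hs₀; haveI := hq₀; haveI := hcon₀
  obtain ⟨N, iN, j, Q, iQ, q, hj, hjc, hNs, hNq, hNc, hNa, -, hq, hqf, hqs, hk, hQ, hQs, hQc⟩ := exists_decomp G₀
  haveI := hj; haveI := hjc; haveI := hNs; haveI := hNq; haveI := hNc; haveI := hNa; haveI := hq; haveI := hQ
  haveI : IsClosedImmersion (j ≫ i₀).left := inferInstanceAs (IsClosedImmersion (j.left ≫ i₀.left))
  have hlarge : ∀ (H : Over (Spec (CommRingCat.of k))) [GrpObj H] (h : H ⟶ G) [IsMonHom h] [Smooth H.hom]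
      [ConnectedSpace H.left] [IsAffine H.left], ∃ f : H ⟶ N, f ≫ (j ≫ i₀) = h := by
    intro H _ h _ _ _ _
    haveI : IsReduced H.left := GrpSchLib.isReduced_of_smooth_field H.hom
    obtain ⟨g, hg⟩ := exists_lift_neutral i₀ hr₀ h 1 (by rw [MonObj.one_comp])
    haveI : Mono i₀ := (Over.forget _).mono_of_mono_map (inferInstanceAs (Mono i₀.left))
    haveI : IsMonHom g := by
      constructor
      · rw [← cancel_mono i₀, Category.assoc, hg, IsMonHom.one_hom i₀, IsMonHom.one_hom]
      · rw [← cancel_mono i₀, Category.assoc, hg, Category.assoc, IsMonHom.mul_hom i₀, IsMonHom.mul_hom,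
          ← Category.assoc (g ⊗ₘ g), MonoidalCategory.tensorHom_comp_tensorHom, hg]
    obtain ⟨f, hf⟩ := exists_lift_kernel j q hk g (AVFactor.eq_one_of_affine (g ≫ q) ▸ rfl)
    exact ⟨f, by rw [reassoc_of% hf, hg]⟩
  have hn : AlgGrp.IsNormalHom (j ≫ i₀) := by
    let f : G ⊗ N ⟶ G := fst G N * (snd G N ≫ j ≫ i₀) * (fst G N)⁻¹
    haveI : IsReduced (G ⊗ N).left := GrpSchLib.isReduced_of_smooth_field (pullback.fst G.hom N.hom ≫ G.hom)
    haveI : LocallyOfFiniteType (G ⊗ N).hom := inferInstanceAs (LocallyOfFiniteType (pullback.fst G.hom N.hom ≫ G.hom))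
    obtain ⟨f', hf'⟩ := exists_lift_range (j ≫ i₀) f (mem_of_pts f (j ≫ i₀).left.isClosedEmbedding.isClosed_range
      fun t => by
        let g := t ≫ fst G N
        let cg : N ⟶ G := (toUnit N ≫ g) * (j ≫ i₀) * (toUnit N ≫ g)⁻¹
        haveI : IsMonHom cg := by
          have hmul : ∀ {T : Over (Spec (CommRingCat.of k))} (a b : T ⟶ N), (a * b) ≫ cg = (a ≫ cg) * (b ≫ cg) := by
            intro T a b
            simp only [cg, MonObj.comp_mul, GrpObj.comp_inv, comp_toUnit_assoc, MonObj.mul_comp]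
            group
          constructor
          · rw [MonObj.one_eq_one, MonObj.one_eq_one]
            simp only [cg, MonObj.comp_mul, GrpObj.comp_inv, comp_toUnit_assoc, MonObj.one_comp, _root_.mul_one,
              mul_inv_cancel]
          · rw [MonObj.mul_eq_mul, hmul, MonObj.mul_eq_mul (M := G), MonObj.comp_mul (cg ⊗ₘ cg) (fst G G) (snd G G),
              tensorHom_fst, tensorHom_snd]
        obtain ⟨d, hd⟩ := hlarge N cg
        refine ⟨pimg (t ≫ snd G N ≫ d), ?_⟩
        rw [← pimg_comp, Category.assoc, Category.assoc, hd]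
        congr 1
        simp only [f, cg, g, MonObj.comp_mul, GrpObj.comp_inv]
        rw [← Category.assoc (snd G N) (toUnit N), comp_toUnit, ← Category.assoc t (toUnit _), comp_toUnit,
          toUnit_unique (toUnit (𝟙_ (Over (Spec (CommRingCat.of k))))) (𝟙 _), Category.id_comp])
    intro T g x
    refine ⟨lift g x ≫ f', ?_⟩
    rw [Category.assoc, hf']
    simp only [f, MonObj.comp_mul, GrpObj.comp_inv, lift_fst, lift_snd_assoc]
  exact ⟨N, iN, j ≫ i₀, G₀, iG₀, i₀, j, Q, iQ, q, ⟨inferInstance, inferInstance, hNs, hNq, hNc, hNa, hn, rfl⟩,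
    ⟨hi₀, hc₀, ho₀, hs₀, hq₀, hcon₀, hr₀⟩, ⟨hq, hqf, hqs, hk, hQ, hQs, hQc⟩, hlarge⟩

/-- A quotient by the affine part has no connected affine subgroup. -/
theorem isIso_of_affine_quot {G N G₀ Q₀ Q H : Over (Spec (CommRingCat.of k))} [GrpObj G] [GrpObj N] [GrpObj G₀]
    [GrpObj Q₀] [GrpObj Q] [GrpObj H] [Smooth G.hom] [QuasiCompact G.hom] [LocallyOfFiniteType Q.hom]
    [QuasiCompact Q.hom] (i₀ : G₀ ⟶ G) [IsMonHom i₀] [IsClosedImmersion i₀.left] [IsOpenImmersion i₀.left]
    (hr : Set.range i₀.left = connectedComponent (η[G].left (IsLocalRing.closedPoint k)))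
    (j : N ⟶ G₀) [IsMonHom j] (q₀ : G₀ ⟶ Q₀) [IsMonHom q₀] [Flat q₀.left] [Surjective q₀.left] [IsProper Q₀.hom]
    (hk₀ : AlgGrp.IsKernel j q₀) (q : G ⟶ Q) [IsMonHom q] [Surjective q.left] [Flat q.left]
    (hk : AlgGrp.IsKernel (j ≫ i₀) q) (h : H ⟶ Q) [IsMonHom h] [IsClosedImmersion h.left] [Smooth H.hom]
    [ConnectedSpace H.left] [IsAffine H.left] : IsIso H.hom := by
  haveI : LocallyOfFiniteType G₀.hom := by rw [← Over.w i₀]; infer_instance
  haveI : QuasiCompact G₀.hom := by rw [← Over.w i₀]; infer_instance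
  haveI := quasiCompact_of_grp q₀
  obtain ⟨φ, hφ, hqφ, -⟩ := S3280.result k G₀ N Q₀ Q q₀ j hk₀ (i₀ ≫ q) (by
    rw [← Category.assoc]; exact hk.w)
  haveI := hφ
  haveI : Mono i₀ := (Over.forget _).mono_of_mono_map (inferInstanceAs (Mono i₀.left))
  haveI : Mono φ := by
    refine AVFactor.mono_of_kernel q₀ φ j hk₀ (IsPullback.of_isLimit' ⟨?_⟩ (PullbackCone.isLimitAux' _ fun s => ?_))
    · rw [hqφ, ← Category.assoc]; exact hk.w
    · have h : (s.fst ≫ i₀) ≫ q = 1 := by
        rw [Category.assoc, ← hqφ]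
        exact s.condition.trans (congrArg (· ≫ η[Q]) (toUnit_unique s.snd (toUnit s.pt)))
      refine ⟨hk.lift (s.fst ≫ i₀) (toUnit _) h, ?_, toUnit_unique _ _, fun {z} h1 _ => ?_⟩
      · rw [← cancel_mono i₀, Category.assoc]
        exact hk.lift_fst _ _ _
      · refine hk.hom_ext ?_ (toUnit_unique _ _)
        rw [hk.lift_fst]
        rw [← Category.assoc]
        exact congrArg (· ≫ i₀) h1
  haveI := quasiCompact_of_grp φ
  haveI : IsClosedImmersion φ.left := S3036.result k Q₀ Q φ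
  haveI : LocallyOfFiniteType q.left := by
    haveI : LocallyOfFiniteType (q.left ≫ Q.hom) := by rw [Over.w q]; infer_instance
    exact locallyOfFiniteType_of_comp q.left Q.hom
  haveI : IsLocallyNoetherian Q.left := LocallyOfFiniteType.isLocallyNoetherian Q.hom
  have hrange : Set.range φ.left = q.left '' Set.range i₀.left := by
    rw [← Set.range_comp]
    ext x
    constructor
    · rintro ⟨y, rfl⟩
      obtain ⟨z, rfl⟩ := q₀.left.surjective y
      exact ⟨z, congrArg (fun m : G₀ ⟶ Q => m.left z) hqφ.symm⟩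
    · rintro ⟨z, rfl⟩
      exact ⟨q₀.left z, congrArg (fun m : G₀ ⟶ Q => m.left z) hqφ⟩
  have hclopen : IsClopen (Set.range φ.left) :=
    ⟨φ.left.isClosedEmbedding.isClosed_range, hrange ▸ q.left.isOpenMap _ i₀.left.isOpenEmbedding.isOpen_range⟩
  haveI : IsReduced H.left := GrpSchLib.isReduced_of_smooth_field H.hom
  obtain ⟨g, hg⟩ := exists_lift_range φ h (by
    refine (isPreconnected_range h.left.continuous).subset_isClopen hclopen ⟨pimg (1 : Pt Q), ?_, ?_⟩
    · exact ⟨pimg (1 : Pt H), by rw [← pimg_comp, MonObj.one_comp]⟩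
    · exact ⟨pimg (1 : Pt Q₀), by rw [← pimg_comp, MonObj.one_comp]⟩)
  haveI : IsMonHom g := by
    constructor
    · rw [← cancel_mono φ, Category.assoc, hg, IsMonHom.one_hom φ, IsMonHom.one_hom]
    · rw [← cancel_mono φ, Category.assoc, hg, Category.assoc, IsMonHom.mul_hom φ, IsMonHom.mul_hom,
        ← Category.assoc (g ⊗ₘ g), MonoidalCategory.tensorHom_comp_tensorHom, hg]
  have h1 : h = 1 := by rw [← hg, AVFactor.eq_one_of_affine g, MonObj.one_comp]
  haveI : Mono h := (Over.forget _).mono_of_mono_map (inferInstanceAs (Mono h.left))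
  have h2 : 𝟙 H = (1 : H ⟶ H) := by rw [← cancel_mono h, Category.id_comp, MonObj.one_comp, h1]
  refine ⟨η[H].left, ?_, Over.w η[H]⟩
  exact (congrArg CommaMorphism.left (h2.trans Hom.one_def)).symm

end

end Groth.Agent.Deform.Chev
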