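import Groth.Agent.Deform.Chev.Components
import Groth.Agent.Deform.AntiAffineParts
import Groth.Agent.GrpSchLib.FieldDim
import Groth.Agent.VarDim.Fibre
import Groth.Prelude.Def_Red2

/-!
# The affine and the anti-affine part of a connected group
-/

universe u

open CategoryTheory CategoryTheory.Limits MonoidalCategory CartesianMonoidalCategory MonObj GrpObj AlgebraicGeometry

attribute [local instance] CategoryTheory.Hom.monoid CategoryTheory.Hom.group
set_option linter.style.haveILetI false
set_option linter.unusedSectionVars false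

namespace Groth.Agent.Deform.Chev.StructCor

noncomputable section

variable {k : Type u} [Field k] [IsAlgClosed k] {G N : Over (Spec (CommRingCat.of k))} [GrpObj G] [GrpObj N]

/-- The largest connected affine normal subgroup is the kernel of a map onto an abelian variety. -/
theorem exists_quot_of_max [Smooth G.hom] [QuasiCompact G.hom] [ConnectedSpace G.left] (i : N ⟶ G) [IsMonHom i]
    [IsClosedImmersion i.left] [Smooth N.hom] [ConnectedSpace N.left] [IsAffine N.left]
    (hNmax : ∀ (N' : Over (Spec (CommRingCat.of k))) [GrpObj N'] (i' : N' ⟶ G) [IsMonHom i']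
      [IsClosedImmersion i'.left] [Smooth N'.hom] [ConnectedSpace ↥N'.left] [IsAffine N'.left],
      AlgGrp.IsNormalHom i' → ∃ f : N' ⟶ N, f ≫ i = i') :
    ∃ (Q : Over (Spec (CommRingCat.of k))) (_ : GrpObj Q) (q : G ⟶ Q), IsMonHom q ∧ Flat q.left ∧
      Surjective q.left ∧ AlgGrp.IsKernel i q ∧ IsProper Q.hom ∧ Smooth Q.hom ∧ ConnectedSpace Q.left := by
  obtain ⟨N₀, iN₀, i₀, Q, iQ, q, hi₀, hic₀, hs₀, hq₀, hc₀, ha₀, hn₀, hq, hqf, hqs, hk, hQ, hQs, hQc⟩ := exists_decomp G
  letI := iN₀; letI := iQ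
  haveI := hi₀; haveI := hic₀; haveI := hs₀; haveI := hq₀; haveI := hc₀; haveI := ha₀; haveI := hq; haveI := hQ
  obtain ⟨f, hf⟩ := hNmax N₀ i₀ hn₀
  obtain ⟨g, hg⟩ := exists_lift_kernel i₀ q hk i (AVFactor.eq_one_of_affine (i ≫ q))
  haveI : Mono i := (Over.forget _).mono_of_mono_map (inferInstanceAs (Mono i.left))
  haveI : Mono i₀ := (Over.forget _).mono_of_mono_map (inferInstanceAs (Mono i₀.left))
  let e : N₀ ≅ N := ⟨f, g, by rw [← cancel_mono i₀, Category.assoc, hg, hf, Category.id_comp],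
    by rw [← cancel_mono i, Category.assoc, hf, hg, Category.id_comp]⟩
  exact ⟨Q, iQ, q, hq, hqf, hqs, IsPullback.of_iso hk e (Iso.refl _) (Iso.refl _) (Iso.refl _) (by simp [e, hf])
    (toUnit_unique _ _) (by simp) (by simp), hQ, hQs, hQc⟩

/-- Connected affine subgroups lie in the largest normal one. -/
theorem exists_lift_of_affine [Smooth G.hom] [QuasiCompact G.hom] [ConnectedSpace G.left] (i : N ⟶ G) [IsMonHom i]
    [IsClosedImmersion i.left] [Smooth N.hom] [ConnectedSpace N.left] [IsAffine N.left]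
    (hNmax : ∀ (N' : Over (Spec (CommRingCat.of k))) [GrpObj N'] (i' : N' ⟶ G) [IsMonHom i']
      [IsClosedImmersion i'.left] [Smooth N'.hom] [ConnectedSpace ↥N'.left] [IsAffine N'.left],
      AlgGrp.IsNormalHom i' → ∃ f : N' ⟶ N, f ≫ i = i')
    {H : Over (Spec (CommRingCat.of k))} [GrpObj H] [IsAffine H.left] [Smooth H.hom] [ConnectedSpace H.left]
    (h : H ⟶ G) [IsMonHom h] : ∃ g : H ⟶ N, g ≫ i = h := by
  obtain ⟨Q, iQ, q, hq, -, -, hk, hQ, -, -⟩ := exists_quot_of_max i hNmax
  haveI := hq; haveI := hQ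
  exact exists_lift_kernel i q hk h (AVFactor.eq_one_of_affine (h ≫ q))

theorem whiskerLeft_eq (X : Over (Spec (CommRingCat.of k))) {A B : Over (Spec (CommRingCat.of k))} (f : A ⟶ B) :
    X ◁ f = (β_ X A).hom ≫ (f ▷ X) ≫ (β_ X B).inv := by
  apply CartesianMonoidalCategory.hom_ext <;> simp

/-- A group covered by a commutative subgroup and a central one is commutative. -/
theorem isCommMonObj_of_cover [Smooth G.hom] [QuasiCompact G.hom] [IsCommMonObj N] (i : N ⟶ G) [IsMonHom i]
    {K : Over (Spec (CommRingCat.of k))} (κ : K ⟶ G)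
    (hc : ∀ {T : Over (Spec (CommRingCat.of k))} (a : T ⟶ K) (b : T ⟶ G), (a ≫ κ) * b = b * (a ≫ κ))
    [Surjective ((i ⊗ₘ κ) ≫ μ[G]).left] : IsCommMonObj G := by
  haveI : IsReduced G.left := GrpSchLib.isReduced_of_smooth_field G.hom
  haveI : IsReduced (G ⊗ G).left := GrpSchLib.isReduced_pullback_of_perfectField G.hom G.hom
  haveI := GrpSchLib.AntiAffine.isSeparated_grp G
  let m : N ⊗ K ⟶ G := (i ⊗ₘ κ) ≫ μ[G]
  have hm : m = (fst N K ≫ i) * (snd N K ≫ κ) := by
    rw [Hom.mul_def, ← lift_map, lift_fst_snd, Category.id_comp]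
  haveI : Surjective (m ⊗ₘ m).left := by
    rw [MonoidalCategory.tensorHom_def, Over.comp_left]
    haveI h1 : Surjective (m ▷ (N ⊗ K)).left := GrpSchLib.property_whiskerRight m _ @Surjective ‹_›
    haveI h2 : Surjective (G ◁ m).left := by
      haveI := GrpSchLib.property_whiskerRight m G @Surjective ‹_›
      have e : G ◁ m = (β_ G (N ⊗ K)).hom ≫ (m ▷ G) ≫ (β_ G G).inv := whiskerLeft_eq G m
      haveI : IsIso (β_ G (N ⊗ K)).hom.left := ((Over.forget _).mapIso (β_ G (N ⊗ K))).isIso_hom
      haveI : IsIso (β_ G G).inv.left := ((Over.forget _).mapIso (β_ G G)).isIso_inv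
      rw [e, Over.comp_left, Over.comp_left]
      infer_instance
    infer_instance
  haveI : IsDominant (m ⊗ₘ m).left := inferInstance
  have key : fst G G * snd G G = snd G G * fst G G := by
    refine Over.OverMorphism.ext (ext_of_isDominant_of_isSeparated G.hom (by rw [Over.w, Over.w]) (m ⊗ₘ m).left ?_)
    rw [← Over.comp_left, ← Over.comp_left]
    congr 1
    rw [MonObj.comp_mul, MonObj.comp_mul, tensorHom_fst, tensorHom_snd, hm]
    simp only [MonObj.comp_mul, ← Category.assoc]
    generalize (fst (N ⊗ K) (N ⊗ K) ≫ fst N K) = a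
    generalize (fst (N ⊗ K) (N ⊗ K) ≫ snd N K) = b
    generalize (snd (N ⊗ K) (N ⊗ K) ≫ fst N K) = c
    generalize (snd (N ⊗ K) (N ⊗ K) ≫ snd N K) = d
    have hac : (a ≫ i) * (c ≫ i) = (c ≫ i) * (a ≫ i) := by
      rw [← MonObj.mul_comp, ← MonObj.mul_comp, mul_comm]
    calc (a ≫ i) * (b ≫ κ) * ((c ≫ i) * (d ≫ κ))
        = (a ≫ i) * (c ≫ i) * ((b ≫ κ) * (d ≫ κ)) := by
          rw [_root_.mul_assoc, ← _root_.mul_assoc (b ≫ κ), hc b (c ≫ i)]
          simp only [_root_.mul_assoc]
      _ = (c ≫ i) * (a ≫ i) * ((d ≫ κ) * (b ≫ κ)) := by rw [hac, hc b (d ≫ κ)]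
      _ = (c ≫ i) * (d ≫ κ) * ((a ≫ i) * (b ≫ κ)) := by
          symm
          rw [_root_.mul_assoc, ← _root_.mul_assoc (d ≫ κ), hc d (a ≫ i)]
          simp only [_root_.mul_assoc]
  refine Deform.Extension.isCommMonObj_of fun T x y => ?_
  simpa [MonObj.comp_mul] using congrArg (lift x y ≫ ·) key

/-- The centre and the affine part cover a connected group, which is commutative iff its affine part is. -/
theorem centre_mul [Smooth G.hom] [QuasiCompact G.hom] [ConnectedSpace G.left] (i : N ⟶ G) [IsMonHom i]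
    [IsClosedImmersion i.left] [Smooth N.hom] [ConnectedSpace N.left] [IsAffine N.left]
    (hNmax : ∀ (N' : Over (Spec (CommRingCat.of k))) [GrpObj N'] (i' : N' ⟶ G) [IsMonHom i']
      [IsClosedImmersion i'.left] [Smooth N'.hom] [ConnectedSpace ↥N'.left] [IsAffine N'.left],
      AlgGrp.IsNormalHom i' → ∃ f : N' ⟶ N, f ≫ i = i')
    {Z : Over (Spec (CommRingCat.of k))} [GrpObj Z] (j : Z ⟶ G) (hZ : Red.IsCentre j) :
    Surjective ((j ⊗ₘ i) ≫ μ[G]).left ∧ (IsCommMonObj G ↔ IsCommMonObj N) := by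
  obtain ⟨Q, iQ, q, hq, hqf, hqs, hk, hQ, hQs, hQc⟩ := exists_quot_of_max i hNmax
  haveI := hq; haveI := hqs; haveI := hQ; haveI := hQc
  obtain ⟨K, iK, κ, hκ, hκc, hKl, hKq, hKb, I, iI, p, hp, hI, hIl, hpf, hps, hkp⟩ := AntiAffineParts.exists_ant G
  haveI := hκ; haveI := hKl; haveI := hKq; haveI := hp; haveI := hI; haveI := hIl; haveI := hpf; haveI := hps
  haveI := AntiAffineParts.surjective_proper hKb κ p hkp q
  have hs : Surjective ((i ⊗ₘ κ) ≫ μ[G]).left := AntiAffineParts.surjective_mul i q hk κ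
  have hc : ∀ {T : Over (Spec (CommRingCat.of k))} (a : T ⟶ K) (b : T ⟶ G), (a ≫ κ) * b = b * (a ≫ κ) :=
    fun a b => GrpSchLib.AntiAffine.commute hKb κ (by rw [IsMonHom.one_hom, MonObj.one_eq_one]) a b
  constructor
  · obtain ⟨z, hz⟩ := (hZ.2.2 K κ).mpr fun X' x h => by
      rw [Category.comp_id]
      exact hc x h
    have e : (lift (snd N K ≫ z) (fst N K) ≫ (j ⊗ₘ i) ≫ μ[G]) = (i ⊗ₘ κ) ≫ μ[G] := by
      rw [lift_map_assoc, ← Hom.mul_def, Category.assoc, hz, hc, Hom.mul_def, ← lift_map_assoc, lift_fst_snd,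
        Category.id_comp]
    haveI : Surjective ((lift (snd N K ≫ z) (fst N K)).left ≫ ((j ⊗ₘ i) ≫ μ[G]).left) := by
      rw [← Over.comp_left, e]; exact hs
    exact Surjective.of_comp (lift (snd N K ≫ z) (fst N K)).left _
  · refine ⟨fun hG => ?_, fun hN => ?_⟩
    · haveI : Mono i := (Over.forget _).mono_of_mono_map (inferInstanceAs (Mono i.left))
      refine Deform.Extension.isCommMonObj_of fun T x y => ?_
      rw [← cancel_mono i, MonObj.mul_comp, MonObj.mul_comp, mul_comm]
    · haveI := hs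
      exact isCommMonObj_of_cover i κ hc

/-- The largest anti-affine subgroup is the least subgroup which together with the affine part covers the group. -/
theorem antiAffine_least [Smooth G.hom] [QuasiCompact G.hom] [ConnectedSpace G.left] (i : N ⟶ G) [IsMonHom i]
    [IsClosedImmersion i.left] [Smooth N.hom] [ConnectedSpace N.left] [IsAffine N.left]
    (hNmax : ∀ (N' : Over (Spec (CommRingCat.of k))) [GrpObj N'] (i' : N' ⟶ G) [IsMonHom i']
      [IsClosedImmersion i'.left] [Smooth N'.hom] [ConnectedSpace ↥N'.left] [IsAffine N'.left],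
      AlgGrp.IsNormalHom i' → ∃ f : N' ⟶ N, f ≫ i = i')
    {M : Over (Spec (CommRingCat.of k))} [GrpObj M] (j : M ⟶ G) [IsMonHom j] [IsClosedImmersion j.left]
    (hM : Function.Bijective M.hom.appTop)
    (hMmax : ∀ (M' : Over (Spec (CommRingCat.of k))) [GrpObj M'] (j' : M' ⟶ G) [IsMonHom j']
      [IsClosedImmersion j'.left], Function.Bijective M'.hom.appTop → ∃ f : M' ⟶ M, f ≫ j = j') :
    Surjective ((i ⊗ₘ j) ≫ μ[G]).left ∧
      ∀ (H : Over (Spec (CommRingCat.of k))) [GrpObj H] (h : H ⟶ G) [IsMonHom h] [IsClosedImmersion h.left],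
        Surjective ((i ⊗ₘ h) ≫ μ[G]).left → ∃ f : M ⟶ H, f ≫ h = j := by
  obtain ⟨Q, iQ, q, hq, hqf, hqs, hk, hQ, hQs, hQc⟩ := exists_quot_of_max i hNmax
  haveI := hq; haveI := hqs; haveI := hQ; haveI := hQc
  haveI : Mono j := (Over.forget _).mono_of_mono_map (inferInstanceAs (Mono j.left))
  obtain ⟨K, iK, κ, hκ, hκc, hKl, hKq, hKb, I, iI, p, hp, hI, hIl, hpf, hps, hkp⟩ := AntiAffineParts.exists_ant G
  haveI := hκ; haveI := hκc; haveI := hKl; haveI := hKq; haveI := hp; haveI := hI; haveI := hIl; haveI := hpf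
  haveI := hps
  obtain ⟨u, hu⟩ := hMmax K κ hKb
  haveI := AntiAffineParts.surjective_proper hKb κ p hkp q
  haveI : Surjective (j ≫ q).left := by
    haveI : Surjective (u.left ≫ (j ≫ q).left) := by
      rw [← Over.comp_left, reassoc_of% hu]; infer_instance
    exact Surjective.of_comp u.left _
  refine ⟨AntiAffineParts.surjective_mul i q hk j, fun H _ h _ _ hsur => ?_⟩
  haveI : LocallyOfFiniteType H.hom := by rw [← Over.w h]; infer_instance
  haveI : QuasiCompact H.hom := by rw [← Over.w h]; infer_instance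
  haveI : LocallyOfFiniteType M.hom := by rw [← Over.w j]; infer_instance
  haveI : QuasiCompact M.hom := by rw [← Over.w j]; infer_instance
  haveI := hsur
  haveI : Surjective (h ≫ q).left := by
    have e : ((i ⊗ₘ h) ≫ μ[G]) ≫ q = snd N H ≫ h ≫ q := by
      rw [← Category.id_comp (i ⊗ₘ h), ← lift_fst_snd, lift_map, ← Hom.mul_def, MonObj.mul_comp, Category.assoc,
        show i ≫ q = 1 from hk.w, MonObj.comp_one, _root_.one_mul, Category.assoc]
    haveI : Surjective (((i ⊗ₘ h) ≫ μ[G]) ≫ q).left := by rw [Over.comp_left]; infer_instance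
    haveI : Surjective ((snd N H).left ≫ (h ≫ q).left) := by rw [← Over.comp_left, ← e]; infer_instance
    exact Surjective.of_comp (snd N H).left _
  obtain ⟨L, iL, l, hl, hlc, hLl, hLq, hLb, J, iJ, r, hr, hJ, hJl, hrf, hrs, hlr⟩ := AntiAffineParts.exists_ant H
  haveI := hl; haveI := hlc; haveI := hLl; haveI := hLq; haveI := hr; haveI := hJ; haveI := hJl; haveI := hrf
  haveI := hrs
  haveI := AntiAffineParts.surjective_proper hLb l r hlr (h ≫ q)
  haveI : IsClosedImmersion (l ≫ h).left := inferInstanceAs (IsClosedImmersion (l.left ≫ h.left))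
  obtain ⟨v, hv⟩ := hMmax L (l ≫ h) hLb
  haveI : IsMonHom v := by
    constructor
    · rw [← cancel_mono j, Category.assoc, hv, IsMonHom.one_hom j, IsMonHom.one_hom]
    · rw [← cancel_mono j, Category.assoc, hv, Category.assoc, IsMonHom.mul_hom j, IsMonHom.mul_hom,
        ← Category.assoc (v ⊗ₘ v), MonoidalCategory.tensorHom_comp_tensorHom, hv]
  haveI : IsClosedImmersion v.left := by
    haveI : IsClosedImmersion (v.left ≫ j.left) := by rw [← Over.comp_left, hv]; infer_instance
    exact IsClosedImmersion.of_comp v.left j.left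
  haveI : Surjective (v ≫ j ≫ q).left := by rw [reassoc_of% hv]; infer_instance
  -- the affine kernel of the map to the quotient
  obtain ⟨P, iP, w, hw, hwc, -, hkP⟩ := GrpSchLib.exists_kernel (j ≫ q)
  letI := iP
  haveI := hw; haveI := hwc
  have hwq : (w ≫ j) ≫ q = 1 := by rw [Category.assoc]; exact hkP.w
  obtain ⟨a, ha⟩ := exists_lift_kernel i q hk (w ≫ j) hwq
  haveI : IsClosedImmersion (a.left ≫ i.left) := by rw [← Over.comp_left, ha, Over.comp_left]; infer_instance
  haveI : IsClosedImmersion a.left := IsClosedImmersion.of_comp a.left i.left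
  haveI : IsAffine P.left := isAffine_of_isAffineHom a.left
  haveI : LocallyOfFiniteType P.hom := by rw [← Over.w w]; infer_instance
  haveI : IsCommMonObj M := Deform.Extension.isCommMonObj_of fun T x y => by
    haveI := GrpSchLib.AntiAffine.connectedSpace_of_bijective hM
    have h := GrpSchLib.AntiAffine.commute hM (𝟙 M) (Category.comp_id _) x y
    rwa [Category.comp_id] at h
  obtain ⟨C, iC, c, hc, hcf, hcs, hCl, hCq, hkC⟩ := exists_quotient v
    (fun T g m => ⟨m, (by rw [mul_comm g, mul_inv_cancel_right])⟩)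
  letI := iC
  haveI := hc; haveI := hcf; haveI := hcs; haveI := hCl; haveI := hCq
  haveI : Surjective (w ≫ c).left := by
    have hs := AntiAffineParts.surjective_mul w (j ≫ q) hkP v
    haveI := hs
    have e : ((w ⊗ₘ v) ≫ μ[M]) ≫ c = fst P L ≫ w ≫ c := by
      rw [← Category.id_comp (w ⊗ₘ v), ← lift_fst_snd, lift_map, ← Hom.mul_def, MonObj.mul_comp,
        Category.assoc (snd P L), show v ≫ c = 1 from hkC.w, MonObj.comp_one, _root_.mul_one, Category.assoc]
    haveI : Surjective (((w ⊗ₘ v) ≫ μ[M]) ≫ c).left := by rw [Over.comp_left]; infer_instance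
    haveI : Surjective ((fst P L).left ≫ (w ≫ c).left) := by rw [← Over.comp_left, ← e]; infer_instance
    exact Surjective.of_comp (fst P L).left _
  haveI : QuasiCompact c.left := quasiCompact_of_grp c
  haveI : IsLocallyNoetherian C.left := LocallyOfFiniteType.isLocallyNoetherian C.hom
  haveI : LocallyOfFiniteType (c.left ≫ C.hom) := by rw [Over.w c]; infer_instance
  haveI : LocallyOfFiniteType c.left := locallyOfFiniteType_of_comp c.left C.hom
  haveI : Epi c.left := Flat.epi_of_flat_of_surjective c.left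
  have hC : Function.Bijective C.hom.appTop := by
    have hinj := GrpSchLib.AntiAffine.appTop_injective_of_epi c.left
    have e : ∀ x, c.left.appTop (C.hom.appTop x) = M.hom.appTop x := fun x => by
      rw [← Over.w c, Scheme.Hom.comp_appTop]; rfl
    refine ⟨fun a b hab => hM.1 (by rw [← e, ← e, hab]), fun s => ?_⟩
    obtain ⟨x, hx⟩ := hM.2 (c.left.appTop s)
    exact ⟨x, hinj ((e x).trans hx)⟩
  haveI : Smooth C.hom := GrpSchLib.AntiAffineSmooth.smooth hC
  haveI : IsReduced C.left := GrpSchLib.isReduced_of_smooth_field C.hom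
  obtain ⟨J', iJ', s, d, hs', hd, hJa, hdc, hJl', hss, hsd⟩ := AntiAffineParts.exists_affine_image (w ≫ c)
  haveI := hJa; haveI := hdc
  haveI : Surjective d.left := by
    haveI : Surjective (s.left ≫ d.left) := by rw [← Over.comp_left, hsd]; infer_instance
    exact Surjective.of_comp s.left d.left
  haveI := isIso_of_isClosedImmersion_of_surjective d.left
  haveI : IsAffine C.left := IsAffine.of_isIso (inv d.left)
  have hc1 : c = 1 := AntiAffineParts.eq_one_of_isAffine hM c (IsMonHom.one_hom c)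
  obtain ⟨b, hb⟩ := exists_lift_kernel v c hkC (𝟙 M) (by rw [Category.id_comp, hc1])
  exact ⟨b ≫ l, by rw [Category.assoc, ← hv, reassoc_of% hb]⟩

/-- The affine part of the largest anti-affine subgroup. -/
theorem dim_affine_part [Smooth G.hom] [QuasiCompact G.hom] [ConnectedSpace G.left] (i : N ⟶ G) [IsMonHom i]
    [IsClosedImmersion i.left] [Smooth N.hom] [ConnectedSpace N.left] [IsAffine N.left]
    (hNmax : ∀ (N' : Over (Spec (CommRingCat.of k))) [GrpObj N'] (i' : N' ⟶ G) [IsMonHom i']
      [IsClosedImmersion i'.left] [Smooth N'.hom] [ConnectedSpace ↥N'.left] [IsAffine N'.left],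
      AlgGrp.IsNormalHom i' → ∃ f : N' ⟶ N, f ≫ i = i')
    {D : Over (Spec (CommRingCat.of k))} [GrpObj D] (j : D ⟶ G) [IsMonHom j] [IsClosedImmersion j.left]
    (hD : Function.Bijective D.hom.appTop)
    {ND : Over (Spec (CommRingCat.of k))} [GrpObj ND] (iD : ND ⟶ D) [IsMonHom iD] [IsClosedImmersion iD.left]
    [Smooth ND.hom] [ConnectedSpace ND.left] [IsAffine ND.left]
    (hNDmax : ∀ (N' : Over (Spec (CommRingCat.of k))) [GrpObj N'] (i' : N' ⟶ D) [IsMonHom i']
      [IsClosedImmersion i'.left] [Smooth N'.hom] [ConnectedSpace ↥N'.left] [IsAffine N'.left],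
      AlgGrp.IsNormalHom i' → ∃ f : N' ⟶ ND, f ≫ iD = i') :
    (∃ g : ND ⟶ N, g ≫ i = iD ≫ j) ∧
      topologicalKrullDim ↥ND.left = topologicalKrullDim ↥(pullback j.left i.left) := by
  obtain ⟨g, hg⟩ := exists_lift_of_affine i hNmax (iD ≫ j)
  refine ⟨⟨g, hg⟩, ?_⟩
  obtain ⟨Q, iQ, q, hq, hqf, hqs, hk, hQ, hQs, hQc⟩ := exists_quot_of_max i hNmax
  haveI := hq
  obtain ⟨P, iP, w, hw, hwc, -, hkP⟩ := GrpSchLib.exists_kernel (j ≫ q)
  letI := iP
  haveI := hw; haveI := hwc
  obtain ⟨a, ha⟩ := exists_lift_kernel i q hk (w ≫ j) (by rw [Category.assoc]; exact hkP.w)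
  have sq : IsPullback w a j i := IsPullback.of_bot
    (by rw [toUnit_unique (a ≫ toUnit N) (toUnit P)]; exact hkP) ha.symm hk
  have sq' : IsPullback w.left a.left j.left i.left := sq.map (Over.forget _)
  haveI : LocallyOfFiniteType D.hom := by rw [← Over.w j]; infer_instance
  haveI : QuasiCompact D.hom := by rw [← Over.w j]; infer_instance
  haveI : LocallyOfFiniteType P.hom := by rw [← Over.w w]; infer_instance
  haveI : QuasiCompact P.hom := by rw [← Over.w w]; infer_instance
  haveI : IsClosedImmersion (a.left ≫ i.left) := by rw [← Over.comp_left, ha, Over.comp_left]; infer_instance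
  haveI : IsClosedImmersion a.left := IsClosedImmersion.of_comp a.left i.left
  haveI : IsAffine P.left := isAffine_of_isAffineHom a.left
  rw [← IsHomeomorph.topologicalKrullDim_eq _ (sq'.isoPullback.hom.homeomorph.isHomeomorph)]
  -- the map into the intersection
  obtain ⟨f, hf⟩ := exists_lift_kernel w (j ≫ q) hkP iD (by
    rw [← Category.assoc, ← hg, Category.assoc, show i ≫ q = 1 from hk.w, MonObj.comp_one])
  haveI : IsClosedImmersion (f.left ≫ w.left) := by rw [← Over.comp_left, hf]; infer_instance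
  haveI : IsClosedImmersion f.left := IsClosedImmersion.of_comp f.left w.left
  -- the neutral component of the intersection
  obtain ⟨P', iP', r, hr, hrc, hP'r, hrs, hP'l, hP'q⟩ := GrpSchLib.RedSubgroup.exists_redSubgroup P
  letI := iP'
  haveI := hr; haveI := hrc; haveI := hP'r; haveI := hrs; haveI := hP'l; haveI := hP'q
  haveI : Smooth P'.hom := GrpSchLib.smooth_of_perfectField_of_isReduced P'
  obtain ⟨P₀, iP₀, c, hc, hcc, hco, hP₀s, hP₀q, hP₀c, hcr⟩ := exists_neutral P'
  letI := iP₀
  haveI := hc; haveI := hcc; haveI := hco; haveI := hP₀s; haveI := hP₀q; haveI := hP₀c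
  haveI : IsClosedImmersion (c ≫ r ≫ w).left := by
    rw [Over.comp_left, Over.comp_left]; infer_instance
  haveI : IsAffine P₀.left := isAffine_of_isAffineHom (c.left ≫ r.left)
  haveI : IsCommMonObj D := Deform.Extension.isCommMonObj_of fun T x y => by
    haveI := GrpSchLib.AntiAffine.connectedSpace_of_bijective hD
    have h := GrpSchLib.AntiAffine.commute hD (𝟙 D) (Category.comp_id _) x y
    rwa [Category.comp_id] at h
  obtain ⟨f₀, hf₀⟩ := hNDmax P₀ (c ≫ r ≫ w) (fun T g m => ⟨m, (by rw [mul_comm g, mul_inv_cancel_right])⟩)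
  -- the image is open
  haveI : Mono w.left := inferInstance
  have hfac : f₀.left ≫ f.left = c.left ≫ r.left := by
    rw [← cancel_mono w.left, Category.assoc, Category.assoc]
    have e : f₀ ≫ f ≫ w = c ≫ r ≫ w := by rw [hf, hf₀]
    exact congrArg CommaMorphism.left e
  haveI : IsReduced ND.left := GrpSchLib.isReduced_of_smooth_field ND.hom
  obtain ⟨f', hf'⟩ := exists_lift_range r f (by rw [r.left.surjective.range_eq]; exact Set.subset_univ _)
  haveI : Mono r := (Over.forget _).mono_of_mono_map (inferInstanceAs (Mono r.left))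
  have hrange : Set.range f.left = r.left '' Set.range c.left := by
    refine Set.Subset.antisymm ?_ ?_
    · haveI : Mono w := (Over.forget _).mono_of_mono_map (inferInstanceAs (Mono w.left))
      have h1 : η[ND] ≫ f' = η[P'] := by
        rw [← cancel_mono r, ← cancel_mono w, Category.assoc, Category.assoc, Category.assoc, reassoc_of% hf', hf,
          IsMonHom.one_hom iD, reassoc_of% IsMonHom.one_hom r, IsMonHom.one_hom w]
      rintro _ ⟨x, rfl⟩
      refine ⟨f'.left x, ?_, by rw [← Scheme.Hom.comp_apply, ← Over.comp_left, hf']⟩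
      rw [hcr]
      exact (isPreconnected_range f'.left.continuous).subset_connectedComponent
        ⟨η[ND].left (IsLocalRing.closedPoint k), by rw [← Scheme.Hom.comp_apply, ← Over.comp_left, h1]⟩ ⟨x, rfl⟩
    · rintro _ ⟨_, ⟨z, rfl⟩, rfl⟩
      exact ⟨f₀.left z, by rw [← Scheme.Hom.comp_apply, hfac]; rfl⟩
  have hopen : IsOpen (Set.range f.left) := by
    rw [hrange]
    haveI : Surjective r.left := hrs
    exact (r.left.isClosedEmbedding.isEmbedding.toHomeomorphOfSurjective r.left.surjective).isOpenMap _ c.left.isOpenEmbedding.isOpen_range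
  obtain ⟨m, hm, -⟩ := GrpSchLib.exists_isMaxPt (η[ND].left (IsLocalRing.closedPoint k))
  have hfm : GrpSchLib.IsMaxPt (f.left m) := by
    intro d hd
    obtain ⟨d', rfl⟩ := hd.mem_open hopen ⟨m, rfl⟩
    exact congrArg f.left (hm d' (f.left.isClosedEmbedding.isInducing.specializes_iff.mp hd))
  rw [GrpSchLib.topologicalKrullDim_eq_deg hm, GrpSchLib.topologicalKrullDim_eq_deg hfm]
  have h1 := VarDim.deg_eq_add f.left P.hom (Over.w f) m
  have h2 := VarDim.fdeg_eq_rdeg f.left P.hom m
  rw [VarDim.rdeg_preimmersion] at h2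
  have h3 : VarDim.fdeg f.left m = 0 := by exact_mod_cast h2
  rw [h1, h3, add_zero]

end

end Groth.Agent.Deform.Chev.StructCor
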