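import Groth.Agent.Deform.Chev.AnyField

/-!
# The Albanese quotient of a connected group
-/

universe u

open CategoryTheory CategoryTheory.Limits MonoidalCategory CartesianMonoidalCategory MonObj GrpObj AlgebraicGeometry

attribute [local instance] CategoryTheory.Hom.monoid CategoryTheory.Hom.group
set_option linter.style.haveILetI false
set_option linter.unusedSectionVars false

namespace Groth.Agent.Deform.Chev.Albanese

noncomputable section

variable {k : Type u} [Field k]

/-- The Albanese quotient of a smooth connected group, with its affine connected kernel. -/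
theorem exists_albanese (G : Over (Spec (CommRingCat.of k))) [GrpObj G] [Smooth G.hom] [QuasiCompact G.hom]
    [ConnectedSpace G.left] :
    ∃ (N : Over (Spec (CommRingCat.of k))) (_ : GrpObj N) (i : N ⟶ G) (A : Over (Spec (CommRingCat.of k)))
      (_ : GrpObj A) (α : G ⟶ A), IsMonHom i ∧ IsClosedImmersion i.left ∧ AlgGrp.IsNormalHom i ∧
      ConnectedSpace N.left ∧ IsAffine N.left ∧ IsProper A.hom ∧ Smooth A.hom ∧ ConnectedSpace A.left ∧
      IsMonHom α ∧ Surjective α.left ∧ Flat α.left ∧ AlgGrp.IsKernel i α ∧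
      (∀ (B : Over (Spec (CommRingCat.of k))) [GrpObj B] [IsProper B.hom] (f : G ⟶ B) [IsMonHom f], i ≫ f = 1) ∧
      ∀ (B : Over (Spec (CommRingCat.of k))) [GrpObj B] [IsProper B.hom] [Smooth B.hom] [ConnectedSpace ↥B.left]
        (f : G ⟶ B), η[G] ≫ f = η[B] → ∃! g : A ⟶ B, α ≫ g = f := by
  obtain ⟨N₁, iN₁, i₁, A₁, iA₁, q₁, hi₁, hic₁, ha₁, hq₁, hqf₁, hqs₁, hk₁, hA₁⟩ := AnyField.exists_affine_normal G
  letI := iN₁; letI := iA₁
  haveI := hi₁; haveI := hic₁; haveI := ha₁; haveI := hq₁; haveI := hA₁
  obtain ⟨N, iN, i, A, iA, α, hi, hic, hn, ha, hα, hαf, hαs, hk, hA, huniv⟩ := AnyField.exists_smallest G i₁ q₁ hk₁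
  letI := iN; letI := iA
  haveI := hi; haveI := hic; haveI := hα; haveI := hαf; haveI := hαs; haveI := hA
  haveI hc : ConnectedSpace N.left := AnyField.connected_smallest i hn α hk huniv
  haveI : Smooth A.hom := GrpSchLib.smooth_of_quotient α
  haveI : ConnectedSpace A.left := α.left.surjective.connectedSpace α.left.continuous
  refine ⟨N, iN, i, A, iA, α, hi, hic, hn, hc, ha, hA, inferInstance, inferInstance, hα, hαs, hαf, hk, huniv, ?_⟩
  intro B iB _ _ _ f hf
  haveI : IsMonHom f := AVFactor.isMonHom_of_one f (hf.trans (MonObj.one_eq_one B))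
  haveI := quasiCompact_of_grp α
  obtain ⟨g, -, hg, -⟩ := S3280.result k G N A B α i hk f ((huniv B f).trans Hom.one_def)
  haveI : IsLocallyNoetherian A.left := LocallyOfFiniteType.isLocallyNoetherian A.hom
  haveI : LocallyOfFiniteType (α.left ≫ A.hom) := by rw [Over.w α]; infer_instance
  haveI : LocallyOfFiniteType α.left := locallyOfFiniteType_of_comp α.left A.hom
  haveI : LocallyOfFinitePresentation α.left := inferInstance
  haveI : Epi α := QuotDescent.epi_of_fppf α
  exact ⟨g, hg, fun g' hg' => (cancel_epi α).mp (hg'.trans hg.symm)⟩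

end

end Groth.Agent.Deform.Chev.Albanese
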