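import Groth.Agent.Deform.Chev.SemiAbelian
import Groth.Agent.Deform.Chev.Components
import Groth.Agent.Deform.TorusBasic
import Groth.Agent.GrpSchLib.FieldDim

/-!
# The structure theorem over an arbitrary field
-/

universe u

open CategoryTheory CategoryTheory.Limits MonoidalCategory CartesianMonoidalCategory MonObj GrpObj AlgebraicGeometry

attribute [local instance] CategoryTheory.Hom.monoid CategoryTheory.Hom.group
set_option linter.style.haveILetI false
set_option linter.unusedSectionVars false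

namespace Groth.Agent.Deform.Chev.AnyField

noncomputable section

variable {k : Type u} [Field k]

/-- An anti-affine group is an extension of an abelian variety by a smooth connected affine group. -/
theorem exists_antiAffine_part (M : Over (Spec (CommRingCat.of k))) [GrpObj M] [Smooth M.hom] [QuasiCompact M.hom]
    (hM : Function.Bijective M.hom.appTop) :
    ∃ (N : Over (Spec (CommRingCat.of k))) (_ : GrpObj N) (i : N ⟶ M)
      (Q : Over (Spec (CommRingCat.of k))) (_ : GrpObj Q) (q : M ⟶ Q), IsMonHom i ∧ IsClosedImmersion i.left ∧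
      Smooth N.hom ∧ QuasiCompact N.hom ∧ ConnectedSpace N.left ∧ IsAffine N.left ∧ IsMonHom q ∧ Flat q.left ∧
      Surjective q.left ∧ AlgGrp.IsKernel i q ∧ IsProper Q.hom ∧ Smooth Q.hom ∧ ConnectedSpace Q.left := by
  haveI := GrpSchLib.AntiAffine.connectedSpace_of_bijective hM
  obtain ⟨p, hp⟩ := CharP.exists k
  rcases CharP.char_is_prime_or_zero k p with hpp | rfl
  · haveI := Fact.mk hpp
    obtain ⟨T, iT, i, A, iA, q, hi, hic, hT, hq, hqs, hqf, hk, hA, hAs, hAc⟩ :=
      SemiAbelian.exists_torus_part p M hM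
    obtain ⟨hTa, -, hTs, hTc⟩ := Deform.TorusBasic.props hT
    haveI := hTa
    haveI : IsAffineHom T.hom := isAffineHom_of_isAffine _
    exact ⟨T, iT, i, A, iA, q, hi, hic, hTs, inferInstance, hTc, hTa, hq, hqf, hqs, hk, hA, hAs, hAc⟩
  · haveI : CharZero k := CharP.charP_to_charZero k
    haveI : PerfectField k := PerfectField.ofCharZero
    obtain ⟨N, iN, i, Q, iQ, q, hi, hic, hNs, hNq, hNc, hNa, -, hq, hqf, hqs, hk, hQ, hQs, hQc⟩ :=
      Perfect.exists_decomp M
    exact ⟨N, iN, i, Q, iQ, q, hi, hic, hNs, hNq, hNc, hNa, hq, hqf, hqs, hk, hQ, hQs, hQc⟩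

/-- A connected smooth group is an extension of an abelian variety by an affine group. -/
theorem exists_affine_normal (G : Over (Spec (CommRingCat.of k))) [GrpObj G] [Smooth G.hom] [QuasiCompact G.hom]
    [ConnectedSpace G.left] : ∃ (N : Over (Spec (CommRingCat.of k))) (_ : GrpObj N) (i : N ⟶ G)
    (A : Over (Spec (CommRingCat.of k))) (_ : GrpObj A) (q : G ⟶ A), IsMonHom i ∧ IsClosedImmersion i.left ∧
      IsAffine N.left ∧ IsMonHom q ∧ Flat q.left ∧ Surjective q.left ∧ AlgGrp.IsKernel i q ∧ IsProper A.hom := by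
  obtain ⟨M, iM, κ, hκ, hκc, hMl, hMq, hMb, I, iI, p, hp, hI, hIl, hpf, hps, hker⟩ := AntiAffineParts.exists_ant G
  haveI := hκ; haveI := hκc; haveI := hMl; haveI := hMq; haveI := hp; haveI := hI; haveI := hIl
  have hMb' : Function.Bijective ((Scheme.ΓSpecIso (CommRingCat.of k)).inv ≫ M.hom.appTop).hom :=
    (GrpSchLib.AntiAffine.bijective_appTop_iff M.hom).mpr hMb
  obtain ⟨hMc, hMcomm⟩ := S3293.result k M hMb'
  haveI := hMc; haveI := hMcomm
  haveI : Smooth M.hom := GrpSchLib.AntiAffineSmooth.smooth hMb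
  obtain ⟨L, iL, l, A, iA, m, hl, hlc, hLs, hLq, hLc, hLa, hm, hmf, hms, hmk, hA, hAs, hAc⟩ := exists_antiAffine_part M ((GrpSchLib.AntiAffine.bijective_appTop_iff M.hom).mp hMb')
  haveI := hl; haveI := hlc; haveI := hLs; haveI := hLq; haveI := hLc; haveI := hLa; haveI := hm; haveI := hmf
  haveI := hms; haveI := hA; haveI := hAs; haveI := hAc
  haveI : IsMonHom (l ≫ κ) := inferInstance
  haveI : IsClosedImmersion (l ≫ κ).left := inferInstanceAs (IsClosedImmersion (l.left ≫ κ.left))
  have hn : AlgGrp.IsNormalHom (l ≫ κ) := fun T g n => ⟨n, by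
    have h := S7996.result k M G hMb' κ T (n ≫ l) T (𝟙 T) g
    simp only [Category.id_comp, Category.assoc] at h
    rw [← h, mul_inv_cancel_right]⟩
  obtain ⟨G', iG', π, hπ, hπf, hπs, hG'l, hG'q, hπk⟩ := exists_quotient (l ≫ κ) hn
  haveI := hπ; haveI := hπf; haveI := hπs; haveI := hG'l; haveI := hG'q
  haveI : Smooth G'.hom := GrpSchLib.smooth_of_quotient π
  haveI : ConnectedSpace G'.left := π.left.surjective.connectedSpace π.left.continuous
  haveI := quasiCompact_of_grp m
  obtain ⟨a, ha, hma, -⟩ := S3280.result k M L A G' m l hmk (κ ≫ π) (by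
    rw [← Category.assoc]; exact hπk.w)
  haveI := ha
  haveI : Mono κ := (Over.forget _).mono_of_mono_map (inferInstanceAs (Mono κ.left))
  haveI : Mono a := by
    refine AVFactor.mono_of_kernel m a l hmk (IsPullback.of_isLimit' ⟨?_⟩ (PullbackCone.isLimitAux' _ fun s => ?_))
    · rw [hma, ← Category.assoc]; exact hπk.w
    · have h : (s.fst ≫ κ) ≫ π = 1 := by
        rw [Category.assoc, ← hma]
        exact s.condition.trans (congrArg (· ≫ η[G']) (toUnit_unique s.snd (toUnit s.pt)))
      refine ⟨hπk.lift (s.fst ≫ κ) (toUnit _) h, ?_, toUnit_unique _ _, fun {z} h1 _ => ?_⟩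
      · rw [← cancel_mono κ, Category.assoc]
        exact hπk.lift_fst _ _ _
      · refine hπk.hom_ext ?_ (toUnit_unique _ _)
        rw [hπk.lift_fst]
        rw [← Category.assoc]
        exact congrArg (· ≫ κ) h1
  haveI := quasiCompact_of_grp a
  haveI : IsClosedImmersion a.left := S3036.result k A G' a
  obtain ⟨φ₀, n, hn0, hφ₀⟩ := S8053.result k G' A a
  let φ : G' ⟶ A := (toUnit G' ≫ η[G'] ≫ φ₀)⁻¹ * φ₀
  have hφ1 : η[G'] ≫ φ = 1 := by
    simp only [φ, MonObj.comp_mul, GrpObj.comp_inv, ← Category.assoc]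
    rw [toUnit_unique (η[G'] ≫ toUnit G') (𝟙 _), Category.id_comp, inv_mul_cancel]
  haveI : IsMonHom φ := AVFactor.isMonHom_of_one φ hφ1
  have haφ : a ≫ φ = 𝟙 A ^ n := by
    have h := hφ₀ A 1 (𝟙 A)
    rw [_root_.one_mul, Category.id_comp] at h
    simp only [φ, MonObj.comp_mul, GrpObj.comp_inv, ← Category.assoc]
    rw [h, toUnit_unique (a ≫ toUnit G') (toUnit A)]
    have h1 : (1 : A ⟶ G') = toUnit A ≫ η[G'] := Hom.one_def
    rw [h1, inv_mul_cancel_left]
  let ψ : G ⟶ A := π ≫ φ
  haveI : GeometricallyIntegral A.hom := AVFactor.geometricallyIntegral_smooth A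
  haveI := AVMulN.surjective_pow (A := A) n hn0
  haveI hpowf := AVMulN.isFinite_pow (A := A) n hn0
  have hκψ : κ ≫ ψ = m ≫ (𝟙 A ^ n) := by
    rw [← haφ, reassoc_of% hma]
  haveI : Surjective (κ.left ≫ ψ.left) := by
    rw [← Over.comp_left, hκψ, Over.comp_left]; infer_instance
  haveI : Surjective ψ.left := Surjective.of_comp κ.left ψ.left
  haveI := quasiCompact_of_grp ψ
  haveI : IsReduced A.left := GrpSchLib.isReduced_of_smooth_field A.hom
  haveI : Flat ψ.left := GrpSchLib.flat_of_surjective_hom ψ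
  haveI := GrpSchLib.AntiAffine.isSeparated_grp A
  obtain ⟨N, iN, i, hi, hic, -, hk⟩ := GrpSchLib.exists_kernel ψ
  haveI := hi; haveI := hic
  refine ⟨N, iN, i, A, iA, ψ, hi, hic, ?_, inferInstance, inferInstance, inferInstance, hk, hA⟩
  haveI : LocallyOfFiniteType N.hom := by rw [← Over.w i]; infer_instance
  haveI : QuasiCompact N.hom := by rw [← Over.w i]; infer_instance
  -- the part in the anti-affine group
  haveI : IsMonHom (𝟙 A ^ n : A ⟶ A) := haφ ▸ inferInstanceAs (IsMonHom (a ≫ φ))
  obtain ⟨Kn, iKn, e, he, hec, -, hek⟩ := GrpSchLib.exists_kernel (m ≫ (𝟙 A ^ n : A ⟶ A))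
  haveI := he; haveI := hec
  haveI : LocallyOfFiniteType Kn.hom := by rw [← Over.w e]; infer_instance
  haveI : QuasiCompact Kn.hom := by rw [← Over.w e]; infer_instance
  haveI : IsAffine Kn.left := by
    obtain ⟨An, iAn, t, ht, htc, -, htk⟩ := GrpSchLib.exists_kernel (𝟙 A ^ n : A ⟶ A)
    haveI := ht; haveI := htc
    haveI : LocallyOfFiniteType An.hom := by rw [← Over.w t]; infer_instance
    haveI : IsFinite An.hom :=
      MorphismProperty.of_isPullback (P := @IsFinite) (htk.map (Over.forget _)) hpowf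
    haveI : IsAffine An.left := isAffine_of_isAffineHom An.hom
    obtain ⟨f, hf⟩ := exists_lift_kernel t _ htk (e ≫ m) (by rw [Category.assoc]; exact hek.w)
    haveI : Mono t := (Over.forget _).mono_of_mono_map (inferInstanceAs (Mono t.left))
    haveI : IsMonHom f := by
      constructor
      · rw [← cancel_mono t, Category.assoc, hf, IsMonHom.one_hom t, IsMonHom.one_hom]
      · rw [← cancel_mono t, Category.assoc, hf, Category.assoc, IsMonHom.mul_hom t, IsMonHom.mul_hom,
          ← Category.assoc (f ⊗ₘ f), MonoidalCategory.tensorHom_comp_tensorHom, hf]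
    haveI := GrpSchLib.AntiAffine.isSeparated_grp An
    obtain ⟨K, iK, c, hc, hcc, -, hKk⟩ := GrpSchLib.exists_kernel f
    haveI := hc; haveI := hcc
    haveI := GrpSchLib.AntiAffine.isSeparated_grp L
    obtain ⟨d, hd⟩ := exists_lift_kernel l m hmk (c ≫ e) (by
      rw [Category.assoc, ← hf, ← Category.assoc, show c ≫ f = 1 from hKk.w, MonObj.one_comp])
    haveI : IsClosedImmersion (d.left ≫ l.left) := by
      rw [← Over.comp_left, hd]; exact inferInstanceAs (IsClosedImmersion (c.left ≫ e.left))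
    haveI : IsClosedImmersion d.left := IsClosedImmersion.of_comp d.left l.left
    haveI : IsAffine K.left := isAffine_of_isAffineHom d.left
    exact isAffine_of_ker f c hKk
  haveI := GrpSchLib.AntiAffine.isSeparated_grp I
  obtain ⟨K, iK, c, hc, hcc, -, hKk⟩ := GrpSchLib.exists_kernel (i ≫ p)
  haveI := hc; haveI := hcc
  obtain ⟨d, hd⟩ := exists_lift_kernel κ p hker (c ≫ i) (by rw [Category.assoc]; exact hKk.w)
  obtain ⟨d', hd'⟩ := exists_lift_kernel e (m ≫ (𝟙 A ^ n : A ⟶ A)) hek d (by
    rw [← hκψ, reassoc_of% hd, show i ≫ ψ = 1 from hk.w, MonObj.comp_one])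
  haveI := GrpSchLib.AntiAffine.isSeparated_grp Kn
  haveI : IsClosedImmersion (d'.left ≫ e.left ≫ κ.left) := by
    rw [← Over.comp_left, ← Over.comp_left, reassoc_of% hd', hd]
    exact inferInstanceAs (IsClosedImmersion (c.left ≫ i.left))
  haveI : IsClosedImmersion d'.left := IsClosedImmersion.of_comp d'.left (e.left ≫ κ.left)
  haveI : IsAffine K.left := isAffine_of_isAffineHom d'.left
  exact isAffine_of_ker (i ≫ p) c hKk

/-- A kernel is recognised on points. -/
theorem isKernel_of {N G Q : Over (Spec (CommRingCat.of k))} [GrpObj Q] (i : N ⟶ G) [Mono i] (q : G ⟶ Q)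
    (w : i ≫ q = 1) (h : ∀ (T : Over (Spec (CommRingCat.of k))) (f : T ⟶ G), f ≫ q = 1 → ∃ g : T ⟶ N, g ≫ i = f) :
    AlgGrp.IsKernel i q := by
  refine IsPullback.of_isLimit' ⟨w.trans Hom.one_def⟩ (PullbackCone.isLimitAux' _ fun s => ?_)
  have hs : s.fst ≫ q = 1 :=
    s.condition.trans ((congrArg (· ≫ η[Q]) (toUnit_unique s.snd (toUnit s.pt))).trans Hom.one_def.symm)
  refine ⟨(h _ _ hs).choose, (h _ _ hs).choose_spec, toUnit_unique _ _, fun {z} h1 _ => ?_⟩
  exact (cancel_mono i).mp (h1.trans (h _ _ hs).choose_spec.symm)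

/-- A group with an affine kernel to a proper group has a smallest one, killed by all maps to proper groups. -/
theorem exists_smallest (G : Over (Spec (CommRingCat.of k))) [GrpObj G] [LocallyOfFiniteType G.hom]
    [QuasiCompact G.hom] {N₁ A₁ : Over (Spec (CommRingCat.of k))} [GrpObj N₁] [GrpObj A₁] (i₁ : N₁ ⟶ G)
    [IsMonHom i₁] [IsClosedImmersion i₁.left] [IsAffine N₁.left] (q₁ : G ⟶ A₁) [IsMonHom q₁] [IsProper A₁.hom]
    (hk₁ : AlgGrp.IsKernel i₁ q₁) :
    ∃ (N : Over (Spec (CommRingCat.of k))) (_ : GrpObj N) (i : N ⟶ G) (Q : Over (Spec (CommRingCat.of k)))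
      (_ : GrpObj Q) (q : G ⟶ Q), IsMonHom i ∧ IsClosedImmersion i.left ∧ AlgGrp.IsNormalHom i ∧ IsAffine N.left ∧
      IsMonHom q ∧ Flat q.left ∧ Surjective q.left ∧ AlgGrp.IsKernel i q ∧ IsProper Q.hom ∧
      ∀ (B : Over (Spec (CommRingCat.of k))) [GrpObj B] [IsProper B.hom] (f : G ⟶ B) [IsMonHom f], i ≫ f = 1 := by
  haveI : LocallyOfFiniteType N₁.hom := by rw [← Over.w i₁]; infer_instance
  haveI : IsLocallyNoetherian N₁.left := LocallyOfFiniteType.isLocallyNoetherian N₁.hom
  haveI : IsNoetherianRing Γ(N₁.left, ⊤) :=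
    IsLocallyNoetherian.component_noetherian ⟨⊤, isAffineOpen_top _⟩
  haveI : Mono i₁ := (Over.forget _).mono_of_mono_map (inferInstanceAs (Mono i₁.left))
  let S : Set (Ideal Γ(N₁.left, ⊤)) := {I | ∃ (B : Over (Spec (CommRingCat.of k))) (_ : GrpObj B) (f : G ⟶ B),
    IsMonHom f ∧ IsProper B.hom ∧ ∃ (K : Over (Spec (CommRingCat.of k))) (_ : GrpObj K) (κ : K ⟶ N₁),
      IsMonHom κ ∧ IsClosedImmersion κ.left ∧ AlgGrp.IsKernel κ (i₁ ≫ f) ∧ I = RingHom.ker κ.left.appTop.hom}
  have hmem : ∀ (B : Over (Spec (CommRingCat.of k))) [GrpObj B] [IsProper B.hom] (f : G ⟶ B) [IsMonHom f],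
      ∃ (K : Over (Spec (CommRingCat.of k))) (_ : GrpObj K) (κ : K ⟶ N₁),
        IsMonHom κ ∧ IsClosedImmersion κ.left ∧ AlgGrp.IsKernel κ (i₁ ≫ f) ∧
          RingHom.ker κ.left.appTop.hom ∈ S := by
    intro B iB hB f hf
    obtain ⟨K, iK, κ, hκ, hκc, -, hk⟩ := GrpSchLib.exists_kernel (i₁ ≫ f)
    exact ⟨K, iK, κ, hκ, hκc, hk, B, iB, f, hf, hB, K, iK, κ, hκ, hκc, hk, rfl⟩
  obtain ⟨I₀, hI₀, hmax⟩ := set_has_maximal_iff_noetherian.mpr inferInstance S
    ⟨_, (hmem A₁ q₁).choose_spec.choose_spec.choose_spec.2.2.2⟩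
  obtain ⟨B₀, iB₀, f₀, hf₀, hB₀, K, iK, κ, hκ, hκc, hkκ, rfl⟩ := hI₀
  letI := iB₀; letI := iK
  haveI := hf₀; haveI := hB₀; haveI := hκ; haveI := hκc
  haveI : Mono κ := (Over.forget _).mono_of_mono_map (inferInstanceAs (Mono κ.left))
  haveI : IsAffine K.left := isAffine_of_isAffineHom κ.left
  have hall : ∀ (B : Over (Spec (CommRingCat.of k))) [GrpObj B] [IsProper B.hom] (f : G ⟶ B) [IsMonHom f],
      (κ ≫ i₁) ≫ f = 1 := by
    intro B iB hB f hf
    haveI : IsProper (B₀ ⊗ B).hom := inferInstanceAs (IsProper (pullback.fst B₀.hom B.hom ≫ B₀.hom))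
    obtain ⟨K', iK', κ', hκ', hκ'c, hk', hS⟩ := hmem (B₀ ⊗ B) (lift f₀ f)
    letI := iK'
    haveI := hκ'; haveI := hκ'c
    have h' : (κ' ≫ i₁) ≫ lift f₀ f = 1 := (Category.assoc _ _ _).trans hk'.w
    have hf₀' : κ' ≫ i₁ ≫ f₀ = 1 := by
      have h := congrArg (· ≫ fst B₀ B) h'
      simp only [Category.assoc, lift_fst, MonObj.one_comp] at h
      exact h
    have hf' : (κ' ≫ i₁) ≫ f = 1 := by
      have h := congrArg (· ≫ snd B₀ B) h'
      simp only [Category.assoc, lift_snd, MonObj.one_comp] at h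
      exact (Category.assoc _ _ _).trans h
    obtain ⟨u, hu⟩ := exists_lift_kernel κ (i₁ ≫ f₀) hkκ κ' hf₀'
    haveI : IsAffine K'.left := isAffine_of_isAffineHom κ'.left
    haveI : IsClosedImmersion (u.left ≫ κ.left) := by rw [← Over.comp_left, hu]; infer_instance
    haveI : IsClosedImmersion u.left := IsClosedImmersion.of_comp u.left κ.left
    have happ : ∀ s, κ'.left.appTop s = u.left.appTop (κ.left.appTop s) := fun s => by
      rw [← hu, Over.comp_left, Scheme.Hom.comp_appTop]; rfl
    have hle : RingHom.ker κ.left.appTop.hom ≤ RingHom.ker κ'.left.appTop.hom := fun s hs => by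
      rw [RingHom.mem_ker] at hs ⊢
      rw [happ, hs, map_zero]
    have heq : RingHom.ker κ.left.appTop.hom = RingHom.ker κ'.left.appTop.hom := by
      by_contra hne
      exact hmax _ hS (lt_of_le_of_ne hle hne)
    haveI : IsIso u.left := by
      refine IsClosedImmersion.isIso_of_injective_of_isAffine ?_
      refine (injective_iff_map_eq_zero _).mpr fun t ht => ?_
      obtain ⟨s, rfl⟩ := ((HasAffineProperty.iff_of_isAffine (P := @IsClosedImmersion) (f := κ.left)).mp
        inferInstance).2 t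
      have : s ∈ RingHom.ker κ'.left.appTop.hom := by
        rw [RingHom.mem_ker, happ]; exact ht
      rw [← heq] at this
      exact this
    haveI : Epi u.left := inferInstance
    haveI : Epi u := (Over.forget _).epi_of_epi_map (inferInstanceAs (Epi u.left))
    rw [← cancel_epi u, MonObj.comp_one, ← Category.assoc, ← Category.assoc, hu, hf']
  let i : K ⟶ G := κ ≫ i₁
  haveI : IsClosedImmersion i.left := inferInstanceAs (IsClosedImmersion (κ.left ≫ i₁.left))
  haveI : Mono i := inferInstanceAs (Mono (κ ≫ i₁))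
  haveI : IsMonHom i := inferInstanceAs (IsMonHom (κ ≫ i₁))
  let q : G ⟶ A₁ ⊗ B₀ := lift q₁ f₀
  haveI : IsProper (A₁ ⊗ B₀).hom := inferInstanceAs (IsProper (pullback.fst A₁.hom B₀.hom ≫ A₁.hom))
  have hki : AlgGrp.IsKernel i q := isKernel_of i q (hall _ q) fun T f hf => by
    have h1 : f ≫ q₁ = 1 := by
      have h := congrArg (· ≫ fst A₁ B₀) hf
      simp only [q, Category.assoc, lift_fst, MonObj.one_comp] at h
      exact h
    have h2 : f ≫ f₀ = 1 := by
      have h := congrArg (· ≫ snd A₁ B₀) hf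
      simp only [q, Category.assoc, lift_snd, MonObj.one_comp] at h
      exact h
    obtain ⟨a, ha⟩ := exists_lift_kernel i₁ q₁ hk₁ f h1
    obtain ⟨b, hb⟩ := exists_lift_kernel κ (i₁ ≫ f₀) hkκ a (by rw [reassoc_of% ha, h2])
    exact ⟨b, by rw [reassoc_of% hb, ha]⟩
  haveI : LocallyOfFiniteType (A₁ ⊗ B₀).hom := inferInstance
  haveI : QuasiCompact (A₁ ⊗ B₀).hom := inferInstance
  obtain ⟨R, iR, r, c, hr, hc, hrc, hcc, hrf, hrs, hRl, hRq⟩ := GrpSchLib.ImageFactor.exists_image q
  letI := iR
  haveI := hr; haveI := hc; haveI := hcc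
  haveI : IsProper R.hom := by rw [← Over.w c]; infer_instance
  haveI : Mono c := (Over.forget _).mono_of_mono_map (inferInstanceAs (Mono c.left))
  have hkr : AlgGrp.IsKernel i r := isKernel_of i r
    (by rw [← cancel_mono c, Category.assoc, hrc, MonObj.one_comp, hall _ q])
    fun T f hf => exists_lift_kernel i q hki f (by rw [← hrc, ← Category.assoc, hf, MonObj.one_comp])
  exact ⟨K, iK, i, R, iR, r, inferInstance, inferInstance, isNormalHom_of_kernel r i hkr, inferInstance, hr, hrf,
    hrs, hkr, inferInstance, hall⟩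

/-- The kernel of the universal map to proper groups is connected. -/
theorem connected_smallest {G N Q : Over (Spec (CommRingCat.of k))} [GrpObj G] [GrpObj N] [GrpObj Q]
    [LocallyOfFiniteType G.hom] [QuasiCompact G.hom] (i : N ⟶ G) [IsMonHom i]
    [IsClosedImmersion i.left] (hn : AlgGrp.IsNormalHom i) (q : G ⟶ Q) [IsMonHom q] [Flat q.left]
    [Surjective q.left] [IsProper Q.hom] (hk : AlgGrp.IsKernel i q)
    (huniv : ∀ (B : Over (Spec (CommRingCat.of k))) [GrpObj B] [IsProper B.hom] (f : G ⟶ B) [IsMonHom f],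
      i ≫ f = 1) : ConnectedSpace N.left := by
  haveI : LocallyOfFiniteType N.hom := by rw [← Over.w i]; infer_instance
  haveI : QuasiCompact N.hom := by rw [← Over.w i]; infer_instance
  obtain ⟨N₀, iN₀, c, hc, hcc, hcf, hcr, hgi, hcs⟩ := GrpSchLib.exists_identityComponent (G := N)
  letI := iN₀
  haveI := hc; haveI := hcc; haveI := hcf; haveI := hgi
  haveI : IsLocallyNoetherian N.left := LocallyOfFiniteType.isLocallyNoetherian N.hom
  haveI : IsOpenImmersion c.left := IsOpenImmersion.of_flat_of_mono c.left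
  haveI : Mono c := (Over.forget _).mono_of_mono_map (inferInstanceAs (Mono c.left))
  haveI : Mono i := (Over.forget _).mono_of_mono_map (inferInstanceAs (Mono i.left))
  haveI : IsClosedImmersion (c ≫ i).left := inferInstanceAs (IsClosedImmersion (c.left ≫ i.left))
  -- the identity component is normal
  haveI : GeometricallyConnected N₀.hom := by
    refine ⟨?_⟩
    intro K _ y T fst snd h
    haveI := GeometricallyIrreducible.geometrically_irreducibleSpace (f := N₀.hom) y fst snd h
    show ConnectedSpace T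
    infer_instance
  let cm : G ⊗ N₀ ⟶ G := fst G N₀ * (snd G N₀ ≫ c ≫ i) * (fst G N₀)⁻¹
  obtain ⟨m, hm⟩ := hn (G ⊗ N₀) (fst G N₀) (snd G N₀ ≫ c)
  have hm1 : m ≫ i = cm := by
    rw [← hm, Category.assoc]
  have hpt' : lift (𝟙 G) (1 : G ⟶ N₀) ≫ m = 1 := by
    rw [← cancel_mono i, Category.assoc, hm1, MonObj.one_comp]
    simp only [cm, MonObj.comp_mul, GrpObj.comp_inv, lift_fst, lift_snd_assoc, MonObj.one_comp, _root_.mul_one,
      mul_inv_cancel]
  have hW : IsClopen (m.left ⁻¹' Set.range c.left) :=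
    ⟨c.left.isClosedEmbedding.isClosed_range.preimage m.left.continuous,
      c.left.isOpenEmbedding.isOpen_range.preimage m.left.continuous⟩
  haveI : LocallyOfFiniteType N₀.hom := by rw [← Over.w c]; infer_instance
  haveI : UniversallyOpen N₀.hom := inferInstance
  have hsub : Set.range m.left ⊆ Set.range c.left := by
    rintro _ ⟨z, rfl⟩
    let f : (G ⊗ N₀).left ⟶ G.left := pullback.fst G.hom N₀.hom
    haveI : GeometricallyConnected f := inferInstanceAs (GeometricallyConnected (pullback.fst G.hom N₀.hom))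
    have hconn := (f.isConnected_preimage_singleton (f z)).isPreconnected
    refine hconn.subset_isClopen hW ⟨(lift (𝟙 G) (1 : G ⟶ N₀)).left (f z), ?_, ?_⟩ (rfl : f z = f z)
    · show ((lift (𝟙 G) (1 : G ⟶ N₀)).left ≫ (fst G N₀).left) (f z) = f z
      rw [← Over.comp_left, lift_fst]
      rfl
    · show ((lift (𝟙 G) (1 : G ⟶ N₀)).left ≫ m.left) (f z) ∈ Set.range c.left
      rw [← Over.comp_left, hpt', ← MonObj.one_comp (M := N₀) c, Over.comp_left, Scheme.Hom.comp_apply]
      exact Set.mem_range_self _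
  let m₀ : G ⊗ N₀ ⟶ N₀ := Over.homMk (IsOpenImmersion.lift c.left m.left hsub) (by
    rw [← Over.w c, ← Category.assoc, IsOpenImmersion.lift_fac, Over.w m])
  have hm₀ : m₀ ≫ c = m := Over.OverMorphism.ext (IsOpenImmersion.lift_fac _ _ _)
  have hnc : AlgGrp.IsNormalHom (c ≫ i) := fun T x y => ⟨lift x y ≫ m₀, by
    rw [Category.assoc, reassoc_of% hm₀, hm1]
    simp only [cm, MonObj.comp_mul, GrpObj.comp_inv, lift_fst, lift_snd_assoc]⟩
  obtain ⟨R, iR, r, hr, hrf, hrs, hRl, hRq, hkr⟩ := exists_quotient (c ≫ i) hnc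
  letI := iR
  haveI := hr; haveI := hrf; haveI := hrs; haveI := hRl; haveI := hRq
  haveI := quasiCompact_of_grp r
  obtain ⟨φ, hφ, hrφ, -⟩ := S3280.result k G N₀ R Q r (c ≫ i) hkr q (by
    rw [Category.assoc, show i ≫ q = 1 from hk.w, MonObj.comp_one, Hom.one_def])
  haveI := hφ
  haveI : Surjective φ.left := by
    haveI : Surjective (r.left ≫ φ.left) := by rw [← Over.comp_left, hrφ]; infer_instance
    exact Surjective.of_comp r.left φ.left
  -- the kernel of the comparison map is discrete
  haveI := GrpSchLib.AntiAffine.isSeparated_grp Q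
  obtain ⟨K, iK, t, ht, htc, -, hkt⟩ := GrpSchLib.exists_kernel φ
  letI := iK
  haveI := ht; haveI := htc
  haveI : LocallyOfFiniteType K.hom := by rw [← Over.w t]; infer_instance
  haveI : QuasiCompact K.hom := by rw [← Over.w t]; infer_instance
  obtain ⟨u, hu⟩ := exists_lift_kernel t φ hkt (i ≫ r) (by rw [Category.assoc, hrφ]; exact hk.w)
  haveI : Mono t := (Over.forget _).mono_of_mono_map (inferInstanceAs (Mono t.left))
  have squ : IsPullback i u r t := IsPullback.of_bot
    (by rw [toUnit_unique (u ≫ toUnit K) (toUnit N), hrφ]; exact hk) hu.symm hkt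
  have squ' : IsPullback u.left i.left t.left r.left := (squ.map (Over.forget _)).flip
  haveI : IsLocallyNoetherian R.left := LocallyOfFiniteType.isLocallyNoetherian R.hom
  haveI : LocallyOfFiniteType (r.left ≫ R.hom) := by rw [Over.w r]; infer_instance
  haveI : LocallyOfFiniteType r.left := locallyOfFiniteType_of_comp r.left R.hom
  haveI : LocallyOfFinitePresentation r.left := inferInstance
  haveI : Flat u.left := MorphismProperty.of_isPullback (P := @Flat) squ'.flip hrf
  haveI : LocallyOfFinitePresentation u.left :=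
    MorphismProperty.of_isPullback (P := @LocallyOfFinitePresentation) squ'.flip inferInstance
  have hopen : IsOpenMap u.left := u.left.isOpenMap
  let e : K.left := η[K].left (IsLocalRing.closedPoint k)
  have hcu : c ≫ u = 1 := by
    rw [← cancel_mono t, Category.assoc, hu, ← Category.assoc, show (c ≫ i) ≫ r = 1 from hkr.w, MonObj.one_comp]
  have he : IsOpen ({e} : Set K.left) := by
    have h1 : u.left '' Set.range c.left = {e} := by
      refine Set.Subset.antisymm ?_ ?_
      · rintro _ ⟨_, ⟨x, rfl⟩, rfl⟩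
        rw [← Scheme.Hom.comp_apply, ← Over.comp_left, hcu, Hom.one_def, Over.comp_left, Scheme.Hom.comp_apply]
        exact congrArg η[K].left (Subsingleton.elim (α := PrimeSpectrum k) _ _)
      · rintro _ rfl
        refine ⟨c.left (η[N₀].left (IsLocalRing.closedPoint k)), ⟨_, rfl⟩, ?_⟩
        rw [← Scheme.Hom.comp_apply, ← Scheme.Hom.comp_apply, ← Over.comp_left, ← Over.comp_left,
          ← Category.assoc, IsMonHom.one_hom c]
        have : η[N] ≫ u = η[K] := by
          rw [← IsMonHom.one_hom c, Category.assoc, hcu, MonObj.comp_one, MonObj.one_eq_one]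
        rw [this]
    exact h1 ▸ hopen _ c.left.isOpenEmbedding.isOpen_range
  haveI : JacobsonSpace K.left := LocallyOfFiniteType.jacobsonSpace K.hom
  have hec : IsClosed ({e} : Set K.left) := isClosed_singleton_of_isLocallyClosed_singleton he.isLocallyClosed
  haveI hdisc : DiscreteTopology K.left := by
    have hemax : GrpSchLib.IsMaxPt e := fun d hd => hd.mem_open he rfl
    have hall : ∀ x : K.left, IsClosed ({x} : Set K.left) := fun x => by
      obtain ⟨g, hg, hgx⟩ := GrpSchLib.exists_isMaxPt x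
      rw [VarDim.closedPoint_iff_deg_eq_zero K.hom]
      obtain ⟨d, hd⟩ := GrpSchLib.exists_height_isMaxPt K
      have h0 := (VarDim.closedPoint_iff_deg_eq_zero K.hom e).mp hec
      rw [hd e hemax] at h0
      have h1 := VarDim.deg_le_of_specializes K.hom hgx
      rw [hd g hg, h0] at h1
      omega
    haveI : T1Space K.left := ⟨hall⟩
    haveI : IsLocallyNoetherian K.left := LocallyOfFiniteType.isLocallyNoetherian K.hom
    haveI : CompactSpace K.left := QuasiCompact.compactSpace_of_compactSpace K.hom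
    haveI : IsNoetherian K.left := {}
    haveI : Finite K.left := by
      have hfin := TopologicalSpace.NoetherianSpace.finite_irreducibleComponents (α := K.left)
      haveI := hfin.to_subtype
      refine Finite.of_injective (fun x : K.left => (⟨{x}, ?_⟩ : irreducibleComponents K.left)) fun x y h =>
        Set.singleton_injective (congrArg Subtype.val h)
      refine ⟨isIrreducible_singleton, fun Z hZ hxZ => ?_⟩
      obtain ⟨g, hg⟩ := QuasiSober.sober hZ.closure isClosed_closure
      have : closure Z = {g} := hg.def.symm.trans (hall g).closure_eq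
      have hxg : x = g := by
        have : x ∈ closure Z := subset_closure (hxZ rfl)
        rwa [‹closure Z = {g}›] at this
      exact subset_closure.trans (this.le.trans (hxg ▸ subset_rfl))
    infer_instance
  haveI := quasiCompact_of_grp φ
  have sqt : IsPullback t.left K.hom φ.left η[Q].left := hkt.map (Over.forget _)
  haveI : IsFinite φ.left := by
    refine GrpSchLib.HomFinite.isFinite_of_discrete_ker φ ?_
    exact sqt.isoPullback.hom.homeomorph.symm.isEmbedding.discreteTopology
  haveI : IsProper R.hom := by rw [← Over.w φ]; infer_instance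
  obtain ⟨g, hg⟩ := exists_lift_kernel (c ≫ i) r hkr i (huniv R r)
  haveI : Surjective c.left := ⟨fun x => ⟨g.left x, by
    have h : g ≫ c = 𝟙 N := by rw [← cancel_mono i, Category.assoc, hg, Category.id_comp]
    rw [← Scheme.Hom.comp_apply, ← Over.comp_left, h]; rfl⟩⟩
  haveI : ConnectedSpace N₀.left := GeometricallyConnected.connectedSpace_of_subsingleton N₀.hom
  exact c.left.surjective.connectedSpace c.left.continuous

end

end Groth.Agent.Deform.Chev.AnyField
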