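import Groth.Agent.Deform.Chev.Series
import Groth.Agent.S4379
import Groth.Agent.S4450
import Groth.Agent.VarDim.Fibre
import Groth.Agent.SpecLib.Constr
import Groth.Agent.AVHomLib.CurveExist
import Mathlib.RingTheory.PowerSeries.Trunc

/-!
# A formal curve running out of a non-proper group
-/

universe u

open CategoryTheory CategoryTheory.Limits AlgebraicGeometry

set_option linter.style.haveILetI false
set_option linter.unusedSectionVars false

namespace Groth.Agent.Deform.Chev

noncomputable section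

section Residue

variable {k K : Type u} [Field k] [IsAlgClosed k] [Field K] [Algebra k K] (A : ValuationSubring K)

open IsLocalRing

/-- The residues of a nontrivial valuation ring in a field of transcendence degree one are constants. -/
theorem exists_const (htr : Algebra.trdeg k K ≤ 1) (hA : A ≠ ⊤) (hk : ∀ c : k, algebraMap k K c ∈ A) (a : A) :
    ∃ c : k, a - ⟨algebraMap k K c, hk c⟩ ∈ maximalIdeal A := by
  letI : Algebra k A := ((algebraMap k K).codRestrict A.toSubring hk).toAlgebra
  haveI : IsScalarTower k A K := IsScalarTower.of_algebraMap_eq fun _ => rfl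
  by_contra hno
  push Not at hno
  have htra : Transcendental k (residue A a) := by
    intro halg
    obtain ⟨c, hc⟩ : ∃ c, algebraMap k (ResidueField A) c = residue A a := by
      have h := IntermediateField.mem_bot.mp (show residue A a ∈ (⊥ : IntermediateField k (ResidueField A)) by
        haveI : Algebra.IsAlgebraic k (IntermediateField.adjoin k {residue A a}) :=
          IntermediateField.isAlgebraic_adjoin_simple halg.isIntegral
        have hb := IsAlgClosed.algebraMap_bijective_of_isIntegral (k := k)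
          (K := IntermediateField.adjoin k {residue A a})
        obtain ⟨c, hc⟩ := hb.2 ⟨residue A a, IntermediateField.mem_adjoin_simple_self k _⟩
        exact IntermediateField.mem_bot.mpr ⟨c, congrArg Subtype.val hc⟩)
      exact h
    refine hno c ?_
    rw [← residue_eq_zero_iff, map_sub]
    exact sub_eq_zero.mpr hc.symm
  have hta : Transcendental k (a : K) := by
    intro halg
    refine htra ?_
    have h : IsAlgebraic k a := (isAlgebraic_algebraMap_iff (R := k) (A := K) Subtype.val_injective).mp halg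
    exact h.algHom (IsScalarTower.toAlgHom k A (ResidueField A))
  obtain ⟨t, ht, ht0⟩ : ∃ t : A, t ∈ maximalIdeal A ∧ t ≠ 0 := by
    by_contra hh
    push Not at hh
    refine hA (SetLike.ext fun x => ⟨fun _ => ValuationSubring.mem_top x, fun _ => ?_⟩)
    by_contra hx
    rcases A.mem_or_inv_mem x with h | h
    · exact hx h
    · by_cases h0 : (⟨x⁻¹, h⟩ : A) = 0
      · have := congrArg Subtype.val h0
        simp only [ZeroMemClass.coe_zero, inv_eq_zero] at this
        exact hx (this ▸ A.zero_mem)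
      · have hu : IsUnit (⟨x⁻¹, h⟩ : A) := by
          by_contra hn
          exact h0 (hh _ hn)
        obtain ⟨v, hv⟩ := hu.exists_right_inv
        have := congrArg Subtype.val hv
        simp only [MulMemClass.coe_mul, OneMemClass.coe_one] at this
        have hne : (x⁻¹ : K) ≠ 0 := fun h' => h0 (Subtype.ext h')
        refine hx ?_
        rw [show x = (v : K) from ((eq_inv_of_mul_eq_one_right this).trans (inv_inv x)).symm]
        exact v.2
  have hind : AlgebraicIndependent k ![(a : K)] := by
    rw [algebraicIndependent_unique_type_iff]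
    exact hta
  have hbase := hind.isTranscendenceBasis_of_lift_trdeg_le_of_finite (by simpa using htr)
  haveI halg : Algebra.IsAlgebraic (Algebra.adjoin k (Set.range ![(a : K)])) K := hbase.isAlgebraic
  obtain ⟨P, hP0, hPt⟩ := halg.isAlgebraic (t : K)
  classical
  -- divide out the largest power of the variable
  obtain ⟨Q, hPQ, hQ0⟩ : ∃ Q : Polynomial (Algebra.adjoin k (Set.range ![(a : K)])),
      P = Polynomial.X ^ P.natTrailingDegree * Q ∧ Q.coeff 0 ≠ 0 := by
    obtain ⟨Q, hQ⟩ := Polynomial.X_pow_dvd_iff.mpr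
      (fun d hd => Polynomial.coeff_eq_zero_of_lt_natTrailingDegree hd : ∀ d < P.natTrailingDegree, P.coeff d = 0)
    refine ⟨Q, hQ, fun h0 => hP0 ?_⟩
    have hc : P.coeff P.natTrailingDegree = 0 := by
      conv_lhs => arg 1; rw [hQ]
      rw [Polynomial.coeff_X_pow_mul', if_pos le_rfl, Nat.sub_self, h0]
    exact Polynomial.trailingCoeff_eq_zero.mp hc
  have hQt : Polynomial.aeval (t : K) Q = 0 := by
    rw [hPQ, map_mul, map_pow, Polynomial.aeval_X] at hPt
    exact (mul_eq_zero.mp hPt).resolve_left (pow_ne_zero _ fun h => ht0 (Subtype.ext h))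
  have hle : ∀ r : Algebra.adjoin k (Set.range ![(a : K)]), ∃ p : Polynomial k, (r : K) = ((Polynomial.aeval a p : A) : K) := by
    rintro ⟨r, hr⟩
    rw [show Set.range ![(a : K)] = {(a : K)} by simp, Algebra.adjoin_singleton_eq_range_aeval] at hr
    obtain ⟨p, hp⟩ := hr
    exact ⟨p, hp.symm.trans (Polynomial.aeval_algebraMap_apply K a p)⟩
  choose p hp using hle
  have hq0 : Polynomial.aeval a (p (Q.coeff 0)) ∈ maximalIdeal A := by
    have hdiv : Polynomial.aeval (t : K) Q =
        (t : K) * ((∑ i ∈ Finset.range (Q.natDegree + 1), Polynomial.aeval a (p (Q.divX.coeff i)) * t ^ i : A) : K) +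
          ((Polynomial.aeval a (p (Q.coeff 0)) : A) : K) := by
      conv_lhs => rw [← Q.X_mul_divX_add]
      rw [map_add, map_mul, Polynomial.aeval_X, Polynomial.aeval_C]
      congr 1
      · congr 1
        rw [Polynomial.aeval_eq_sum_range' (lt_of_le_of_lt Polynomial.natDegree_divX_le (Nat.lt_succ_self _))]
        simp only [AddSubmonoidClass.coe_finsetSum, MulMemClass.coe_mul, SubmonoidClass.coe_pow]
        refine Finset.sum_congr rfl fun i _ => ?_
        rw [← hp, Algebra.smul_def]
        rfl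
      · exact hp _
    rw [hQt] at hdiv
    have : Polynomial.aeval a (p (Q.coeff 0)) =
        t * (- ∑ i ∈ Finset.range (Q.natDegree + 1), Polynomial.aeval a (p (Q.divX.coeff i)) * t ^ i) := by
      refine Subtype.ext ?_
      push_cast at hdiv ⊢
      rw [mul_neg]
      exact eq_neg_of_add_eq_zero_right hdiv.symm
    rw [this]
    exact Ideal.mul_mem_right _ _ ht
  rw [← residue_eq_zero_iff] at hq0
  have hpz : p (Q.coeff 0) = 0 := by
    refine (transcendental_iff.mp htra) _ ?_
    rw [← hq0]
    exact Polynomial.aeval_algHom_apply (IsScalarTower.toAlgHom k A (ResidueField A)) a _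
  refine hQ0 (Subtype.ext ((hp _).trans ?_))
  rw [hpz, map_zero]
  rfl

end Residue

section Expansion

variable {k : Type u} [Field k] {A : Type u} [CommRing A] [IsDomain A] [IsDiscreteValuationRing A] [Algebra k A]

open Polynomial

/-- A discrete valuation ring with constant residues embeds into the power series. -/
theorem exists_series (hres : ∀ a : A, ∃ c : k, a - algebraMap k A c ∈ IsLocalRing.maximalIdeal A) :
    ∃ ψ : A →ₐ[k] PowerSeries k, Function.Injective ψ ∧ IsLocalHom ψ.toRingHom := by
  obtain ⟨π, hπ⟩ := IsDiscreteValuationRing.exists_irreducible A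
  have hm : ∀ a : A, a ∈ IsLocalRing.maximalIdeal A ↔ π ∣ a := fun a => by
    rw [hπ.maximalIdeal_eq, Ideal.mem_span_singleton]
  have hex : ∀ (n : ℕ) (a : A), ∃ p : k[X], π ^ n ∣ a - aeval π p := by
    intro n
    induction n with
    | zero => exact fun a => ⟨0, by simp⟩
    | succ n ih =>
      intro a
      obtain ⟨c, hc⟩ := hres a
      obtain ⟨a', ha'⟩ := (hm _).mp hc
      obtain ⟨p, r, hr⟩ := ih a'
      refine ⟨C c + X * p, r, ?_⟩
      rw [map_add, map_mul, aeval_C, aeval_X, pow_succ', mul_assoc, ← hr, mul_sub, ← ha']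
      ring
  have huniq : ∀ (n : ℕ) (p : k[X]), π ^ n ∣ aeval π p → X ^ n ∣ p := by
    intro n
    induction n with
    | zero => intro p _; simp
    | succ n ih =>
      intro p hp
      have hsplit : aeval π p = algebraMap k A (p.coeff 0) + π * aeval π p.divX := by
        conv_lhs => rw [← p.X_mul_divX_add]
        rw [map_add, map_mul, aeval_X, aeval_C]
        ring
      have h0 : p.coeff 0 = 0 := by
        by_contra h0
        have hd : π ∣ algebraMap k A (p.coeff 0) := by
          have h1 : π ∣ aeval π p := (dvd_pow_self π (Nat.succ_ne_zero n)).trans hp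
          rw [hsplit] at h1
          exact (dvd_add_left (dvd_mul_right π _)).mp h1
        exact hπ.not_isUnit (isUnit_of_dvd_unit hd ((isUnit_iff_ne_zero.mpr h0).map _))
      rw [hsplit, h0, map_zero, zero_add, pow_succ'] at hp
      rw [← p.X_mul_divX_add, h0, C_0, add_zero, pow_succ']
      exact mul_dvd_mul_left X (ih _ ((mul_dvd_mul_iff_left hπ.ne_zero).mp hp))
  choose P hP using hex
  have hcoe : ∀ (n : ℕ) (a : A) (p : k[X]), π ^ n ∣ a - aeval π p → ∀ i < n, (P (i + 1) a).coeff i = p.coeff i := by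
    intro n a p hp i hi
    have h : π ^ (i + 1) ∣ aeval π (P (i + 1) a - p) := by
      rw [map_sub, show aeval π (P (i + 1) a) - aeval π p =
        (a - aeval π p) - (a - aeval π (P (i + 1) a)) by ring]
      exact dvd_sub ((pow_dvd_pow π hi).trans hp) (hP (i + 1) a)
    have := Polynomial.X_pow_dvd_iff.mp (huniq _ _ h) i (Nat.lt_succ_self i)
    rwa [coeff_sub, sub_eq_zero] at this
  let f : A → PowerSeries k := fun a => PowerSeries.mk fun i => (P (i + 1) a).coeff i
  have hf : ∀ (n : ℕ) (a : A) (p : k[X]), π ^ n ∣ a - aeval π p → ∀ i < n, PowerSeries.coeff i (f a) = p.coeff i := by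
    intro n a p hp i hi
    rw [PowerSeries.coeff_mk]
    exact hcoe n a p hp i hi
  have hmul : ∀ a b, f (a * b) = f a * f b := fun a b => PowerSeries.ext fun i => by
    rw [hf (i + 1) (a * b) (P (i + 1) a * P (i + 1) b) ?_ i (Nat.lt_succ_self i), PowerSeries.coeff_mul,
      Polynomial.coeff_mul]
    · refine Finset.sum_congr rfl fun x hx => ?_
      rw [Finset.HasAntidiagonal.mem_antidiagonal] at hx
      rw [hf (i + 1) a (P (i + 1) a) (hP _ _) _ (by omega), hf (i + 1) b (P (i + 1) b) (hP _ _) _ (by omega)]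
    · rw [map_mul, show a * b - aeval π (P (i + 1) a) * aeval π (P (i + 1) b) =
        (a - aeval π (P (i + 1) a)) * b + aeval π (P (i + 1) a) * (b - aeval π (P (i + 1) b)) by ring]
      exact dvd_add ((hP _ _).mul_right _) ((hP _ _).mul_left _)
  have hadd : ∀ a b, f (a + b) = f a + f b := fun a b => PowerSeries.ext fun i => by
    rw [hf (i + 1) (a + b) (P (i + 1) a + P (i + 1) b) ?_ i (Nat.lt_succ_self i), map_add, coeff_add,
      hf (i + 1) a (P (i + 1) a) (hP _ _) _ (Nat.lt_succ_self i), hf (i + 1) b (P (i + 1) b) (hP _ _) _ (Nat.lt_succ_self i)]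
    rw [map_add, show a + b - (aeval π (P (i + 1) a) + aeval π (P (i + 1) b)) =
      (a - aeval π (P (i + 1) a)) + (b - aeval π (P (i + 1) b)) by ring]
    exact dvd_add (hP _ _) (hP _ _)
  have halg : ∀ c, f (algebraMap k A c) = PowerSeries.C c := fun c => PowerSeries.ext fun i => by
    rw [hf (i + 1) _ (C c) (by simp) i (Nat.lt_succ_self i), PowerSeries.coeff_C, Polynomial.coeff_C]
  have hone : f 1 = 1 := by simpa using halg 1
  have hzero : f 0 = 0 := by simpa using halg 0
  let ψ : A →ₐ[k] PowerSeries k :=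
    { toFun := f, map_one' := hone, map_mul' := hmul, map_zero' := hzero, map_add' := hadd, commutes' := halg }
  have hπX : ψ π = PowerSeries.X := PowerSeries.ext fun i => by
    show PowerSeries.coeff i (f π) = _
    rw [hf (i + 1) π X (by simp) i (Nat.lt_succ_self i), PowerSeries.coeff_X, Polynomial.coeff_X]
    simp only [eq_comm]
  refine ⟨ψ, ?_, ⟨fun a ha => ?_⟩⟩
  · rw [injective_iff_map_eq_zero]
    intro a ha
    by_contra ha0
    obtain ⟨n, v, rfl⟩ := IsDiscreteValuationRing.eq_unit_mul_pow_irreducible ha0 hπ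
    rw [map_mul, map_pow, hπX] at ha
    exact mul_ne_zero ((v.isUnit.map ψ).ne_zero) (pow_ne_zero n PowerSeries.X_ne_zero) ha
  · by_contra hn
    obtain ⟨b, rfl⟩ := (hm a).mp ((IsLocalRing.mem_maximalIdeal a).mpr hn)
    have h : IsUnit (ψ π * ψ b) := by rwa [← map_mul]
    rw [hπX] at h
    exact PowerSeries.X_prime.not_unit (isUnit_of_mul_isUnit_left h)

end Expansion

variable {k : Type u} [Field k]

theorem specMap_resHom {X : Scheme.{u}} (f : X ⟶ Spec (CommRingCat.of k)) (x : X) :
    Spec.map (CommRingCat.ofHom (VarDim.resHom f x)) = X.fromSpecResidueField x ≫ f := by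
  have e : X.fromSpecStalk x ≫ f = Spec.map ((Scheme.ΓSpecIso (CommRingCat.of k)).inv ≫ f.appTop ≫
      X.presheaf.germ ⊤ x trivial) := by
    refine ext_of_isAffine ?_
    rw [Scheme.Hom.comp_appTop, Scheme.fromSpecStalk_appTop, ← cancel_epi (Scheme.ΓSpecIso (CommRingCat.of k)).inv]
    rw [← Scheme.ΓSpecIso_inv_naturality]
    rfl
  rw [Scheme.fromSpecResidueField, Category.assoc, e, ← Spec.map_comp]
  rfl

variable [IsAlgClosed k]

/-- A curve in a closed set running out of it: a point with one-dimensional closure mapping away from a closed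
point of the closure of the image. -/
theorem exists_curve_point {P A : Scheme.{u}} (p : P ⟶ A) (a : A ⟶ Spec (CommRingCat.of k))
    [LocallyOfFiniteType p] [LocallyOfFiniteType a] [QuasiCompact p] [CompactSpace ↥A] [QuasiSeparatedSpace ↥A]
    {Z : Set P} (hZ : IsClosed Z) (hnc : ¬ IsClosed (p '' Z)) :
    ∃ (z : P) (y : A), z ∈ Z ∧ p z ⤳ y ∧ y ∉ p '' Z ∧ VarDim.deg (p ≫ a) z = 1 := by
  haveI : IsLocallyNoetherian A := LocallyOfFiniteType.isLocallyNoetherian a
  haveI : IsNoetherian A := { }
  haveI : CompactSpace ↥P := QuasiCompact.compactSpace_of_compactSpace p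
  haveI : IsLocallyNoetherian P := LocallyOfFiniteType.isLocallyNoetherian p
  haveI : IsNoetherian P := { }
  haveI : JacobsonSpace A := LocallyOfFiniteType.jacobsonSpace a
  have hE : Topology.IsConstructible (p '' Z) := p.isConstructible_image (SpecLib.isConstructible_of_isClosed hZ)
  -- a closed point of the boundary
  obtain ⟨y, hy, hyE, hyc⟩ : ∃ y, y ∈ closure (p '' Z) ∧ y ∉ p '' Z ∧ IsClosed ({y} : Set A) := by
    obtain ⟨x, hx, hxE⟩ : ∃ x, x ∈ closure (p '' Z) ∧ x ∉ p '' Z := by
      by_contra hh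
      push Not at hh
      exact hnc (closure_subset_iff_isClosed.mp hh)
    obtain ⟨n, L, hL, heq⟩ := SpecLib.exists_lc_of_isConstructible
      ((SpecLib.isConstructible_of_isClosed (isClosed_closure (s := p '' Z))).sdiff hE)
    obtain ⟨i, hi⟩ := Set.mem_iUnion.mp ((Set.ext_iff.mp heq x).mp ⟨hx, hxE⟩)
    obtain ⟨y, hy, hyc⟩ := nonempty_inter_closedPoints ⟨x, hi⟩ (hL i)
    have := (Set.ext_iff.mp heq y).mpr (Set.mem_iUnion_of_mem i hy)
    exact ⟨y, this.1, this.2, hyc⟩
  -- the generic point of a component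
  obtain ⟨S, hSf, hSc, hSi, hSU⟩ := TopologicalSpace.NoetherianSpace.exists_finite_set_isClosed_irreducible hZ
  obtain ⟨T, hT, hyT⟩ : ∃ T ∈ S, y ∈ closure (p '' T) := by
    rw [hSU, Set.sUnion_eq_biUnion, Set.image_iUnion₂, hSf.closure_biUnion] at hy
    simpa using hy
  let η := (hSi T hT).genericPoint
  have hηT : closure {η} = T := by
    rw [(hSi T hT).genericPoint_closure_eq, (hSc T hT).closure_eq]
  have hTZ : T ⊆ Z := hSU ▸ Set.subset_sUnion_of_mem hT
  have hηZ : η ∈ Z := hTZ (hηT ▸ subset_closure rfl)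
  have hvy : p η ⤳ y := by
    rw [specializes_iff_mem_closure]
    refine closure_minimal ?_ isClosed_closure hyT
    rw [← hηT]
    exact (image_closure_subset_closure_image p.continuous).trans (by rw [Set.image_singleton])
  -- an open piece of the closure inside the image
  obtain ⟨U, hUo, hUne, hUsub⟩ := SpecLib.exists_open_of_isConstructible hE
    (isIrreducible_singleton.closure (X := A) (s := {p η}))
    (closure_mono fun w hw => ⟨Set.mem_singleton_iff.mp hw ▸ Set.mem_image_of_mem p hηZ, subset_closure hw⟩)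
  have hvU : p η ∈ U := by
    obtain ⟨w, hwU, hw⟩ := hUne
    exact (specializes_iff_mem_closure.mpr hw).mem_open hUo hwU
  have hyU : y ∉ U := fun h => hyE (hUsub ⟨h, specializes_iff_mem_closure.mp hvy⟩)
  let Sw : Set A := {w | p η ⤳ w ∧ w ⤳ y ∧ w ∈ U}
  obtain ⟨w, ⟨hw1, hw2, hwU⟩, hmin⟩ := (InvImage.wf (VarDim.deg a) Nat.lt_wfRel.wf).has_min Sw
    ⟨p η, specializes_refl _, hvy, hvU⟩
  have hwy : w ≠ y := fun h => hyU (h ▸ hwU)
  have hdy : VarDim.deg a y = 0 := (VarDim.closedPoint_iff_deg_eq_zero a y).mp hyc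
  have hw : VarDim.deg a w = 1 := by
    rw [VarDim.deg_of_immediate a hwy hw2 fun r hr1 hr2 => ?_, hdy]
    by_contra hne
    push Not at hne
    -- a chain of length two gives a smaller point in the open set
    obtain ⟨W, hW, hyW, -⟩ := exists_isAffineOpen_mem_and_subset (x := y) (U := ⊤) trivial
    haveI : IsNoetherianRing Γ(A, W) := IsLocallyNoetherian.component_noetherian ⟨W, hW⟩
    obtain ⟨qw, rfl⟩ := VarDim.exists_fromSpec_eq hW (hw2.mem_open W.2 hyW)
    obtain ⟨qr, rfl⟩ := VarDim.exists_fromSpec_eq hW (hr2.mem_open W.2 hyW)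
    obtain ⟨qy, rfl⟩ := VarDim.exists_fromSpec_eq hW hyW
    have h1 : qw.asIdeal < qr.asIdeal := lt_of_le_of_ne ((VarDim.fromSpec_specializes_iff hW qw qr).mp hr1)
      fun h => hne.1 (by rw [PrimeSpectrum.ext h])
    have h2 : qr.asIdeal < qy.asIdeal := lt_of_le_of_ne ((VarDim.fromSpec_specializes_iff hW qr qy).mp hr2)
      fun h => hne.2 (by rw [PrimeSpectrum.ext h])
    obtain ⟨I, hI⟩ := (PrimeSpectrum.isClosed_iff_zeroLocus_ideal _).mp
      ((hUo.preimage hW.fromSpec.continuous).isClosed_compl)
    obtain ⟨f, hfI, hf⟩ : ∃ f ∈ I, f ∉ qw.asIdeal := by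
      by_contra hh
      push Not at hh
      have : qw ∈ (hW.fromSpec ⁻¹' U)ᶜ := by rw [hI]; exact hh
      exact this hwU
    -- work in the quotient domain
    let π := Ideal.Quotient.mk qw.asIdeal
    have hsurj : Function.Surjective π := Ideal.Quotient.mk_surjective
    have hker : RingHom.ker π ≤ qr.asIdeal := by rw [Ideal.mk_ker]; exact h1.le
    have hker' : RingHom.ker π ≤ qy.asIdeal := by rw [Ideal.mk_ker]; exact (h1.trans h2).le
    haveI := Ideal.map_isPrime_of_surjective hsurj hker
    haveI := Ideal.map_isPrime_of_surjective hsurj hker'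
    have hcomap : ∀ J : Ideal Γ(A, W), qw.asIdeal ≤ J → (J.map π).comap π = J := fun J hJ => by
      rw [Ideal.comap_map_of_surjective _ hsurj, ← RingHom.ker_eq_comap_bot, Ideal.mk_ker, sup_eq_left.mpr hJ]
    have hb : ⊥ < qr.asIdeal.map π := bot_lt_iff_ne_bot.mpr fun h => h1.ne (by
      rw [← hcomap _ h1.le, h, ← RingHom.ker_eq_comap_bot, Ideal.mk_ker])
    have hlt : qr.asIdeal.map π < qy.asIdeal.map π := lt_of_le_of_ne (Ideal.map_mono h2.le) fun h => h2.ne (by
      rw [← hcomap _ h1.le, h, hcomap _ (h1.trans h2).le])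
    obtain ⟨q, hq, hq0, hqy, hfq⟩ := AVHomLib.exists_prime_le_notMem hb hlt
      (a := π f) (fun h => hf (Ideal.Quotient.eq_zero_iff_mem.mp h))
    let q' : PrimeSpectrum Γ(A, W) := ⟨q.comap π, Ideal.IsPrime.comap π⟩
    have hwq : qw.asIdeal < q'.asIdeal := lt_of_le_of_ne
      (fun x hx => by show π x ∈ q; rw [Ideal.Quotient.eq_zero_iff_mem.mpr hx]; exact q.zero_mem)
      fun h => hq0 (by
        rw [← Ideal.map_comap_of_surjective π hsurj q, show q.comap π = qw.asIdeal from h.symm, Ideal.map_quotient_self])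
    have hqy' : q'.asIdeal ≤ qy.asIdeal := (Ideal.comap_mono hqy).trans (hcomap _ (h1.trans h2).le).le
    have hs1 : hW.fromSpec qw ⤳ hW.fromSpec q' := (VarDim.fromSpec_specializes_iff hW qw q').mpr hwq.le
    refine hmin (hW.fromSpec q') ⟨hw1.trans hs1, (VarDim.fromSpec_specializes_iff hW q' qy).mpr hqy', ?_⟩ ?_
    · by_contra hU'
      have : q' ∈ (hW.fromSpec ⁻¹' U)ᶜ := hU'
      rw [hI] at this
      exact hfq (this hfI)
    · show VarDim.deg a (hW.fromSpec q') < VarDim.deg a (hW.fromSpec qw)
      by_contra hlt'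
      push Not at hlt'
      exact hwq.ne (congrArg PrimeSpectrum.asIdeal (hW.fromSpec.isOpenEmbedding.injective
        (VarDim.eq_of_specializes_of_deg_le a hs1 hlt')))
  -- a closed point of the fibre
  obtain ⟨x, hxZ, hxw⟩ := hUsub ⟨hwU, specializes_iff_mem_closure.mp hw1⟩
  obtain ⟨x', rfl⟩ : x ∈ Set.range (p.fiberι w) := by rw [p.range_fiberι]; exact hxw
  obtain ⟨c, hxc, hcc⟩ := VarDim.exists_closed_specialization (k := A.residueField w) (p.fiberToSpecResidueField w) x'
  refine ⟨p.fiberι w c, y, (hxc.map (p.fiberι w).continuous).mem_closed hZ hxZ, ?_, hyE, ?_⟩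
  · have : p.fiberι w c ∈ p ⁻¹' {w} := p.range_fiberι w ▸ Set.mem_range_self c
    rw [show p (p.fiberι w c) = w from this]
    exact hw2
  · have hc : p.fiberι w c ∈ p ⁻¹' {w} := p.range_fiberι w ▸ Set.mem_range_self c
    rw [VarDim.deg_comp_eq, show p (p.fiberι w c) = w from hc, hw, ← VarDim.deg_fiber,
      (VarDim.closedPoint_iff_deg_eq_zero _ c).mp hcc]

theorem exists_lift {R L : Type u} [CommRing R] [IsDomain R] [Field L] [Algebra R L] [IsFractionRing R L]
    (φ : R →+* PowerSeries k) (hφ : Function.Injective φ) :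
    ∃ Ψ : L →+* LaurentSeries k, Ψ.comp (algebraMap R L) = toLS.comp φ := by
  have h : Function.Injective ((toLS (A := k)).comp φ) := fun x y hxy => hφ (toLS_injective (by
    rwa [RingHom.comp_apply, RingHom.comp_apply] at hxy))
  refine ⟨IsLocalization.lift (M := nonZeroDivisors R) (S := L) (g := (toLS (A := k)).comp φ) fun y => ?_, ?_⟩
  · exact isUnit_iff_ne_zero.mpr fun h0 => nonZeroDivisors.coe_ne_zero y (h (h0.trans (map_zero _).symm))
  · exact IsLocalization.lift_comp _

/-- The expansion of a discrete valuation ring of a field of transcendence degree one at its rational centre. -/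
theorem exists_series_of_trdeg {L : Type u} [Field L] [Algebra k L] (htr : Algebra.trdeg k L ≤ 1)
    (R : ValuationSubring L) [IsDiscreteValuationRing R] (j : k →+* R)
    (hjk : ∀ c, ((j c : R) : L) = algebraMap k L c) :
    ∃ (Ψ : L →+* LaurentSeries k) (ψ : R →+* PowerSeries k), IsLocalHom ψ ∧
      Ψ.comp R.subtype = toLS.comp ψ ∧ ψ.comp j = PowerSeries.C := by
  have hk : ∀ c : k, algebraMap k L c ∈ R := fun c => hjk c ▸ (j c).2
  have hR0 : R ≠ ⊤ := by
    intro hT
    refine IsDiscreteValuationRing.not_isField R ⟨⟨0, 1, zero_ne_one⟩, mul_comm, fun {x} hx => ?_⟩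
    exact ⟨⟨(x : L)⁻¹, (SetLike.ext_iff.mp hT _).mpr (ValuationSubring.mem_top _)⟩,
      Subtype.ext (mul_inv_cancel₀ fun h0 => hx (Subtype.ext h0))⟩
  letI : Algebra k R := j.toAlgebra
  obtain ⟨ψ, hψi, hψl⟩ := exists_series (k := k) (A := R) fun r => by
    obtain ⟨c, hc⟩ := exists_const R htr hR0 hk r
    refine ⟨c, ?_⟩
    rwa [show algebraMap k R c = ⟨algebraMap k L c, hk c⟩ from Subtype.ext (hjk c)]
  obtain ⟨Ψ, hΨ⟩ := exists_lift (L := L) ψ.toRingHom hψi
  exact ⟨Ψ, ψ.toRingHom, hψl, hΨ, RingHom.ext fun c => ψ.commutes c⟩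

/-- The curve through a point of a closed set running out of it does not extend. -/
theorem exists_not_extends_of_path (G : Over (Spec (CommRingCat.of k))) {A : Scheme.{u}}
    (a : A ⟶ Spec (CommRingCat.of k))
    {Z : Set ↥(pullback G.hom a)} (hZ : IsClosed Z) {y : A} (hy : y ∉ pullback.snd G.hom a '' Z)
    (δ : Spec (CommRingCat.of (LaurentSeries k)) ⟶ pullback G.hom a) (hδ : ∀ q, δ q ∈ Z)
    (d : Spec (CommRingCat.of (PowerSeries k)) ⟶ A) (hd : d ≫ a = Spec.map (CommRingCat.ofHom PowerSeries.C))
    (hdy : d (IsLocalRing.closedPoint (PowerSeries k)) = y)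
    (hcomp : δ ≫ pullback.snd G.hom a = Spec.map (CommRingCat.ofHom (toLS (A := k))) ≫ d) :
    ∃ γ : disc k ⟶ G, ¬ Extends γ := by
  have hw : (δ ≫ pullback.fst G.hom a) ≫ G.hom = (disc k).hom := by
    rw [Category.assoc, pullback.condition, reassoc_of% hcomp, hd, ← Spec.map_comp]
    rfl
  refine ⟨Over.homMk (δ ≫ pullback.fst G.hom a) hw, ?_⟩
  rintro ⟨γ', hγ'⟩
  let ε : Spec (CommRingCat.of (PowerSeries k)) ⟶ pullback G.hom a :=
    pullback.lift γ'.left d ((Over.w γ').trans hd.symm)
  have hεδ : Spec.map (CommRingCat.ofHom (toLS (A := k))) ≫ ε = δ := by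
    refine pullback.hom_ext ?_ ?_
    · rw [Category.assoc, pullback.lift_fst]; exact hγ'
    · rw [Category.assoc, pullback.lift_snd]; exact hcomp.symm
  let c0 : Spec (CommRingCat.of (PowerSeries k)) := IsLocalRing.closedPoint (PowerSeries k)
  let o := Spec.map (CommRingCat.ofHom (toLS (A := k))) (IsLocalRing.closedPoint (LaurentSeries k))
  have ho : ε o ∈ Z := by
    rw [← Scheme.Hom.comp_apply, hεδ]
    exact hδ _
  have hsp : o ⤳ c0 := IsLocalRing.specializes_closedPoint _
  refine hy ⟨ε c0, (hsp.map ε.continuous).mem_closed hZ ho, ?_⟩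
  rw [← Scheme.Hom.comp_apply, pullback.lift_snd]
  exact hdy

/-- A closed set with non-closed image after a base change gives a curve that does not extend. -/
theorem exists_not_extends_of_image (G : Over (Spec (CommRingCat.of k))) [LocallyOfFiniteType G.hom]
    [QuasiCompact G.hom] {A : Scheme.{u}} (a : A ⟶ Spec (CommRingCat.of k)) [LocallyOfFiniteType a] [IsAffine A]
    {Z : Set ↥(pullback G.hom a)} (hZ : IsClosed Z) (hnc : ¬ IsClosed (pullback.snd G.hom a '' Z)) :
    ∃ γ : disc k ⟶ G, ¬ Extends γ := by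
  haveI : IsLocallyNoetherian A := LocallyOfFiniteType.isLocallyNoetherian a
  haveI : LocallyOfFiniteType (pullback.snd G.hom a) := MorphismProperty.pullback_snd _ _ inferInstance
  haveI : QuasiCompact (pullback.snd G.hom a) := MorphismProperty.pullback_snd _ _ inferInstance
  obtain ⟨z, y, hzZ, hzy, hyZ, hdeg⟩ := exists_curve_point (pullback.snd G.hom a) a hZ hnc
  have hne : y ≠ pullback.snd G.hom a z := fun h => hyZ (h ▸ Set.mem_image_of_mem _ hzZ)
  obtain ⟨R, h, hR, hcl, hgen⟩ := S4450.result (pullback.snd G.hom a) z y hzy hne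
  letI : Algebra k ((pullback G.hom a).residueField z) := (VarDim.resHom (pullback.snd G.hom a ≫ a) z).toAlgebra
  obtain ⟨j, hj⟩ : ∃ j : CommRingCat.of k ⟶ CommRingCat.of R, Spec.map j = h ≫ a :=
    ⟨Spec.preimage _, Spec.map_preimage _⟩
  have hjk : ∀ c : k, ((j.hom c : R) : (pullback G.hom a).residueField z) = algebraMap k _ c := by
    have e : Spec.map (j ≫ CommRingCat.ofHom R.subtype) =
        Spec.map (CommRingCat.ofHom (VarDim.resHom (pullback.snd G.hom a ≫ a) z)) := by
      rw [Spec.map_comp, hj, ← Category.assoc, hgen, specMap_resHom, Category.assoc]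
    exact fun c => congr($(Spec.map_injective e) c)
  have htr : Algebra.trdeg k ((pullback G.hom a).residueField z) ≤ 1 := by
    show VarDim.tdeg (pullback.snd G.hom a ≫ a) z ≤ 1
    rw [← VarDim.deg_eq_tdeg, hdeg, Nat.cast_one]
  obtain ⟨Ψ, ψ, hloc, hΨ, hψ⟩ := exists_series_of_trdeg htr R j.hom hjk
  refine exists_not_extends_of_path G a hZ hyZ (Spec.map (CommRingCat.ofHom Ψ) ≫ Scheme.fromSpecResidueField _ z)
    (fun q => ?_) (Spec.map (CommRingCat.ofHom ψ) ≫ h) ?_ ?_ ?_
  · rw [Scheme.Hom.comp_apply, Scheme.fromSpecResidueField_apply]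
    exact hzZ
  · rw [Category.assoc, ← hj, ← Spec.map_comp]
    exact congrArg Spec.map (CommRingCat.hom_ext hψ)
  · rw [Scheme.Hom.comp_apply, ← hcl]
    refine congrArg h ?_
    haveI : IsLocalHom (CommRingCat.ofHom ψ).hom := hloc
    exact IsLocalRing.comap_closedPoint (CommRingCat.ofHom ψ).hom
  · rw [Category.assoc, ← hgen, ← Spec.map_comp_assoc, ← Spec.map_comp_assoc]
    exact congrArg (· ≫ h) (congrArg Spec.map (CommRingCat.hom_ext hΨ))

/-- **A non-proper separated scheme of finite type contains a formal punctured curve that does not extend.** -/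
theorem exists_not_extends (G : Over (Spec (CommRingCat.of k))) [LocallyOfFiniteType G.hom]
    [IsSeparated G.hom] [QuasiCompact G.hom] (hG : ¬ IsProper G.hom) : ∃ γ : disc k ⟶ G, ¬ Extends γ := by
  rw [S4379.result] at hG
  push Not at hG
  obtain ⟨n, hn⟩ := hG
  simp only [IsClosedMap, not_forall] at hn
  obtain ⟨Z, hZ, hnc⟩ := hn
  exact exists_not_extends_of_image G _ hZ hnc

end

end Groth.Agent.Deform.Chev
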