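import Groth.Agent.Deform.Chev.Residue
import Groth.Agent.SpecLib.Constr
import Mathlib.LinearAlgebra.TensorProduct.Finiteness
import Mathlib.RingTheory.Spectrum.Prime.ChevalleyComplexity

/-!
# The stabiliser of a translation-stable subfield of infinite index is infinite
-/

universe u

open CategoryTheory CategoryTheory.Limits MonoidalCategory CartesianMonoidalCategory MonObj GrpObj AlgebraicGeometry
open scoped TensorProduct

attribute [local instance] CategoryTheory.Hom.monoid CategoryTheory.Hom.group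
set_option linter.style.haveILetI false
set_option linter.unusedSectionVars false

namespace Groth.Agent.Deform.Chev

noncomputable section

variable {k : Type u} [Field k] {G : Over (Spec (CommRingCat.of k))} [IsIntegral G.left]

omit [IsIntegral G.left] in
theorem specMap_evS (g : Pt G) {U : G.left.Opens} (hU : IsAffineOpen U) (hg : pimg g ∈ U) :
    Spec.map (CommRingCat.ofHom (evS g hg)) ≫ hU.fromSpec = g.left := by
  show Spec.map (G.left.presheaf.germ U (pimg g) hg ≫ Scheme.stalkClosedPointTo g.left) ≫ hU.fromSpec = _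
  rw [Spec.map_comp, Category.assoc]
  have h : Spec.map (G.left.presheaf.germ U (pimg g) hg) ≫ hU.fromSpec = G.left.fromSpecStalk (pimg g) := by
    rw [← IsAffineOpen.fromSpecStalk_eq_fromSpecStalk hU hg]
    rfl
  rw [h]
  exact Scheme.Spec_stalkClosedPointTo_fromSpecStalk (R := CommRingCat.of k) g.left

omit [IsIntegral G.left] in
theorem evS_comp_base (g : Pt G) {U : G.left.Opens} (hU : IsAffineOpen U) (hg : pimg g ∈ U)
    (φ : CommRingCat.of k ⟶ Γ(G.left, U)) (hφ : Spec.map φ = hU.fromSpec ≫ G.hom) (c : k) :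
    evS g hg (φ c) = c := by
  have h : Spec.map (φ ≫ CommRingCat.ofHom (evS g hg)) = Spec.map (𝟙 _) := by
    rw [Spec.map_comp, hφ, reassoc_of% specMap_evS g hU hg, Spec.map_id]
    exact Over.w g
  exact congr($(Spec.map_injective h) c)

variable [IsAlgClosed k] [LocallyOfFiniteType G.hom]

/-- Finitely many rational functions are regular on some affine open. -/
theorem exists_affine {J : Type*} [Finite J] (f : J → Fld G) {O : G.left.Opens} (hO : (O : Set G.left).Nonempty) :
    ∃ (U : G.left.Opens) (_ : IsAffineOpen U) (hη : genericPoint G.left ∈ U), U ≤ O ∧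
      ∀ i, ∃ σ : Γ(G.left, U), G.left.presheaf.germ U _ hη σ = f i := by
  choose V hV σ hσ using fun i => G.left.presheaf.exists_germ_eq (f i)
  have hopen : IsOpen ((O : Set G.left) ∩ ⋂ i, (V i : Set G.left)) := O.2.inter (isOpen_iInter_of_finite fun i => (V i).2)
  obtain ⟨_, ⟨U, hU, rfl⟩, hηU, hsub⟩ := G.left.isBasis_affineOpens.exists_subset_of_mem_open
    (show genericPoint G.left ∈ (O : Set G.left) ∩ ⋂ i, (V i : Set G.left) from
      ⟨genericPoint_mem hO.choose_spec, Set.mem_iInter.mpr hV⟩) hopen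
  refine ⟨U, hU, hηU, fun x hx => (hsub hx).1, fun i => ?_⟩
  have hle : U ≤ V i := fun x hx => Set.mem_iInter.mp (hsub hx).2 i
  exact ⟨G.left.presheaf.map (homOfLE hle).op (σ i), (germ_res_gen hle hηU _).trans (hσ i)⟩

theorem hasVal_germ (g : Pt G) {U : G.left.Opens} (hη : genericPoint G.left ∈ U) (hg : pimg g ∈ U)
    (σ : Γ(G.left, U)) : HasVal (G.left.presheaf.germ U _ hη σ) g (evS g hg σ) := ⟨U, hg, σ, rfl, rfl⟩

theorem hasVal_sum {J : Type*} (S : Finset J) {f : J → Fld G} {g : Pt G} {c : J → k}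
    (h : ∀ i ∈ S, HasVal (f i) g (c i)) : HasVal (∑ i ∈ S, f i) g (∑ i ∈ S, c i) := by
  classical
  induction S using Finset.induction_on with
  | empty => simpa using hasVal_zero g
  | insert a S ha ih =>
    rw [Finset.sum_insert ha, Finset.sum_insert ha]
    exact (h a (Finset.mem_insert_self a S)).add (ih fun i hi => h i (Finset.mem_insert_of_mem hi))

variable [GrpObj G]

/-- The addition law on a regular function: a quotient of sums of products. -/
theorem exists_presentation {U : G.left.Opens} (hU : IsAffineOpen U) (hne : (U : Set G.left).Nonempty)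
    (σ : Γ(G.left, U)) :
    ∃ P Q : Finset (Γ(G.left, U) × Γ(G.left, U)),
      (∀ (g x : Pt G) (hg : pimg g ∈ U) (hx : pimg x ∈ U) (hgx : pimg (g * x) ∈ U),
        ∑ i ∈ P, evS g hg i.1 * evS x hx i.2 = evS (g * x) hgx σ * ∑ i ∈ Q, evS g hg i.1 * evS x hx i.2) ∧
      ∃ (g x : Pt G) (hg : pimg g ∈ U) (hx : pimg x ∈ U), ∑ i ∈ Q, evS g hg i.1 * evS x hx i.2 ≠ 0 := by
  classical
  obtain ⟨φ, hφ⟩ : ∃ φ : CommRingCat.of k ⟶ Γ(G.left, U), Spec.map φ = hU.fromSpec ≫ G.hom :=
    ⟨Spec.preimage _, Spec.map_preimage _⟩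
  letI : Algebra k Γ(G.left, U) := φ.hom.toAlgebra
  let B : Type u := Γ(G.left, U)
  let χ : ∀ (g : Pt G), pimg g ∈ U → (Γ(G.left, U) →ₐ[k] k) := fun g hg =>
    { evS g hg with commutes' := evS_comp_base g hU hg φ hφ }
  let C : CommRingCat.{u} := CommRingCat.of (Γ(G.left, U) ⊗[k] Γ(G.left, U))
  let W : Over (Spec (CommRingCat.of k)) :=
    Over.mk (Spec.map (CommRingCat.ofHom (algebraMap k (Γ(G.left, U) ⊗[k] Γ(G.left, U)))))
  let i1 : Γ(G.left, U) →ₐ[k] Γ(G.left, U) ⊗[k] Γ(G.left, U) := Algebra.TensorProduct.includeLeft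
  let i2 : Γ(G.left, U) →ₐ[k] Γ(G.left, U) ⊗[k] Γ(G.left, U) := Algebra.TensorProduct.includeRight
  let p1 : W ⟶ G := Over.homMk (Spec.map (CommRingCat.ofHom i1.toRingHom) ≫ hU.fromSpec) (by
    rw [Category.assoc, ← hφ, ← Spec.map_comp]
    exact congrArg Spec.map (CommRingCat.hom_ext (RingHom.ext fun c => i1.commutes c)))
  let p2 : W ⟶ G := Over.homMk (Spec.map (CommRingCat.ofHom i2.toRingHom) ≫ hU.fromSpec) (by
    rw [Category.assoc, ← hφ, ← Spec.map_comp]
    exact congrArg Spec.map (CommRingCat.hom_ext (RingHom.ext fun c => i2.commutes c)))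
  let χ2 : ∀ (g x : Pt G), pimg g ∈ U → pimg x ∈ U → (Γ(G.left, U) ⊗[k] Γ(G.left, U) →ₐ[k] k) := fun g x hg hx =>
    Algebra.TensorProduct.lift (χ g hg) (χ x hx) fun _ _ => Commute.all _ _
  let ξ : ∀ (g x : Pt G), pimg g ∈ U → pimg x ∈ U → (𝟙_ (Over (Spec (CommRingCat.of k))) ⟶ W) := fun g x hg hx =>
    Over.homMk (Spec.map (CommRingCat.ofHom (χ2 g x hg hx).toRingHom)) (by
      show Spec.map _ ≫ Spec.map _ = 𝟙 _
      rw [← Spec.map_comp, ← Spec.map_id]
      exact congrArg Spec.map (CommRingCat.hom_ext (RingHom.ext fun c => (χ2 g x hg hx).commutes c)))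
  have hξ : ∀ g x hg hx, ξ g x hg hx ≫ (p1 * p2) = g * x := fun g x hg hx => by
    have e1 : ξ g x hg hx ≫ p1 = g := Over.OverMorphism.ext (by
      show Spec.map _ ≫ Spec.map _ ≫ hU.fromSpec = g.left
      rw [← specMap_evS g hU hg, ← Spec.map_comp_assoc]
      congr 2
      refine CommRingCat.hom_ext (RingHom.ext fun b => ?_)
      show χ2 g x hg hx (b ⊗ₜ 1) = evS g hg b
      rw [Algebra.TensorProduct.lift_tmul, map_one, _root_.mul_one]
      rfl)
    have e2 : ξ g x hg hx ≫ p2 = x := Over.OverMorphism.ext (by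
      show Spec.map _ ≫ Spec.map _ ≫ hU.fromSpec = x.left
      rw [← specMap_evS x hU hx, ← Spec.map_comp_assoc]
      congr 2
      refine CommRingCat.hom_ext (RingHom.ext fun b => ?_)
      show χ2 g x hg hx (1 ⊗ₜ b) = evS x hx b
      rw [Algebra.TensorProduct.lift_tmul, map_one, _root_.one_mul]
      rfl)
    rw [MonObj.comp_mul, e1, e2]
  -- a good pair of points
  obtain ⟨g₀, hg₀⟩ := exists_pt_open (G := G) (V := U) hne
  obtain ⟨x₀, hx₀, hgx₀⟩ := exists_pt_open (G := G) (V := U ⊓ (tr g₀).left ⁻¹ᵁ U) (nonempty_inf hne (nonempty_tr g₀ hne))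
  have hgx₀' : pimg (g₀ * x₀) ∈ U := by rw [pimg_mul]; exact hgx₀
  let m : W ⟶ G := p1 * p2
  let w₀ : ↥W.left := (ξ g₀ x₀ hg₀ hx₀).left (IsLocalRing.closedPoint k)
  have hw₀ : w₀ ∈ m.left ⁻¹ᵁ U := by
    show m.left ((ξ g₀ x₀ hg₀ hx₀).left (IsLocalRing.closedPoint k)) ∈ U
    rw [← Scheme.Hom.comp_apply, ← Over.comp_left, hξ]
    exact hgx₀'
  obtain ⟨_, ⟨q, rfl⟩, hw₀q, hsub⟩ := PrimeSpectrum.isTopologicalBasis_basic_opens.exists_subset_of_mem_open
    hw₀ (m.left ⁻¹ᵁ U).2
  have hq₀ : χ2 g₀ x₀ hg₀ hx₀ q ≠ 0 := fun h0 => hw₀q (by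
    show (χ2 g₀ x₀ hg₀ hx₀) q ∈ IsLocalRing.maximalIdeal k
    rw [h0]
    exact Ideal.zero_mem _)
  let Aw : CommRingCat.{u} := CommRingCat.of (Localization.Away q)
  let jq : Spec Aw ⟶ W.left := Spec.map (CommRingCat.ofHom (algebraMap (Γ(G.left, U) ⊗[k] Γ(G.left, U)) (Localization.Away q)))
  have hjr : Set.range (jq ≫ m.left) ⊆ Set.range hU.fromSpec := by
    rw [IsAffineOpen.range_fromSpec]
    rintro _ ⟨z, rfl⟩
    rw [Scheme.Hom.comp_apply]
    refine hsub ?_
    exact (PrimeSpectrum.localization_away_comap_range (Localization.Away q) q).le ⟨z, rfl⟩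
  obtain ⟨θ, hθ⟩ : ∃ θ : Γ(G.left, U) ⟶ Aw, Spec.map θ ≫ hU.fromSpec = jq ≫ m.left :=
    ⟨Spec.preimage (IsOpenImmersion.lift hU.fromSpec (jq ≫ m.left) hjr), by
      rw [Spec.map_preimage, IsOpenImmersion.lift_fac]⟩
  obtain ⟨⟨a, ⟨_, n, rfl⟩⟩, hn⟩ := IsLocalization.surj (Submonoid.powers q) (θ σ : Localization.Away q)
  obtain ⟨SP, hSP⟩ := TensorProduct.exists_finset (a * q)
  obtain ⟨SQ, hSQ⟩ := TensorProduct.exists_finset (q ^ (n + 1))
  have hsum : ∀ (g x : Pt G) (hg : pimg g ∈ U) (hx : pimg x ∈ U) (z : Γ(G.left, U) ⊗[k] Γ(G.left, U))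
      (S : Finset (Γ(G.left, U) × Γ(G.left, U))), z = ∑ i ∈ S, i.1 ⊗ₜ[k] i.2 →
      χ2 g x hg hx z = ∑ i ∈ S, evS g hg i.1 * evS x hx i.2 := fun g x hg hx z S hz => by
    rw [hz, map_sum]
    exact Finset.sum_congr rfl fun i _ => Algebra.TensorProduct.lift_tmul _ _ _ i.1 i.2
  refine ⟨SP, SQ, fun g x hg hx hgx => ?_, g₀, x₀, hg₀, hx₀, ?_⟩
  · rw [← hsum g x hg hx _ SP hSP, ← hsum g x hg hx _ SQ hSQ, map_mul, map_pow]
    by_cases hq : χ2 g x hg hx q = 0
    · rw [hq, mul_zero, zero_pow (Nat.succ_ne_zero n), mul_zero]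
    let χ' : Localization.Away q →+* k := IsLocalization.Away.lift q (g := (χ2 g x hg hx).toRingHom)
      (isUnit_iff_ne_zero.mpr hq)
    have hχ' : ∀ c, χ' (algebraMap _ (Localization.Away q) c) = χ2 g x hg hx c := fun c =>
      IsLocalization.Away.lift_eq q _ c
    have key : θ ≫ CommRingCat.ofHom χ' = CommRingCat.ofHom (evS (g * x) hgx) := by
      refine Spec.map_injective ((cancel_mono hU.fromSpec).mp ?_)
      rw [Spec.map_comp, Category.assoc, hθ, specMap_evS (g * x) hU hgx, ← hξ g x hg hx, Over.comp_left,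
        ← Category.assoc]
      congr 1
      show Spec.map _ ≫ Spec.map _ = Spec.map _
      rw [← Spec.map_comp]
      exact congrArg Spec.map (CommRingCat.hom_ext (RingHom.ext hχ'))
    have h1 := congrArg χ' hn
    rw [map_mul, hχ', hχ', map_pow] at h1
    rw [show χ' (θ σ) = evS (g * x) hgx σ from congr($key σ)] at h1
    rw [← h1, pow_succ, _root_.mul_assoc]
  · rw [← hsum _ _ _ _ _ SQ hSQ, map_pow]
    exact pow_ne_zero _ hq₀

variable [IsCommMonObj G] (L : Subfield (Fld G)) (hkL : ∀ c, kK c ∈ L) (hτ : ∀ (x : Pt G) {l}, l ∈ L → tau x l ∈ L)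
include hkL hτ

/-- The translates of an element of the subfield are determined by the values of finitely many of its elements. -/
theorem exists_determined {s : Fld G} (hs : s ∈ L) :
    ∃ (T : Finset (Fld G)) (O : G.left.Opens), (∀ l ∈ T, l ∈ L) ∧ (O : Set G.left).Nonempty ∧
      ∀ g g' : Pt G, pimg g ∈ O → pimg g' ∈ O →
        (∀ l ∈ T, ∃ c, HasVal l g c ∧ HasVal l g' c) → tau g s = tau g' s := by
  classical
  obtain ⟨U, hU, hη, -, hσ⟩ := exists_affine (G := G) (fun _ : Unit => s) (O := ⊤) ⟨genericPoint G.left, trivial⟩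
  obtain ⟨σ, hσ⟩ := hσ ()
  have hne : (U : Set G.left).Nonempty := ⟨_, hη⟩
  obtain ⟨P, Q, hPQ, g₀, x₀, hg₀, hx₀, hQ₀⟩ := exists_presentation hU hne σ
  let γ : Γ(G.left, U) →+* Fld G := (G.left.presheaf.germ U (genericPoint G.left) hη).hom
  let e : Finset (Γ(G.left, U) × Γ(G.left, U)) → (x : Pt G) → pimg x ∈ U → Fld G :=
    fun S x hx => ∑ i ∈ S, kK (evS x hx i.2) * γ i.1
  have hval : ∀ S x hx g (hg : pimg g ∈ U),
      HasVal (e S x hx) g (∑ i ∈ S, evS g hg i.1 * evS x hx i.2) := fun S x hx g hg => by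
    refine hasVal_sum S fun i _ => ?_
    rw [mul_comm (evS g hg i.1)]
    exact (hasVal_kK g _).mul (hasVal_germ g hη hg i.1)
  have hswap : ∀ (g x : Pt G) (hgx : pimg (g * x) ∈ U), HasVal s (x * g) (evS (g * x) hgx σ) := fun g x hgx => by
    rw [mul_comm x g]
    exact hσ ▸ hasVal_germ (g * x) hη hgx σ
  have hid : ∀ x hx, e P x hx = tau x s * e Q x hx := fun x hx => by
    refine eq_of_forall (nonempty_inf hne (nonempty_tr x hne)) fun g hg => ?_
    have hgx : pimg (g * x) ∈ U := by rw [mul_comm, pimg_mul]; exact hg.2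
    refine ⟨_, hval P x hx g hg.1, ?_⟩
    rw [hPQ g x hg.1 hx hgx]
    exact (hswap g x hgx).tau.mul (hval Q x hx g hg.1)
  have hQ0 : e Q x₀ hx₀ ≠ 0 := fun h0 => hQ₀ ((hval Q x₀ hx₀ g₀ hg₀).unique (h0 ▸ hasVal_zero g₀))
  obtain ⟨φ, hφ⟩ : ∃ φ : Fld G →ₗ[L] L, φ (e Q x₀ hx₀) = 1 := Module.Projective.exists_dual_eq_one L hQ0
  let l : Γ(G.left, U) → Fld G := fun b => (φ (γ b) : Fld G)
  have hlin : ∀ S x hx, ((φ (e S x hx) : L) : Fld G) = ∑ i ∈ S, kK (evS x hx i.2) * l i.1 := fun S x hx => by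
    simp only [e, map_sum, AddSubmonoidClass.coe_finsetSum]
    refine Finset.sum_congr rfl fun i _ => ?_
    rw [show kK (evS x hx i.2) * γ i.1 = (⟨_, hkL (evS x hx i.2)⟩ : L) • γ i.1 from rfl, map_smul, smul_eq_mul,
      MulMemClass.coe_mul]
  have hid' : ∀ x hx, ∑ i ∈ P, kK (evS x hx i.2) * l i.1 = tau x s * ∑ i ∈ Q, kK (evS x hx i.2) * l i.1 :=
    fun x hx => by
    rw [← hlin, ← hlin, hid, show tau x s * e Q x hx = (⟨_, hτ x hs⟩ : L) • e Q x hx from rfl, map_smul, smul_eq_mul,
      MulMemClass.coe_mul]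
  let T : Finset (Fld G) := (P ∪ Q).image fun i => l i.1
  obtain ⟨O, -, hηO, hOU, hO⟩ := exists_affine (G := G) (fun t : T => (t : Fld G)) hne
  refine ⟨T, O, fun t ht => ?_, ⟨_, hηO⟩, fun g g' hg hg' hsame => ?_⟩
  · obtain ⟨i, -, rfl⟩ := Finset.mem_image.mp ht
    exact (φ (γ i.1)).2
  choose c hc hc' using fun i (hi : i ∈ P ∪ Q) => hsame (l i.1) (Finset.mem_image_of_mem _ hi)
  let v : Γ(G.left, U) × Γ(G.left, U) → k := fun i => if hi : i ∈ P ∪ Q then c i hi else 0
  let A : Finset (Γ(G.left, U) × Γ(G.left, U)) → Fld G := fun S => ∑ i ∈ S, kK (v i) * γ i.2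
  have hAval : ∀ S x (hx : pimg x ∈ U), HasVal (A S) x (∑ i ∈ S, v i * evS x hx i.2) := fun S x hx =>
    hasVal_sum S fun i _ => (hasVal_kK x _).mul (hasVal_germ x hη hx i.2)
  have hlval : ∀ h : Pt G, (∀ i hi, HasVal (l i.1) h (c i hi)) → ∀ S, S ⊆ P ∪ Q → ∀ x (hx : pimg x ∈ U),
      HasVal (∑ i ∈ S, kK (evS x hx i.2) * l i.1) h (∑ i ∈ S, v i * evS x hx i.2) := fun h hh S hS x hx => by
    refine hasVal_sum S fun i hi => ?_
    rw [mul_comm (v i), show v i = c i (hS hi) from dif_pos (hS hi)]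
    exact (hasVal_kK h _).mul (hh i (hS hi))
  have key : ∀ h : Pt G, pimg h ∈ U → (∀ i hi, HasVal (l i.1) h (c i hi)) →
      A Q ≠ 0 ∧ tau h s * A Q = A P := fun h hhU hh => by
    constructor
    · intro h0
      have h1 := hlval h hh Q Finset.subset_union_right x₀ hx₀
      rw [← hlin, hφ] at h1
      have h2 := (hasVal_one h).unique (by simpa using h1)
      have h3 := (hAval Q x₀ hx₀).unique (h0 ▸ hasVal_zero x₀)
      exact one_ne_zero (h2.trans h3)
    · refine eq_of_forall (nonempty_inf hne (nonempty_tr h hne)) fun x hx => ?_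
      have hhx : pimg (h * x) ∈ U := by rw [pimg_mul]; exact hx.2
      refine ⟨_, ((hσ ▸ hasVal_germ (h * x) hη hhx σ : HasVal s (h * x) _).tau).mul (hAval Q x hx.1), ?_⟩
      have h1 := hlval h hh P Finset.subset_union_left x hx.1
      rw [hid'] at h1
      rw [← h1.unique ((hswap h x hhx).tau.mul (hlval h hh Q Finset.subset_union_right x hx.1))]
      exact hAval P x hx.1
  obtain ⟨h0, h1⟩ := key g (hOU hg) hc
  obtain ⟨-, h2⟩ := key g' (hOU hg') hc'
  exact mul_right_cancel₀ h0 (h1.trans h2.symm)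

/-- **Finitely many elements of a stable subfield over which the function field is not algebraic are fixed by
infinitely many translations.** -/
theorem infinite_stab {u₀ : Fld G} (hu : Transcendental L u₀) (S : Finset (Fld G)) (hS : ∀ s ∈ S, s ∈ L) :
    {h : Pt G | ∀ s ∈ S, tau h s = s}.Infinite := by
  classical
  choose T O hTL hO hdet using fun s : S => exists_determined L hkL hτ (hS s s.2)
  let T' : Finset (Fld G) := (Finset.univ : Finset S).biUnion T
  have hO' : ((Finset.univ : Finset S).inf O : G.left.Opens) ≠ ⊥ := by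
    refine fun h => ?_
    have : genericPoint G.left ∈ ((Finset.univ : Finset S).inf O : G.left.Opens) := by
      rw [← SetLike.mem_coe, TopologicalSpace.Opens.coe_finset_inf, Finset.inf_set_eq_iInter]
      exact Set.mem_iInter₂.mpr fun s _ => genericPoint_mem (hO s).choose_spec
    rw [h] at this
    exact this
  have hO'' : (((Finset.univ : Finset S).inf O : G.left.Opens) : Set G.left).Nonempty :=
    Set.nonempty_iff_ne_empty.mpr fun h => hO' (TopologicalSpace.Opens.ext h)
  obtain ⟨U, hU, hη, hUO, hsec⟩ := exists_affine (G := G) (fun o : Option T' => o.elim u₀ fun t => (t : Fld G)) hO''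
  choose σ hσ using hsec
  obtain ⟨φ, hφ⟩ : ∃ φ : CommRingCat.of k ⟶ Γ(G.left, U), Spec.map φ = hU.fromSpec ≫ G.hom :=
    ⟨Spec.preimage _, Spec.map_preimage _⟩
  letI : Algebra k Γ(G.left, U) := φ.hom.toAlgebra
  let γ : Γ(G.left, U) →+* Fld G := (G.left.presheaf.germ U (genericPoint G.left) hη).hom
  have hne : (U : Set G.left).Nonempty := ⟨_, hη⟩
  have hγk : ∀ c, γ (algebraMap k _ c) = kK c := fun c =>
    eq_of_forall hne fun g hg => ⟨c, by
      have := hasVal_germ g hη hg (φ c)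
      rwa [evS_comp_base g hU hg φ hφ] at this, hasVal_kK g c⟩
  have hγi : Function.Injective γ := germ_injective_of_isIntegral G.left _ hη
  haveI : Nonempty U := ⟨⟨_, hη⟩⟩
  haveI : IsDomain Γ(G.left, U) := inferInstance
  haveI : Algebra.FiniteType k Γ(G.left, U) := by
    haveI : LocallyOfFiniteType (Spec.map φ) := by rw [hφ]; infer_instance
    exact (HasRingHomProperty.Spec_iff (P := @LocallyOfFiniteType)).mp this
  let ψ : MvPolynomial (Option T') k →ₐ[k] Γ(G.left, U) := MvPolynomial.aeval σ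
  let D := ψ.range
  haveI : Algebra.FiniteType k D :=
    Algebra.FiniteType.of_surjective ψ.rangeRestrict ψ.rangeRestrict_surjective
  haveI : IsNoetherianRing D := Algebra.FiniteType.isNoetherianRing k D
  -- an open set of the image
  have hfp : D.val.toRingHom.FinitePresentation := by
    refine RingHom.FinitePresentation.of_finiteType.mp ?_
    exact RingHom.FiniteType.of_comp_finiteType (f := algebraMap k D) (g := D.val.toRingHom)
      (by rw [show D.val.toRingHom.comp (algebraMap k D) = algebraMap k Γ(G.left, U) from D.val.comp_algebraMap]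
          exact RingHom.finiteType_algebraMap.mpr inferInstance)
  have hc : Topology.IsConstructible (PrimeSpectrum.comap D.val.toRingHom '' Set.univ) :=
    PrimeSpectrum.isConstructible_comap_image hfp Topology.IsConstructible.univ
  rw [Set.image_univ] at hc
  have hbot : (⟨⊥, Ideal.isPrime_bot⟩ : PrimeSpectrum D) ∈ Set.range (PrimeSpectrum.comap D.val.toRingHom) :=
    ⟨⟨⊥, Ideal.isPrime_bot⟩, PrimeSpectrum.ext (Ideal.comap_bot_of_injective _ Subtype.val_injective)⟩
  obtain ⟨V, hV, hVne, hVsub⟩ := SpecLib.exists_open_of_isConstructible hc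
    (Z := Set.univ) (irreducibleSpace_def _ |>.mp inferInstance) (fun p _ => by
      rw [Set.inter_univ]
      refine closure_mono (Set.singleton_subset_iff.mpr hbot) ?_
      rw [← PrimeSpectrum.le_iff_mem_closure]
      exact show (⊥ : Ideal D) ≤ p.asIdeal from bot_le)
  obtain ⟨p, hp, -⟩ := hVne
  obtain ⟨_, ⟨e, rfl⟩, hpe, heV⟩ := PrimeSpectrum.isTopologicalBasis_basic_opens.exists_subset_of_mem_open hp hV
  have he : (e : Γ(G.left, U)) ≠ 0 := fun h => hpe (by
    rw [show e = 0 from Subtype.ext h]; exact Ideal.zero_mem _)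
  obtain ⟨E, hE⟩ : ∃ E, ψ E = e := e.2
  let toPoly : MvPolynomial (Option T') k →ₐ[k] Polynomial (MvPolynomial T' k) :=
    (MvPolynomial.optionEquivLeft k T').toAlgHom
  let vals : MvPolynomial T' k →+* Fld G := MvPolynomial.eval₂Hom (kK (G := G)) fun t => (t : Fld G)
  have hvals : ∀ a, vals a ∈ L := fun a => by
    induction a using MvPolynomial.induction_on with
    | C c => simpa [vals] using hkL c
    | add p q hp hq => rw [map_add]; exact L.add_mem hp hq
    | mul_X p t hp =>
      rw [map_mul]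
      refine L.mul_mem hp ?_
      simp only [vals, MvPolynomial.eval₂Hom_X']
      obtain ⟨s, -, hts⟩ := Finset.mem_biUnion.mp t.2
      exact hTL s _ hts
  have hcompat : ∀ Ψ, γ (ψ Ψ) = Polynomial.eval₂ vals u₀ (toPoly Ψ) := fun Ψ => by
    induction Ψ using MvPolynomial.induction_on with
    | C c => simp [toPoly, ψ, vals, MvPolynomial.optionEquivLeft_C, hγk]
    | add p q hp hq => simp only [map_add, Polynomial.eval₂_add, hp, hq]
    | mul_X p o hp =>
      simp only [map_mul, Polynomial.eval₂_mul, hp]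
      congr 1
      cases o with
      | none => simp [toPoly, ψ, MvPolynomial.optionEquivLeft_X_none]; exact hσ none
      | some t => simp [toPoly, ψ, vals, MvPolynomial.optionEquivLeft_X_some]; exact hσ (some t)
  have hzero : ∀ Ψ, ψ Ψ = 0 → (toPoly Ψ).map vals = 0 := fun Ψ h => by
    have h0 : Polynomial.aeval u₀ ((toPoly Ψ).map (vals.codRestrict L hvals)) = 0 := by
      rw [Polynomial.aeval_def, Polynomial.eval₂_map]
      show Polynomial.eval₂ vals u₀ (toPoly Ψ) = 0
      rw [← hcompat, h, map_zero]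
    have h1 := (transcendental_iff.mp hu) _ h0
    rw [show vals = L.subtype.comp (vals.codRestrict L hvals) from rfl, ← Polynomial.map_map, h1, Polynomial.map_zero]
  have hEne : (toPoly E).map vals ≠ 0 := fun h => he (hγi (by
    rw [← hE, hcompat, map_zero, Polynomial.eval₂_eq_eval_map, h, Polynomial.eval_zero]))
  obtain ⟨j, hj⟩ : ∃ j, vals ((toPoly E).coeff j) ≠ 0 := by
    by_contra hh
    push Not at hh
    exact hEne (Polynomial.ext fun j => by simpa using hh j)
  have hTval : ∀ (g : Pt G) (hg : pimg g ∈ U) a,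
      HasVal (vals a) g (MvPolynomial.eval (fun t => evS g hg (σ (some t))) a) := fun g hg a => by
    induction a using MvPolynomial.induction_on with
    | C c => simpa [vals] using hasVal_kK g c
    | add p q hp hq => simpa only [map_add] using hp.add hq
    | mul_X p t hp =>
      simp only [map_mul, vals, MvPolynomial.eval₂Hom_X', MvPolynomial.eval_X]
      have ht : G.left.presheaf.germ U (genericPoint G.left) hη (σ (some t)) = (t : Fld G) := hσ (some t)
      exact hp.mul (ht ▸ hasVal_germ g hη hg (σ (some t)))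
  obtain ⟨g₀, hg₀, hjg⟩ : ∃ (g₀ : Pt G) (hg₀ : pimg g₀ ∈ U),
      MvPolynomial.eval (fun t => evS g₀ hg₀ (σ (some t))) ((toPoly E).coeff j) ≠ 0 := by
    by_contra hh
    push Not at hh
    exact hj (eq_zero_of_forall hne fun g hg => hh g hg ▸ hTval g hg _)
  let v : T' → k := fun t => evS g₀ hg₀ (σ (some t))
  let E₀ : Polynomial k := (toPoly E).map (MvPolynomial.eval v)
  have hE₀ : E₀ ≠ 0 := fun h => hjg (by simpa [E₀] using congrArg (fun P => P.coeff j) h)
  -- a point over each good value of the transcendental element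
  have hpt : ∀ r : k, E₀.eval r ≠ 0 → ∃ (g : Pt G) (hg : pimg g ∈ U),
      (∀ t, evS g hg (σ (some t)) = v t) ∧ evS g hg (σ none) = r := by
    intro r hr
    have e1 : ∀ Φ, MvPolynomial.eval (fun o : Option T' => o.elim r v) Φ =
        ((toPoly Φ).map (MvPolynomial.eval v)).eval r := fun Φ => by
      induction Φ using MvPolynomial.induction_on with
      | C c => simp [toPoly, MvPolynomial.optionEquivLeft_C]
      | add p q hp hq => simp only [map_add, Polynomial.map_add, Polynomial.eval_add, hp, hq]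
      | mul_X p o hp =>
        simp only [map_mul, Polynomial.map_mul, Polynomial.eval_mul, hp]
        congr 1
        cases o with
        | none => simp [toPoly, MvPolynomial.optionEquivLeft_X_none]
        | some t => simp [toPoly, MvPolynomial.optionEquivLeft_X_some]
    have hev : ∀ Ψ, ψ Ψ = 0 → MvPolynomial.eval (fun o : Option T' => o.elim r v) Ψ = 0 := fun Ψ h => by
      rw [e1]
      have h0 : (toPoly Ψ).map (MvPolynomial.eval v) = 0 := Polynomial.ext fun i => by
        have hci : vals ((toPoly Ψ).coeff i) = 0 := by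
          simpa using congrArg (fun P => P.coeff i) (hzero Ψ h)
        have h2 := hTval g₀ hg₀ ((toPoly Ψ).coeff i)
        rw [hci] at h2
        simpa using h2.unique (hasVal_zero g₀)
      rw [h0, Polynomial.eval_zero]
    let χ : D →ₐ[k] k := AlgHom.comp (Ideal.Quotient.liftₐ (RingHom.ker ψ)
      (MvPolynomial.aeval fun o : Option T' => o.elim r v) fun Ψ h => hev Ψ h)
      (Ideal.quotientKerEquivRange ψ).symm.toAlgHom
    have hχ : ∀ Ψ, χ (ψ.rangeRestrict Ψ) = MvPolynomial.eval (fun o : Option T' => o.elim r v) Ψ := fun Ψ => by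
      have e2 : (Ideal.quotientKerEquivRange ψ).symm (ψ.rangeRestrict Ψ) = Ideal.Quotient.mk _ Ψ := by
        rw [AlgEquiv.symm_apply_eq]
        rfl
      simp only [χ, AlgHom.comp_apply, AlgEquiv.toAlgHom_eq_coe, AlgHom.coe_coe]
      erw [e2]
      rfl
    let m : PrimeSpectrum D := ⟨RingHom.ker χ, RingHom.ker_isPrime _⟩
    have hme : m ∈ (PrimeSpectrum.basicOpen e : Set (PrimeSpectrum D)) := by
      intro h
      have h2 : χ e = 0 := h
      rw [show e = ψ.rangeRestrict E from Subtype.ext hE.symm, hχ] at h2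
      apply hr
      rw [← h2]
      exact (e1 E).symm
    obtain ⟨P, hP⟩ := hVsub ⟨heV hme, trivial⟩
    obtain ⟨M, hM, hPM⟩ := Ideal.exists_le_maximal P.asIdeal P.isPrime.ne_top
    have hmax : (RingHom.ker χ).IsMaximal := RingHom.ker_isMaximal_of_surjective χ.toRingHom
      fun c => ⟨algebraMap k D c, χ.commutes c⟩
    have hMker : M.comap D.val.toRingHom = RingHom.ker χ := by
      refine (hmax.eq_of_le (Ideal.IsPrime.ne_top (Ideal.IsPrime.comap _)) ?_).symm
      rw [← show P.asIdeal.comap D.val.toRingHom = RingHom.ker χ from congrArg PrimeSpectrum.asIdeal hP]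
      exact Ideal.comap_mono hPM
    haveI := hM
    letI := Ideal.Quotient.field M
    haveI : Module.Finite k (Γ(G.left, U) ⧸ M) := finite_of_finite_type_of_isJacobsonRing k _
    let em : k ≃ₐ[k] Γ(G.left, U) ⧸ M := AlgEquiv.ofBijective (Algebra.ofId k _)
      (IsAlgClosed.algebraMap_bijective_of_isIntegral)
    let ε : Γ(G.left, U) →ₐ[k] k := em.symm.toAlgHom.comp (Ideal.Quotient.mkₐ k M)
    let g : Pt G := Over.homMk (Spec.map (CommRingCat.ofHom ε.toRingHom) ≫ hU.fromSpec) (by
      rw [Category.assoc, ← hφ, ← Spec.map_comp]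
      show _ = 𝟙 _
      rw [← Spec.map_id]
      exact congrArg Spec.map (CommRingCat.hom_ext (RingHom.ext fun c => ε.commutes c)))
    have hg : pimg g ∈ U := by
      show (Spec.map (CommRingCat.ofHom ε.toRingHom) ≫ hU.fromSpec) (IsLocalRing.closedPoint k) ∈ U
      rw [Scheme.Hom.comp_apply, ← SetLike.mem_coe, ← hU.range_fromSpec]
      exact ⟨_, rfl⟩
    have hevg : ∀ b, evS g hg b = ε b := by
      have h := specMap_evS g hU hg
      have h2 : CommRingCat.ofHom (evS g hg) = CommRingCat.ofHom ε.toRingHom :=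
        Spec.map_injective ((cancel_mono hU.fromSpec).mp h)
      exact fun b => congr($h2 b)
    have hagree : ∀ Ψ, evS g hg (ψ Ψ) = MvPolynomial.eval (fun o : Option T' => o.elim r v) Ψ := fun Ψ => by
      rw [hevg, ← hχ]
      have h1 : ψ.rangeRestrict Ψ - algebraMap k D (χ (ψ.rangeRestrict Ψ)) ∈ RingHom.ker χ := by
        rw [RingHom.mem_ker, map_sub, AlgHom.commutes, Algebra.algebraMap_self, RingHom.id_apply, sub_self]
      rw [← hMker, Ideal.mem_comap, map_sub] at h1
      have h2 : ε (ψ Ψ - algebraMap k _ (χ (ψ.rangeRestrict Ψ))) = 0 := by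
        show em.symm (Ideal.Quotient.mk M _) = 0
        rw [show Ideal.Quotient.mk M (ψ Ψ - algebraMap k _ (χ (ψ.rangeRestrict Ψ))) = 0 from
          Ideal.Quotient.eq_zero_iff_mem.mpr h1, map_zero]
      rwa [map_sub, AlgHom.commutes, sub_eq_zero] at h2
    exact ⟨g, hg, fun t => by simpa [ψ] using hagree (MvPolynomial.X (some t)),
      by simpa [ψ] using hagree (MvPolynomial.X none)⟩
  choose! gr hgr hgv hgn using hpt
  -- the translations between them fix the elements
  have hgood : {r : k | E₀.eval r ≠ 0}.Infinite := by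
    have : {r : k | E₀.eval r = 0}.Finite := E₀.finite_setOfPred_isRoot hE₀
    exact this.infinite_compl
  obtain ⟨r₀, hr₀⟩ := hgood.nonempty
  refine Set.infinite_of_injOn_mapsTo (s := {r : k | E₀.eval r ≠ 0}) (f := fun r => gr r * (gr r₀)⁻¹) ?_ ?_ hgood
  · intro r hr r' hr' h
    have h2 : gr r = gr r' := mul_right_cancel h
    have key : ∀ (a b : Pt G) (ha : pimg a ∈ U) (hb : pimg b ∈ U), a = b → evS a ha (σ none) = evS b hb (σ none) := by
      rintro a b ha hb rfl; rfl
    rw [← hgn r hr, ← hgn r' hr']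
    exact key _ _ _ _ h2
  · intro r hr s hsS
    have hin : ∀ r, E₀.eval r ≠ 0 → pimg (gr r) ∈ O ⟨s, hsS⟩ := fun r hr => by
      have h := hUO (hgr r hr)
      exact ((Finset.inf_le (Finset.mem_univ (⟨s, hsS⟩ : S))) : _ ≤ O ⟨s, hsS⟩) h
    have e1 : tau (gr r) s = tau (gr r₀) s := by
      refine hdet ⟨s, hsS⟩ _ _ (hin r hr) (hin r₀ hr₀) fun l hl => ?_
      have hlT : l ∈ T' := Finset.mem_biUnion.mpr ⟨_, Finset.mem_univ _, hl⟩
      have ht : G.left.presheaf.germ U (genericPoint G.left) hη (σ (some ⟨l, hlT⟩)) = l := hσ (some ⟨l, hlT⟩)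
      refine ⟨v ⟨l, hlT⟩, ?_, ?_⟩
      · rw [← hgv r hr ⟨l, hlT⟩]
        have h3 := hasVal_germ (gr r) hη (hgr r hr) (σ (some ⟨l, hlT⟩))
        rwa [ht] at h3
      · rw [← hgv r₀ hr₀ ⟨l, hlT⟩]
        have h3 := hasVal_germ (gr r₀) hη (hgr r₀ hr₀) (σ (some ⟨l, hlT⟩))
        rwa [ht] at h3
    show tau (gr r * (gr r₀)⁻¹) s = s
    rw [← tau_mul, e1, tau_inv]

end

end Groth.Agent.Deform.Chev
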