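import Groth.Agent.FrobIter.Basic
import Groth.Agent.WeilLib.PowMap
import Mathlib.CategoryTheory.Monoidal.Cartesian.Over

/-!
# The Frobenius endomorphisms of schemes over a finite field
-/

noncomputable section

set_option linter.style.haveILetI false
set_option backward.isDefEq.respectTransparency false
set_option backward.isDefEq.respectTransparency.types false

universe u

open CategoryTheory CategoryTheory.Limits AlgebraicGeometry

namespace Groth.Agent.Deform.Chev.PowFrob

variable {k : Type u} [Field k] [Finite k]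

theorem factPrime_ringChar : Fact (ringChar k).Prime :=
  ⟨CharP.char_is_prime k _⟩

variable (k) in
theorem exists_card_eq : ∃ e : ℕ, 0 < e ∧ Nat.card k = ringChar k ^ e := by
  cases nonempty_fintype k
  obtain ⟨n, -, hn⟩ := FiniteField.card k (ringChar k)
  exact ⟨n, n.pos, by rw [Nat.card_eq_fintype_card, hn]⟩

/-- The `n`th iterate of the `#k`-power map, as a morphism over `k`. -/
theorem exists_frob : ∃ F : ∀ (X : Over (Spec (CommRingCat.of k))), ℕ → (X ⟶ X),
    (∀ X n, WeilLib.IsPowMap (F X n).left (Nat.card k ^ n)) ∧ (∀ X, F X 0 = 𝟙 X) ∧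
      (∀ X n, F X (n + 1) = F X n ≫ F X 1) ∧
      ∀ (X Y : Over (Spec (CommRingCat.of k))) (f : Y ⟶ X) n, F Y n ≫ f = f ≫ F X n := by
  obtain ⟨e, he, hq⟩ := exists_card_eq k
  haveI := factPrime_ringChar (k := k)
  haveI hch : ∀ X : Over (Spec (CommRingCat.of k)), FrobSch.IsCharP X.left (ringChar k) :=
    fun X => FrobSch.IsCharP.of_hom X.hom _
  have hpow : ∀ (X : Scheme.{u}) [FrobSch.IsCharP X (ringChar k)] (N : ℕ),
      WeilLib.IsPowMap (FrobIter.iter (ringChar k) X N) (ringChar k ^ N) := by
    intro X _ N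
    induction N with
    | zero => rw [pow_zero]; exact WeilLib.isPowMap_id
    | succ N ih =>
      rw [pow_succ]
      refine ih.comp ⟨fun x => rfl, fun U h s => ?_⟩
      show (X.presheaf.map (homOfLE h).op).hom ((FrobSch.frob X (ringChar k)).app U s) = _
      rw [FrobSch.frob_app]
      exact congrArg (fun m => CommRingCat.Hom.hom m (s ^ ringChar k)) (X.presheaf.map_id (Opposite.op U))
  have hS : ∀ n : ℕ, FrobIter.iter (ringChar k) (Spec (CommRingCat.of k)) (e * n) = 𝟙 _ := by
    intro n
    refine ext_of_isAffine (CommRingCat.hom_ext (RingHom.ext fun s => ?_))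
    have h := (hpow (Spec (CommRingCat.of k)) (e * n)).app ⊤ le_top s
    rw [show (FrobIter.iter (ringChar k) (Spec (CommRingCat.of k)) (e * n)).appTop =
      (FrobIter.iter (ringChar k) (Spec (CommRingCat.of k)) (e * n)).appLE ⊤ ⊤ le_top from Scheme.Hom.app_eq_appLE _]
    refine h.trans ?_
    obtain ⟨c, rfl⟩ := (Scheme.ΓSpecIso (CommRingCat.of k)).commRingCatIsoToRingEquiv.symm.surjective s
    rw [← map_pow, pow_mul, ← hq]
    cases nonempty_fintype k
    rw [Nat.card_eq_fintype_card, FiniteField.pow_card_pow]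
    simp
  refine ⟨fun X n => Over.homMk (FrobIter.iter (ringChar k) X.left (e * n)) ?_, fun X n => ?_, fun X => ?_,
    fun X n => ?_, fun X Y f n => ?_⟩
  · rw [FrobIter.iter_comp, hS, Category.comp_id]
  · rw [hq, ← pow_mul]
    exact hpow X.left (e * n)
  · exact Over.OverMorphism.ext rfl
  · refine Over.OverMorphism.ext ?_
    simp only [Over.comp_left, Over.homMk_left, FrobIter.iter_eq, _root_.mul_one, Nat.mul_succ, pow_add]
    rw [← pow_mul_comm]
    rfl
  · exact Over.OverMorphism.ext (FrobIter.iter_comp f.left _)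

end Groth.Agent.Deform.Chev.PowFrob
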