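import Groth.Agent.Deform.Chev.SemiAbExp
import Groth.Agent.Deform.Chev.PowFrob
import Groth.Agent.AVRosati.Frob

/-!
# Anti-affine groups over finite fields
-/

universe u

open CategoryTheory CategoryTheory.Limits MonoidalCategory CartesianMonoidalCategory MonObj GrpObj AlgebraicGeometry
open scoped Groth.Agent.H23.PicMul TensorProduct

attribute [local instance] CategoryTheory.Hom.monoid CategoryTheory.Hom.group
set_option linter.style.haveILetI false
set_option linter.unusedSectionVars false
set_option backward.isDefEq.respectTransparency false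
set_option backward.isDefEq.respectTransparency.types false

namespace Groth.Agent.Deform.Chev.FiniteField

open GrpSchLib.AffineHopf (sp spMap spIso exists_hopf)
open AVCube

noncomputable section

variable {k : Type u} [Field k]

/-- An abelian variety on which a power map of sections by `q` is multiplication by `q` is finite. -/
theorem finite_of_pow_eq {A : Over (Spec (CommRingCat.of k))} [GrpObj A] [IsProper A.hom]
    [GeometricallyIntegral A.hom] (φ : A ⟶ A) {q : ℕ} (hq : 2 ≤ q) (hφ : WeilLib.IsPowMap φ.left q)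
    (h : φ = (𝟙 A ^ q : A ⟶ A)) : Finite A.left := by
  haveI : IsIntegral A.left := GeometricallyIntegral.isIntegral_of_subsingleton A.hom
  obtain ⟨L, hL, hs⟩ := S8121.result k A
  have hsym : pc hL.1 ((𝟙 A)⁻¹ : A ⟶ A) = pc hL.1 (𝟙 A) := by
    ext
    rw [val_pc_id, val_pc]
    exact ((PicGrp.cl_eq_cl_iff _ _).2 hs).symm
  have h1 := congrArg Units.val (AVMulN.pc_pow hL.1 hsym q)
  rw [Units.val_pow_eq_pow_val, val_pc, val_pc_id, ← h,
    AVRosati.cl_pullback_frob φ.left (by ext x; exact hφ.base x) (fun U => hφ.le U) q (fun U s => hφ.app U _ s) hL.1]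
    at h1
  have h2 : (pc hL.1 (𝟙 A)) ^ (q ^ 2 - q) = 1 := by
    have hu : (pc hL.1 (𝟙 A)) ^ q = (pc hL.1 (𝟙 A)) ^ (q ^ 2) := by
      ext
      rw [Units.val_pow_eq_pow_val, Units.val_pow_eq_pow_val, val_pc_id]
      exact h1
    have hle : q ≤ q ^ 2 := Nat.le_self_pow (by norm_num) q
    rw [← Nat.sub_add_cancel hle, pow_add] at hu
    exact mul_right_cancel (b := (pc hL.1 (𝟙 A)) ^ q) (by rw [_root_.one_mul]; exact hu.symm)
  have h3 := congrArg Units.val h2
  rw [Units.val_pow_eq_pow_val, val_pc_id, Units.val_one, ← H23.PicMul.cl_tensorPow, H23.CubeAb.cl_eq_one_iff] at h3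
  obtain ⟨e⟩ := h3
  have hpos : 0 < q ^ 2 - q := by
    have : q < q ^ 2 := by nlinarith
    omega
  haveI : Scheme.IsQuasiAffine A.left :=
    AmpleX.isQuasiAffine_of_isAmple (AmpleX.isAmple_of_iso e (AmpleX.isAmple_tensorPow hL hpos))
  exact AVProj.finite_of_isProper_quasiAffine A.hom

/-- On a split group of multiplicative type a power map of sections is the power map of the group. -/
theorem powMap_multType {k : Type u} [Field k] (p : ℕ) [Fact p.Prime] [CharP k p] {M : Type u} [CommGroup M]
    {T : Over (Spec (CommRingCat.of k))} [GrpObj T] (a : sp k (MonoidAlgebra k M) ⟶ T) [IsMonHom a] [IsIso a] {e : ℕ}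
    (hk : ∀ c : k, c ^ p ^ e = c) (F : T ⟶ T) (F₀ : sp k (MonoidAlgebra k M) ⟶ sp k (MonoidAlgebra k M))
    (hF₀ : WeilLib.IsPowMap F₀.left (p ^ e)) (hnat : F₀ ≫ a = a ≫ F) : F = (𝟙 T ^ p ^ e : T ⟶ T) := by
  let A := MonoidAlgebra k M
  have h0 : F₀ = (𝟙 (sp k A) ^ p ^ e : sp k A ⟶ sp k A) := by
    haveI : IsAffine (sp k A).left := inferInstanceAs (IsAffine (Spec (CommRingCat.of A)))
    rw [Deform.TorsionOrderScheme.spMap_powConv]
    refine Over.OverMorphism.ext (ext_of_isAffine (CommRingCat.hom_ext (RingHom.ext fun s => ?_)))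
    obtain ⟨x, rfl⟩ := (Scheme.ΓSpecIso (CommRingCat.of A)).commRingCatIsoToRingEquiv.symm.surjective s
    have h1 := hF₀.app ⊤ le_top ((Scheme.ΓSpecIso (CommRingCat.of A)).commRingCatIsoToRingEquiv.symm x)
    rw [show F₀.left.appTop = F₀.left.appLE ⊤ ⊤ le_top from Scheme.Hom.app_eq_appLE _]
    refine h1.trans ?_
    have h2 := congrArg (fun z => (CommRingCat.Hom.hom z) x)
      (Scheme.ΓSpecIso_inv_naturality (CommRingCat.ofHom (SGA3b.powConv k A (p ^ e)).toRingHom))
    refine Eq.trans ?_ h2
    show _ = (Scheme.ΓSpecIso (CommRingCat.of A)).inv.hom (SGA3b.powConv k A (p ^ e) x)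
    refine (map_pow (Scheme.ΓSpecIso (CommRingCat.of A)).inv.hom x (p ^ e)).symm.trans (congrArg _ ?_)
    clear h1 h2
    haveI : CharP A p := charP_of_injective_algebraMap (algebraMap k A).injective p
    induction x using MonoidAlgebra.induction_linear with
    | zero => rw [zero_pow (pow_ne_zero e (Fact.out : p.Prime).ne_zero), map_zero]
    | add a b ha hb => rw [add_pow_char_pow, ha, hb, map_add]
    | single m c =>
      rw [MonoidAlgebra.single_pow, hk, show MonoidAlgebra.single m c = c • MonoidAlgebra.single m (1 : k) by simp,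
        map_smul, GrpSchLib.powConv_isGroupLike (MonoidAlgebra.isGroupLikeElem_single_one m), MonoidAlgebra.single_pow, _root_.one_pow, MonoidAlgebra.smul_single', _root_.mul_one]
  rw [← cancel_epi a, ← hnat, h0, MonObj.comp_pow, Category.comp_id, Deform.Extension.pow_comp_hom, Category.id_comp]

/-- A semi-abelian variety over a finite field whose torus is split is proper if it is anti-affine. -/
theorem isProper_of_split [Finite k] {G T A : Over (Spec (CommRingCat.of k))} [GrpObj G] [GrpObj T] [GrpObj A]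
    [IsCommMonObj G] [Smooth G.hom] [QuasiCompact G.hom] [ConnectedSpace G.left]
    (hG : Function.Bijective G.hom.appTop) (t : T ⟶ G) [IsMonHom t] (hT : Red.IsTorus T)
    {M : Type u} [CommGroup M] (a : sp k (MonoidAlgebra k M) ⟶ T) [IsMonHom a] [IsIso a]
    (α : G ⟶ A) [IsMonHom α] [Flat α.left] [Surjective α.left] [IsProper A.hom] [Smooth A.hom]
    [ConnectedSpace A.left] (hk : AlgGrp.IsKernel t α) : IsProper G.hom := by
  obtain ⟨hTa, hTl, hTs, hTc⟩ := Deform.TorusBasic.props hT
  haveI := hTa; haveI := hTl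
  haveI := GrpSchLib.AntiAffine.isSeparated_grp G
  haveI := quasiCompact_of_grp α
  haveI : Epi α := by
    haveI : Epi α.left := Flat.epi_of_flat_of_surjective _
    exact (Over.forget _).epi_of_epi_map (inferInstanceAs (Epi α.left))
  haveI : IsCommMonObj A := SemiAbExt.isCommMonObj_of_quotient α
  obtain ⟨F, hF, -, -, hnat⟩ := PowFrob.exists_frob (k := k)
  obtain ⟨e, he, hq⟩ := PowFrob.exists_card_eq k
  let p := ringChar k
  haveI : Fact p.Prime := PowFrob.factPrime_ringChar
  have hpow : ∀ c : k, c ^ p ^ e = c := fun c => by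
    cases nonempty_fintype k
    rw [← hq, Nat.card_eq_fintype_card, FiniteField.pow_card]
  have hFq : ∀ X, WeilLib.IsPowMap (F X 1).left (p ^ e) := fun X => by
    have := hF X 1; rwa [pow_one, hq] at this
  have hFm : ∀ (X : Over (Spec (CommRingCat.of k))) [GrpObj X], IsMonHom (F X 1) := fun X _ =>
    WittEndoLib.isMonHom_of_mul _ fun Y x y => by
      rw [← hnat, ← hnat, ← hnat, MonObj.comp_mul]
  have hFT : F T 1 = (𝟙 T ^ p ^ e : T ⟶ T) :=
    powMap_multType p a hpow (F T 1) (F _ 1) (hFq _) (hnat _ _ a 1)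
  -- the endomorphism F - q
  let u : ∀ (X : Over (Spec (CommRingCat.of k))) [GrpObj X], X ⟶ X := fun X _ => F X 1 * (𝟙 X ^ p ^ e)⁻¹
  have hu : ∀ {X Y : Over (Spec (CommRingCat.of k))} [GrpObj X] [GrpObj Y] (f : X ⟶ Y) [IsMonHom f],
      u X ≫ f = f ≫ u Y := fun {X Y} _ _ f _ => by
    simp only [u, MonObj.mul_comp, MonObj.comp_mul, GrpObj.inv_comp, GrpObj.comp_inv, hnat,
      Deform.Extension.pow_comp_hom f, MonObj.comp_pow, Category.id_comp, Category.comp_id]
  have hum : ∀ (X : Over (Spec (CommRingCat.of k))) [GrpObj X] [IsCommMonObj X], IsMonHom (u X) := fun X _ _ =>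
    WittEndoLib.isMonHom_of_mul _ fun Y x y => by
      haveI := hFm X
      simp only [u, MonObj.comp_mul, GrpObj.comp_inv, MonObj.comp_pow, Category.comp_id, mul_pow, _root_.mul_inv,
        MonObj.mul_comp]
      rw [_root_.mul_mul_mul_comm]
  haveI := hum G; haveI := hum A
  have hut : t ≫ u G = 1 := by
    rw [← hu t]
    simp only [u, hFT, mul_inv_cancel, MonObj.one_comp]
  obtain ⟨ψ, hψ, hαψ⟩ := SemiAbExt.exists_desc α t hk (u G) hut
  haveI := hψ
  have hψα : ψ ≫ α = u A := by
    rw [← cancel_epi α, reassoc_of% hαψ, hu α]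
  -- F - q is surjective on the abelian variety
  haveI : Surjective (u A).left := by
    obtain ⟨J, iJ, r, c, hr, hc, hrc, hcc, hrf, hrs, hJl, hJq⟩ := GrpSchLib.ImageFactor.exists_image (u A)
    letI := iJ
    haveI := hr; haveI := hc; haveI := hcc; haveI := hrs; haveI := hJl; haveI := hJq
    obtain ⟨R, iR, ρ, hρ, hρf, hρs, hRl, hRq, hkρ⟩ := exists_quotient c (fun X x y => ⟨y, by
      rw [Deform.Extension.mul_comm_of x, mul_inv_cancel_right]⟩)
    letI := iR
    haveI := hρ; haveI := hρf; haveI := hρs; haveI := hRl; haveI := hRq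
    haveI := SemiAbExt.isProper_of_surjective ρ
    haveI : Smooth R.hom := GrpSchLib.smooth_of_quotient ρ
    haveI : ConnectedSpace R.left := ρ.left.surjective.connectedSpace ρ.left.continuous
    haveI : GeometricallyIntegral R.hom := AVFactor.geometricallyIntegral_smooth R
    haveI := quasiCompact_of_grp ρ
    haveI : Epi ρ := by
      haveI : Epi ρ.left := Flat.epi_of_flat_of_surjective _
      exact (Over.forget _).epi_of_epi_map (inferInstanceAs (Epi ρ.left))
    have hR1 : u R = 1 := by
      rw [← cancel_epi ρ, MonObj.comp_one, ← hu ρ, ← hrc, Category.assoc, show c ≫ ρ = 1 from hkρ.w,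
        MonObj.comp_one]
    have hRq' : F R 1 = (𝟙 R ^ p ^ e : R ⟶ R) := mul_inv_eq_one.mp hR1
    haveI : Finite R.left := finite_of_pow_eq (F R 1)
      (le_trans (Fact.out : p.Prime).two_le (Nat.le_self_pow he.ne' p)) (hFq R) hRq'
    haveI : JacobsonSpace R.left := LocallyOfFiniteType.jacobsonSpace R.hom
    haveI : DiscreteTopology R.left := inferInstance
    haveI : Subsingleton R.left := PreconnectedSpace.trivial_of_discrete
    haveI := SemiAbExt.isIso_eta_of_subsingleton R
    obtain ⟨d, hd⟩ := exists_lift_kernel c ρ hkρ (𝟙 A) (by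
      rw [Category.id_comp]; exact SemiAbExt.eq_one_of_isIso_eta' ρ)
    haveI : Surjective c.left :=
      ⟨fun x => ⟨d.left x, by rw [← Scheme.Hom.comp_apply, ← Over.comp_left, hd]; rfl⟩⟩
    rw [← hrc, Over.comp_left]
    infer_instance
  -- the image of the abelian variety
  obtain ⟨B, iB, r, c, hr, hc, hrc, hcc, hrf, hrs, hBl, hBq⟩ := GrpSchLib.ImageFactor.exists_image ψ
  letI := iB
  haveI := hr; haveI := hc; haveI := hcc; haveI := hrs; haveI := hBl; haveI := hBq
  haveI := SemiAbExt.isProper_of_surjective r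
  haveI : Surjective (c ≫ α).left := by
    haveI : Surjective (r.left ≫ (c ≫ α).left) := by
      rw [← Over.comp_left, ← Category.assoc, hrc, hψα]; infer_instance
    exact Surjective.of_comp r.left _
  haveI := AntiAffineParts.surjective_mul t α hk c
  obtain ⟨Q, iQ, σ, hσ, hσf, hσs, hQl, hQq, hkσ⟩ := exists_quotient c (fun X x y => ⟨y, by
    rw [Deform.Extension.mul_comm_of x, mul_inv_cancel_right]⟩)
  letI := iQ
  haveI := hσ; haveI := hσf; haveI := hσs; haveI := hQl; haveI := hQq
  haveI : Smooth Q.hom := GrpSchLib.smooth_of_quotient σ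
  haveI : IsReduced Q.left := GrpSchLib.isReduced_of_smooth_field Q.hom
  haveI : Surjective (t ≫ σ).left := by
    have hfac : ((t ⊗ₘ c) ≫ μ[G]) ≫ σ = fst T B ≫ (t ≫ σ) := by
      rw [show (t ⊗ₘ c) ≫ μ[G] = (fst T B ≫ t) * (snd T B ≫ c) from by
        rw [Hom.mul_def, ← lift_map, lift_fst_snd, Category.id_comp], MonObj.mul_comp, Category.assoc,
        Category.assoc, show c ≫ σ = 1 from hkσ.w, MonObj.comp_one, _root_.mul_one]
    haveI : Surjective ((fst T B).left ≫ (t ≫ σ).left) := by
      rw [← Over.comp_left, ← hfac, Over.comp_left]; infer_instance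
    exact Surjective.of_comp (fst T B).left _
  haveI : IsAffine Q.left := by
    obtain ⟨J, iJ, r₁, c₁, hr₁, hc₁, hJa, hc₁c, hJl, hr₁s, hrc₁⟩ := AntiAffineParts.exists_affine_image (t ≫ σ)
    haveI := hJa; haveI := hc₁c
    haveI : Surjective (r₁.left ≫ c₁.left) := by rw [← Over.comp_left, hrc₁]; infer_instance
    haveI : Surjective c₁.left := Surjective.of_comp r₁.left c₁.left
    haveI : IsIso c₁.left := isIso_of_isClosedImmersion_of_surjective c₁.left
    exact IsAffine.of_isIso (inv c₁.left)
  obtain ⟨d, hd⟩ := exists_lift_kernel c σ hkσ (𝟙 G) (by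
    rw [Category.id_comp]
    exact AntiAffineParts.eq_one_of_isAffine hG σ ((IsMonHom.one_hom σ).trans (MonObj.one_eq_one Q)))
  haveI : Surjective c.left :=
    ⟨fun x => ⟨d.left x, by rw [← Scheme.Hom.comp_apply, ← Over.comp_left, hd]; rfl⟩⟩
  exact SemiAbExt.isProper_of_surjective c

/-- Anti-affine groups over finite fields are proper. -/
theorem isProper_of_antiAffine [Finite k] (G : Over (Spec (CommRingCat.of k))) [GrpObj G]
    [LocallyOfFiniteType G.hom] [QuasiCompact G.hom] (hG : Function.Bijective G.hom.appTop) : IsProper G.hom := by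
  haveI : Fact (ringChar k).Prime := PowFrob.factPrime_ringChar
  haveI : Smooth G.hom := GrpSchLib.AntiAffineSmooth.smooth hG
  haveI := GrpSchLib.AntiAffine.connectedSpace_of_bijective hG
  haveI := GrpSchLib.AntiAffine.isSeparated_grp G
  have hcomm : ∀ (X : Over (Spec (CommRingCat.of k))) (x y : X ⟶ G), x * y = y * x := fun X x y => by
    have h := GrpSchLib.AntiAffine.commute hG (𝟙 G) (Category.comp_id _) x y
    rwa [Category.comp_id] at h
  obtain ⟨T, iT, i, A, iA, q, hi, hic, hT, hq, hqs, hqf, hk, hA, hAs, hAc⟩ :=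
    SemiAbelian.exists_torus_part (ringChar k) G hG
  letI := iT; letI := iA
  haveI := hi; haveI := hq; haveI := hA; haveI := hAs; haveI := hAc
  obtain ⟨C, iC, iCH, hC, hft, ⟨eC⟩⟩ := Deform.exists_hopf_ft T (Deform.isMultTypeFT_of_isTorus hT)
  obtain ⟨k', _, _, hfin, hsep, M, _, hfg, ⟨d⟩⟩ := MultTypeLib.isotrivial_of_field k C hft hC
  haveI := hfin
  haveI : Finite k' := Module.finite_of_finite k
  let π : Spec (CommRingCat.of k') ⟶ Spec (CommRingCat.of k) := Spec.map (CommRingCat.ofHom (algebraMap k k'))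
  let F := Over.pullback π
  haveI : Smooth (Red.bc π G).hom := inferInstanceAs (Smooth (pullback.snd G.hom π))
  haveI : QuasiCompact (Red.bc π G).hom := inferInstanceAs (QuasiCompact (pullback.snd G.hom π))
  have hG' : Function.Bijective (Red.bc π G).hom.appTop := GrpSchLib.AntiAffine.bijective_appTop_snd hG π
  haveI := GrpSchLib.AntiAffine.connectedSpace_of_bijective hG'
  haveI : IsCommMonObj (Red.bc π G) := Deform.Extension.isCommMonObj_of fun X =>
    Deform.Extension.comm_bc π hcomm X
  haveI : IsProper (F.obj A).hom := inferInstanceAs (IsProper (pullback.snd A.hom π))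
  haveI : Smooth (F.obj A).hom := inferInstanceAs (Smooth (pullback.snd A.hom π))
  haveI : ConnectedSpace (F.obj A).left := GrpSchLib.AntiAffine.connectedSpace_bc A (algebraMap k k')
  haveI : Surjective (F.map q).left := MorphismProperty.overPullbackMap (P := @Surjective) π q hqs
  haveI : Flat (F.map q).left := MorphismProperty.overPullbackMap (P := @Flat) π q hqf
  obtain ⟨e₁⟩ := GrpSchLib.AffineHopf.nonempty_bc_sp (R := k) k' C
  obtain ⟨e₂⟩ := GrpSchLib.MultTypeBC.bc_iso π eC
  let e := spIso d ≪≫ e₁.symm ≪≫ e₂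
  let a : sp k' (MonoidAlgebra k' M) ⟶ Red.bc π T := e.hom.hom.hom
  haveI : IsMonHom a := e.hom.hom.isMonHom_hom
  haveI : IsIso a := ((Grp.forget _).mapIso e).isIso_hom
  haveI : IsProper (pullback.snd G.hom π) :=
    isProper_of_split hG' (F.map i) (Deform.isTorus_bc π hT) a (F.map q) (SemiAbelian.isKernel_bc π i q hk)
  haveI : Surjective π := inferInstance
  have hπ : (@Surjective ⊓ @Flat ⊓ @QuasiCompact : MorphismProperty Scheme.{u}) π :=
    ⟨⟨inferInstance, inferInstance⟩, inferInstance⟩
  haveI := EtFound.fpqc_isProper.{u}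
  exact MorphismProperty.of_isPullback_of_descendsAlong (P := @IsProper)
    (IsPullback.of_hasPullback G.hom π).flip hπ inferInstance

end

end Groth.Agent.Deform.Chev.FiniteField
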