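import Groth.Agent.Deform.Chev.NeutralAlb
import Groth.Agent.FrobSchLib.Basic
import Groth.Agent.FrobIter.Basic
import Groth.Agent.GrpSchLib.Cartier
import Groth.Agent.H23.RedSub

/-!
# Iterated Frobenius maps a group onto a smooth one
-/

universe u

open CategoryTheory CategoryTheory.Limits MonoidalCategory CartesianMonoidalCategory MonObj GrpObj AlgebraicGeometry

attribute [local instance] CategoryTheory.Hom.monoid CategoryTheory.Hom.group
set_option linter.style.haveILetI false
set_option linter.unusedSectionVars false
set_option backward.isDefEq.respectTransparency false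

namespace Groth.Agent.Deform.Chev.FrobReduce

noncomputable section

open Groth.Agent.FrobIter (iter iter_comp iter_apply comap_iter_le)

variable (p : ℕ) [Fact p.Prime]

theorem isIntegralHom_iter (X : Scheme.{u}) [FrobSch.IsCharP X p] (N : ℕ) : IsIntegralHom (iter p X N) := by
  induction N with
  | zero => rw [iter]; infer_instance
  | succ N ih =>
    haveI := ih
    haveI := FrobSchLib.isIntegralHom_frob p X
    rw [iter]; infer_instance

/-- A high power of Frobenius of a noetherian scheme kills the nilradical. -/
theorem exists_le_ker (X : Scheme.{u}) [FrobSch.IsCharP X p] [IsLocallyNoetherian X] [CompactSpace X] :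
    ∃ N, X.nilradical ≤ (iter p X N).ker := by
  classical
  have hnil : ∀ U : X.affineOpens, ∃ n, (Scheme.IdealSheafData.radical (⊥ : X.IdealSheafData)).ideal U ^ n = ⊥ := by
    intro U
    haveI : IsNoetherianRing Γ(X, U.1) := IsLocallyNoetherian.component_noetherian U
    obtain ⟨n, hn⟩ := IsNoetherianRing.isNilpotent_nilradical Γ(X, U.1)
    refine ⟨n, ?_⟩
    rw [Scheme.IdealSheafData.radical_ideal, Scheme.IdealSheafData.ideal_bot]
    exact hn
  choose n hn using hnil
  obtain ⟨s, hs⟩ := isCompact_univ.elim_finite_subcover (fun U : X.affineOpens => ((U.1 : X.Opens) : Set X))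
    (fun U => U.1.2) (fun x _ => by
      obtain ⟨U, hU, hxU, -⟩ := exists_isAffineOpen_mem_and_subset (x := x) (U := ⊤) trivial
      exact Set.mem_iUnion.mpr ⟨⟨U, hU⟩, hxU⟩)
  obtain ⟨N, hN⟩ : ∃ N, ∀ U ∈ s, n U ≤ p ^ N :=
    ⟨s.sup n, fun U hU => (Finset.le_sup hU).trans (Nat.lt_pow_self (Nat.Prime.one_lt Fact.out)).le⟩
  refine ⟨N, ?_⟩
  rw [← Scheme.IdealSheafData.map_bot, Scheme.IdealSheafData.le_map_iff_comap_le]
  refine (comap_iter_le _ N).trans ?_
  refine Scheme.IdealSheafData.le_of_iSup_eq_top (fun U : s => U.1) ?_ fun U => ?_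
  · refine TopologicalSpace.Opens.ext ?_
    rw [TopologicalSpace.Opens.coe_iSup]
    refine Set.eq_univ_of_univ_subset (hs.trans ?_)
    intro x hx
    obtain ⟨U, hU, hxU⟩ := Set.mem_iUnion₂.mp hx
    exact Set.mem_iUnion.mpr ⟨⟨U, hU⟩, hxU⟩
  · rw [Scheme.IdealSheafData.ideal_pow, Pi.pow_apply]
    exact (Ideal.pow_le_pow_right (hN U.1 U.2)).trans (le_of_eq_of_le (hn U.1) bot_le)

variable {k : Type u} [Field k] [CharP k p]

include p in
/-- In characteristic `p` some iterated Frobenius maps a group onto a smooth one by an affine map. -/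
theorem exists_smooth_image (G : Over (Spec (CommRingCat.of k))) [GrpObj G] [LocallyOfFiniteType G.hom]
    [QuasiCompact G.hom] :
    ∃ (I : Over (Spec (CommRingCat.of k))) (_ : GrpObj I) (r : G ⟶ I),
      IsMonHom r ∧ IsAffineHom r.left ∧ Surjective r.left ∧ Smooth I.hom ∧ QuasiCompact I.hom := by
  let π := Spec.map (CommRingCat.ofHom (algebraMap k (AlgebraicClosure k)))
  let X : Scheme.{u} := pullback G.hom π
  haveI : LocallyOfFiniteType (pullback.snd G.hom π) := inferInstance
  haveI : IsLocallyNoetherian X := LocallyOfFiniteType.isLocallyNoetherian (pullback.snd G.hom π)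
  haveI : CompactSpace X := QuasiCompact.compactSpace_of_compactSpace (pullback.snd G.hom π)
  haveI : FrobSch.IsCharP G.left p := FrobSch.IsCharP.of_hom G.hom p
  haveI : FrobSch.IsCharP X p := FrobSch.IsCharP.of_hom (pullback.snd G.hom π ≫ π) p
  haveI : CharP (AlgebraicClosure k) p := charP_of_injective_algebraMap (algebraMap k _).injective p
  obtain ⟨N, hN⟩ := exists_le_ker p X
  let φ := iter p (Spec (CommRingCat.of k)) N
  let G' := Red.bc φ G
  let F : G ⟶ G' := Over.homMk (pullback.lift (iter p G.left N) G.hom (iter_comp G.hom N))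
    (pullback.lift_snd _ _ _)
  haveI : LocallyOfFiniteType G'.hom := inferInstanceAs (LocallyOfFiniteType (pullback.snd G.hom φ))
  haveI : QuasiCompact G'.hom := inferInstanceAs (QuasiCompact (pullback.snd G.hom φ))
  haveI : IsMonHom F := WittEndoLib.isMonHom_of_mul F fun T x y => by
    haveI : FrobSch.IsCharP T.left p := FrobSch.IsCharP.of_hom T.hom p
    let v : (Over.map φ).obj T ⟶ T := Over.homMk (iter p T.left N) (iter_comp T.hom N)
    have h : ∀ z : T ⟶ G, DSPtsLib.theta φ (z ≫ F) = v ≫ z := fun z => by
      refine Over.OverMorphism.ext ?_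
      rw [DSPtsLib.theta_left, Over.comp_left, Over.comp_left, Category.assoc]
      show z.left ≫ pullback.lift _ _ _ ≫ pullback.fst _ _ = iter p T.left N ≫ z.left
      rw [pullback.lift_fst, iter_comp]
    apply (DSPtsLib.theta_bijective φ).1
    rw [DSPtsLib.theta_mul, h, h, h, MonObj.comp_mul]
  obtain ⟨I, iI, r, c, hr, hc, hrc, hcc, hrf, hrs, hIl, hIq⟩ := GrpSchLib.ImageFactor.exists_image F
  letI := iI
  haveI := hr; haveI := hc; haveI := hcc; haveI := hrf; haveI := hrs; haveI := hIl; haveI := hIq
  haveI := GrpSchLib.AntiAffine.isSeparated_grp G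
  haveI := GrpSchLib.AntiAffine.isSeparated_grp I
  haveI hFint : IsIntegralHom F.left := by
    haveI : IsIntegralHom (F.left ≫ pullback.fst G.hom φ) := by
      show IsIntegralHom (pullback.lift _ _ _ ≫ pullback.fst G.hom φ)
      rw [pullback.lift_fst]; exact isIntegralHom_iter p G.left N
    exact MorphismProperty.of_postcomp (W := @IsIntegralHom) (W' := @IsSeparated) _ (pullback.fst G.hom φ)
      inferInstance inferInstance
  haveI hra : IsAffineHom r.left := by
    haveI : IsAffineHom (r.left ≫ c.left) := by rw [← Over.comp_left, hrc]; infer_instance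
    exact MorphismProperty.of_postcomp (W := @IsAffineHom) (W' := @IsSeparated) _ c.left inferInstance inferInstance
  refine ⟨I, iI, r, hr, hra, hrs, ?_, hIq⟩
  -- over the algebraic closure the image lies in the reduced scheme
  refine GrpSchLib.smooth_of_isReduced_baseChange I ?_
  let J := X.nilradical
  haveI : IsReduced J.subscheme := Groth.Agent.H23.RedSub.isReduced_nilradical X
  let J' : J.subscheme ⟶ X := J.subschemeι
  let P : Scheme.{u} := pullback I.hom π
  let rb : X ⟶ P := pullback.map G.hom π I.hom π r.left (𝟙 _) (𝟙 _) (by rw [Over.w r, Category.comp_id]) (by simp)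
  let χ : P ⟶ X := pullback.lift (pullback.fst I.hom π ≫ c.left ≫ pullback.fst G.hom φ)
    (pullback.snd I.hom π ≫ iter p (Spec (CommRingCat.of (AlgebraicClosure k))) N) (by
      rw [Category.assoc, Category.assoc, Category.assoc, pullback.condition]
      show pullback.fst I.hom π ≫ c.left ≫ G'.hom ≫ φ = _
      rw [Over.w_assoc c, ← Category.assoc, pullback.condition, Category.assoc, iter_comp])
  have hrb : rb ≫ χ = iter p X N := by
    apply pullback.hom_ext
    · rw [Category.assoc, pullback.lift_fst, ← Category.assoc, pullback.lift_fst, iter_comp, Category.assoc]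
      congr 1
      rw [← Category.assoc, ← Over.comp_left, hrc]
      exact pullback.lift_fst _ _ _
    · rw [Category.assoc, pullback.lift_snd, ← Category.assoc, pullback.lift_snd, Category.comp_id, iter_comp]
  have hrbf : Surjective rb ∧ Flat rb ∧ QuasiCompact rb := by
    haveI := quasiCompact_of_grp r
    have h : MorphismProperty.IsStableUnderBaseChange (@Surjective ⊓ @Flat ⊓ @QuasiCompact : MorphismProperty Scheme.{u}) :=
      inferInstance
    have hsq : IsPullback rb (pullback.fst G.hom π) (pullback.fst I.hom π) r.left := by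
      refine IsPullback.of_right ?_ (pullback.lift_fst _ _ _) (IsPullback.of_hasPullback I.hom π).flip
      rw [pullback.lift_snd, Category.comp_id, Over.w r]
      exact (IsPullback.of_hasPullback G.hom π).flip
    exact ⟨MorphismProperty.of_isPullback (P := @Surjective) hsq.flip hrs,
      MorphismProperty.of_isPullback (P := @Flat) hsq.flip hrf,
      MorphismProperty.of_isPullback (P := @QuasiCompact) hsq.flip inferInstance⟩
  obtain ⟨hrbs, hrbf, hrbq⟩ := hrbf
  haveI := hrbs; haveI := hrbf; haveI := hrbq
  -- χ is a closed immersion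
  haveI : IsClosedImmersion χ := by
    let σ := iter p (Spec (CommRingCat.of (AlgebraicClosure k))) N
    haveI : PerfectRing (AlgebraicClosure k) p := inferInstance
    haveI : IsIso σ := by
      show IsIso (iter p (Spec (CommRingCat.of (AlgebraicClosure k))) N)
      rw [FrobIter.iter_Spec]
      haveI : IsIso (CommRingCat.ofHom (iterateFrobenius (AlgebraicClosure k) p N)) :=
        (iterateFrobeniusEquiv (AlgebraicClosure k) p N).toCommRingCatIso.isIso_hom
      infer_instance
    have hσ : inv σ ≫ π ≫ φ = π := by
      rw [show π ≫ φ = σ ≫ π from (iter_comp π N).symm, IsIso.inv_hom_id_assoc]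
    let χ₁ : pullback G'.hom π ⟶ X := pullback.lift (pullback.fst G'.hom π ≫ pullback.fst G.hom φ)
      (pullback.snd G'.hom π ≫ σ) (by
        rw [Category.assoc, Category.assoc, pullback.condition]
        show pullback.fst G'.hom π ≫ G'.hom ≫ φ = _
        rw [← Category.assoc, pullback.condition, Category.assoc, iter_comp π N])
    haveI : IsIso χ₁ := by
      refine ⟨pullback.lift (pullback.lift (pullback.fst G.hom π) (pullback.snd G.hom π ≫ inv σ ≫ π)
        (by rw [Category.assoc, Category.assoc, hσ, pullback.condition])) (pullback.snd G.hom π ≫ inv σ)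
        (by
          show _ ≫ pullback.snd G.hom φ = _
          rw [pullback.lift_snd, Category.assoc]), ?_, ?_⟩
      · apply pullback.hom_ext
        · apply pullback.hom_ext
          · simp only [χ₁, Category.assoc, pullback.lift_fst, Category.id_comp]
          · simp only [χ₁, Category.assoc, pullback.lift_fst, pullback.lift_snd, pullback.lift_snd_assoc,
              Category.id_comp, IsIso.hom_inv_id_assoc]
            exact (pullback.condition (f := G'.hom) (g := π)).symm
        · simp only [χ₁, Category.assoc, pullback.lift_snd, pullback.lift_snd_assoc, Category.id_comp,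
            IsIso.hom_inv_id, Category.comp_id]
      · apply pullback.hom_ext
        · simp only [χ₁, Category.assoc, pullback.lift_fst, pullback.lift_fst_assoc, Category.id_comp]
        · simp only [χ₁, Category.assoc, pullback.lift_snd, pullback.lift_snd_assoc, Category.id_comp,
            IsIso.inv_hom_id, Category.comp_id]
    let c₁ : P ⟶ pullback G'.hom π := pullback.map I.hom π G'.hom π c.left (𝟙 _) (𝟙 _)
      (by rw [Over.w c, Category.comp_id]) (by simp)
    haveI : IsClosedImmersion c₁ := by
      have hsq : IsPullback c₁ (pullback.fst I.hom π) (pullback.fst G'.hom π) c.left := by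
        refine IsPullback.of_right ?_ (pullback.lift_fst _ _ _) (IsPullback.of_hasPullback G'.hom π).flip
        rw [pullback.lift_snd, Category.comp_id, Over.w c]
        exact (IsPullback.of_hasPullback I.hom π).flip
      exact MorphismProperty.of_isPullback (P := @IsClosedImmersion) hsq.flip inferInstance
    have : χ = c₁ ≫ χ₁ := by
      apply pullback.hom_ext
      · simp only [χ, c₁, χ₁, Category.assoc, pullback.lift_fst, pullback.lift_fst_assoc]
      · simp only [χ, c₁, χ₁, Category.assoc, pullback.lift_snd, pullback.lift_snd_assoc, Category.comp_id]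
        rfl
    rw [this]; infer_instance
  let w : X ⟶ J.subscheme := IsClosedImmersion.lift J' (iter p X N) (by
    rw [show J'.ker = J from Scheme.IdealSheafData.ker_subschemeι J]; exact hN)
  have hw : w ≫ J' = iter p X N := IsClosedImmersion.lift_fac _ _ _
  haveI : IsIso (pullback.fst χ J') := by

    have hπ : (@Surjective ⊓ @Flat ⊓ @QuasiCompact : MorphismProperty Scheme.{u}) rb := ⟨⟨hrbs, hrbf⟩, hrbq⟩
    have hb := IsPullback.of_hasPullback rb (pullback.fst χ J')
    refine MorphismProperty.of_isPullback_of_descendsAlong (P := MorphismProperty.isomorphisms Scheme)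
      hb hπ ?_
    haveI : Mono (pullback.fst rb (pullback.fst χ J')) := inferInstance
    let t : X ⟶ pullback rb (pullback.fst χ J') :=
      pullback.lift (𝟙 _) (pullback.lift rb w (hrb.trans hw.symm)) (by simp)
    have ht : t ≫ pullback.fst rb (pullback.fst χ J') = 𝟙 _ := pullback.lift_fst _ _ _
    refine ⟨t, ?_, ht⟩
    rw [← cancel_mono (pullback.fst rb (pullback.fst χ J')), Category.assoc, ht, Category.comp_id, Category.id_comp]
  let v : P ⟶ J.subscheme := inv (pullback.fst χ J') ≫ pullback.snd χ J'
  have hv : v ≫ J' = χ := by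
    simp only [v, Category.assoc, ← pullback.condition, IsIso.inv_hom_id_assoc]
  haveI : IsClosedImmersion v := by
    haveI : IsClosedImmersion (v ≫ J') := by rw [hv]; infer_instance
    exact IsClosedImmersion.of_comp v J'
  have hrv : rb ≫ v ≫ J' = iter p X N := by rw [hv, hrb]
  haveI : Surjective v := ⟨fun z => ⟨rb (J' z), J'.injective (by
    have h := congrArg (fun f : X ⟶ X => f (J' z)) hrv
    rw [iter_apply] at h
    exact h)⟩⟩
  haveI : IsIso v := isIso_of_isClosedImmersion_of_surjective v
  exact isReduced_of_isOpenImmersion v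

end

end Groth.Agent.Deform.Chev.FrobReduce
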