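import Groth.Agent.Deform.Chev.Albanese
import Groth.Agent.Deform.Transporter
import Groth.Agent.GrpSchLib.Coincidence
import Groth.Agent.GrpSchLib.RankOneBig

/-!
# The Albanese kernel of the neutral component is normal in the whole group
-/

universe u

open CategoryTheory CategoryTheory.Limits MonoidalCategory CartesianMonoidalCategory MonObj GrpObj AlgebraicGeometry

attribute [local instance] CategoryTheory.Hom.monoid CategoryTheory.Hom.group
set_option linter.style.haveILetI false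
set_option linter.unusedSectionVars false

namespace Groth.Agent.Deform.Chev.NeutralAlb

noncomputable section

variable {k : Type u} [Field k] {G G₀ : Over (Spec (CommRingCat.of k))} [GrpObj G] [GrpObj G₀]

theorem isClosed_range_neutral [LocallyOfFiniteType G.hom] [QuasiCompact G.hom] (i₀ : G₀ ⟶ G) [IsMonHom i₀]
    [IsOpenImmersion i₀.left] [ConnectedSpace G₀.left] :
    QuasiCompact G₀.hom ∧ IsClosedImmersion i₀.left ∧
      Set.range i₀.left = connectedComponent (η[G].left (IsLocalRing.closedPoint k)) := by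
  haveI : IsLocallyNoetherian G.left := LocallyOfFiniteType.isLocallyNoetherian G.hom
  haveI : CompactSpace G.left := QuasiCompact.compactSpace_of_compactSpace G.hom
  haveI : IsNoetherian G.left := {}
  haveI : TopologicalSpace.NoetherianSpace G₀.left :=
    i₀.left.isOpenEmbedding.isInducing.noetherianSpace
  haveI : QuasiCompact G₀.hom := (quasiCompact_iff_compactSpace G₀.hom).mpr inferInstance
  haveI := GrpSchLib.AntiAffine.isSeparated_grp G
  haveI : LocallyOfFiniteType G₀.hom := by rw [← Over.w i₀]; infer_instance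
  haveI := quasiCompact_of_grp i₀
  have hcl : IsClosed (Set.range i₀.left) := GrpSchLib.HomClosedRange.isClosed_range i₀
  haveI : IsClosedImmersion i₀.left := IsClosedImmersion.of_isPreimmersion _ hcl
  have he : η[G].left (IsLocalRing.closedPoint k) ∈ Set.range i₀.left :=
    ⟨η[G₀].left (IsLocalRing.closedPoint k), by rw [← Scheme.Hom.comp_apply, ← Over.comp_left, IsMonHom.one_hom i₀]⟩
  refine ⟨inferInstance, inferInstance, Set.Subset.antisymm ?_ ?_⟩
  · exact (isPreconnected_range i₀.left.continuous).subset_connectedComponent he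
  · exact (IsClopen.connectedComponent_subset ⟨hcl, i₀.left.isOpenEmbedding.isOpen_range⟩ he)

/-- The conjugation action on the neutral component. -/
theorem exists_conj [LocallyOfFiniteType G.hom] [QuasiCompact G.hom] (i₀ : G₀ ⟶ G) [IsMonHom i₀]
    [IsOpenImmersion i₀.left] [ConnectedSpace G₀.left] :
    ∃ c : G ⊗ G₀ ⟶ G₀, c ≫ i₀ = fst G G₀ * (snd G G₀ ≫ i₀) * (fst G G₀)⁻¹ := by
  obtain ⟨hq, hcl, -⟩ := isClosed_range_neutral i₀
  haveI := hq; haveI := hcl
  let cm : G ⊗ G₀ ⟶ G := fst G G₀ * (snd G G₀ ≫ i₀) * (fst G G₀)⁻¹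
  haveI : LocallyOfFiniteType G₀.hom := by rw [← Over.w i₀]; infer_instance
  haveI : GeometricallyConnected G₀.hom := H23.GeomConn.of_point k G₀.hom η[G₀].left (Over.w η[G₀])
  haveI : UniversallyOpen G₀.hom := inferInstance
  have hsec : lift (𝟙 G) (1 : G ⟶ G₀) ≫ cm = (1 : G ⟶ G₀) ≫ i₀ := by
    simp only [cm, MonObj.comp_mul, GrpObj.comp_inv, lift_fst, lift_snd_assoc, MonObj.one_comp, _root_.mul_one,
      mul_inv_cancel]
  have hW : IsClopen (cm.left ⁻¹' Set.range i₀.left) :=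
    ⟨i₀.left.isClosedEmbedding.isClosed_range.preimage cm.left.continuous,
      i₀.left.isOpenEmbedding.isOpen_range.preimage cm.left.continuous⟩
  have hall : Set.range cm.left ⊆ Set.range i₀.left := by
    rintro _ ⟨z, rfl⟩
    let f : (G ⊗ G₀).left ⟶ G.left := pullback.fst G.hom G₀.hom
    haveI : GeometricallyConnected f := inferInstanceAs (GeometricallyConnected (pullback.fst G.hom G₀.hom))
    have hconn := (f.isConnected_preimage_singleton (f z)).isPreconnected
    refine hconn.subset_isClopen hW ⟨(lift (𝟙 G) (1 : G ⟶ G₀)).left (f z), ?_, ?_⟩ (rfl : f z = f z)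
    · show ((lift (𝟙 G) (1 : G ⟶ G₀)).left ≫ (fst G G₀).left) (f z) = f z
      rw [← Over.comp_left, lift_fst]
      rfl
    · show ((lift (𝟙 G) (1 : G ⟶ G₀)).left ≫ cm.left) (f z) ∈ Set.range i₀.left
      rw [← Over.comp_left, hsec, Over.comp_left, Scheme.Hom.comp_apply]
      exact Set.mem_range_self _
  exact ⟨Over.homMk (IsOpenImmersion.lift i₀.left cm.left hall) (by
    rw [← Over.w i₀, ← Category.assoc, IsOpenImmersion.lift_fac, Over.w cm]),
    Over.OverMorphism.ext (IsOpenImmersion.lift_fac _ _ _)⟩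

theorem lift_conj {i₀ : G₀ ⟶ G} {c : G ⊗ G₀ ⟶ G₀}
    (hc : c ≫ i₀ = fst G G₀ * (snd G G₀ ≫ i₀) * (fst G G₀)⁻¹) {T : Over (Spec (CommRingCat.of k))}
    (g : T ⟶ G) (x : T ⟶ G₀) : (lift g x ≫ c) ≫ i₀ = g * (x ≫ i₀) * g⁻¹ := by
  rw [Category.assoc, hc]
  simp only [MonObj.comp_mul, GrpObj.comp_inv, lift_fst, lift_snd_assoc]

theorem conj_mul {i₀ : G₀ ⟶ G} [IsMonHom i₀] [Mono i₀] {c : G ⊗ G₀ ⟶ G₀}
    (hc : c ≫ i₀ = fst G G₀ * (snd G G₀ ≫ i₀) * (fst G G₀)⁻¹) {T : Over (Spec (CommRingCat.of k))}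
    (g : T ⟶ G) (x y : T ⟶ G₀) : lift g (x * y) ≫ c = (lift g x ≫ c) * (lift g y ≫ c) := by
  rw [← cancel_mono i₀, MonObj.mul_comp, lift_conj hc, lift_conj hc, lift_conj hc, MonObj.mul_comp]
  group

theorem conj_one {i₀ : G₀ ⟶ G} [IsMonHom i₀] [Mono i₀] {c : G ⊗ G₀ ⟶ G₀}
    (hc : c ≫ i₀ = fst G G₀ * (snd G G₀ ≫ i₀) * (fst G G₀)⁻¹) {T : Over (Spec (CommRingCat.of k))}
    (g : T ⟶ G) : lift g (1 : T ⟶ G₀) ≫ c = 1 := by
  rw [← cancel_mono i₀, lift_conj hc, MonObj.one_comp, _root_.mul_one, mul_inv_cancel]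

theorem conj_inv {i₀ : G₀ ⟶ G} [IsMonHom i₀] [Mono i₀] {c : G ⊗ G₀ ⟶ G₀}
    (hc : c ≫ i₀ = fst G G₀ * (snd G G₀ ≫ i₀) * (fst G G₀)⁻¹) {T : Over (Spec (CommRingCat.of k))}
    (g : T ⟶ G) (x : T ⟶ G₀) : lift g x⁻¹ ≫ c = (lift g x ≫ c)⁻¹ :=
  eq_inv_of_mul_eq_one_left (by rw [← conj_mul hc, inv_mul_cancel, conj_one hc])

theorem conj_translate {i₀ : G₀ ⟶ G} [IsMonHom i₀] [Mono i₀] {c : G ⊗ G₀ ⟶ G₀}
    (hc : c ≫ i₀ = fst G G₀ * (snd G G₀ ≫ i₀) * (fst G G₀)⁻¹) {T : Over (Spec (CommRingCat.of k))}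
    (g : T ⟶ G) (d x : T ⟶ G₀) : lift (g * (d ≫ i₀)) x ≫ c = lift g (d * x * d⁻¹) ≫ c := by
  rw [← cancel_mono i₀, lift_conj hc, lift_conj hc, MonObj.mul_comp, MonObj.mul_comp, GrpObj.inv_comp]
  group

/-- Over an algebraically closed field finitely many translates decide triviality of the conjugates. -/
theorem exists_test [IsAlgClosed k] {A : Over (Spec (CommRingCat.of k))} [GrpObj A] [IsProper A.hom]
    [LocallyOfFiniteType G.hom] [QuasiCompact G.hom] (i₀ : G₀ ⟶ G) [IsMonHom i₀]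
    [IsOpenImmersion i₀.left] {c : G ⊗ G₀ ⟶ G₀} (hc : c ≫ i₀ = fst G G₀ * (snd G G₀ ≫ i₀) * (fst G G₀)⁻¹)
    (α : G₀ ⟶ A) [IsMonHom α] :
    ∃ (B : Over (Spec (CommRingCat.of k))) (_ : GrpObj B) (f : G₀ ⟶ B), IsMonHom f ∧ IsProper B.hom ∧
      ∀ (T : Over (Spec (CommRingCat.of k))) (g : T ⟶ G) (x : T ⟶ G₀), x ≫ f = 1 → lift g x ≫ c ≫ α = 1 := by
  haveI : Mono i₀ := (Over.forget _).mono_of_mono_map (inferInstanceAs (Mono i₀.left))
  let ψ : Pt G → (G₀ ⟶ A) := fun y => lift (toUnit G₀ ≫ y) (𝟙 G₀) ≫ c ≫ α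
  have hψ : ∀ (y : Pt G) {T : Over (Spec (CommRingCat.of k))} (x : T ⟶ G₀),
      x ≫ ψ y = lift (toUnit T ≫ y) x ≫ c ≫ α := fun y T x => by
    simp only [ψ]
    rw [comp_lift_assoc, comp_toUnit_assoc, Category.comp_id]
  have hψm : ∀ y : Pt G, IsMonHom (ψ y) := fun y => WittEndoLib.isMonHom_of_mul _ fun T x x' => by
    rw [hψ, hψ, hψ, ← Category.assoc, conj_mul hc, MonObj.mul_comp, Category.assoc, Category.assoc]
  have hind : ∀ l : List (Pt G), ∃ (B : Over (Spec (CommRingCat.of k))) (_ : GrpObj B) (f : G₀ ⟶ B), IsMonHom f ∧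
      IsProper B.hom ∧ ∀ (T : Over (Spec (CommRingCat.of k))) (x : T ⟶ G₀), x ≫ f = 1 → ∀ y ∈ l, x ≫ ψ y = 1 := by
    intro l
    induction l with
    | nil =>
      exact ⟨𝟙_ _, inferInstance, toUnit G₀, inferInstance,
        inferInstanceAs (IsProper (𝟙 (Spec (CommRingCat.of k)))), fun T x _ y hy => by simp at hy⟩
    | cons y l ih =>
      obtain ⟨B, iB, f, hf, hB, hfl⟩ := ih
      letI := iB
      haveI := hf; haveI := hB; haveI := hψm y
      refine ⟨A ⊗ B, inferInstance, lift (ψ y) f, inferInstance,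
        inferInstanceAs (IsProper (pullback.fst A.hom B.hom ≫ A.hom)), fun T x hx z hz => ?_⟩
      rcases List.mem_cons.mp hz with rfl | hz
      · have h := congrArg (· ≫ fst A B) hx
        simp only [Category.assoc, lift_fst, MonObj.one_comp] at h
        exact h
      · refine hfl T x ?_ z hz
        have h := congrArg (· ≫ snd A B) hx
        simp only [Category.assoc, lift_snd, MonObj.one_comp] at h
        exact h
  haveI : CompactSpace G.left := QuasiCompact.compactSpace_of_compactSpace G.hom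
  have hop : ∀ y : Pt G, IsOpen ((tr y).left '' Set.range i₀.left) := fun y =>
    (tr y).left.isOpenEmbedding.isOpenMap _ i₀.left.isOpenEmbedding.isOpen_range
  have hcov : (⋃ y : Pt G, (tr y).left '' Set.range i₀.left) = Set.univ := by
    by_contra hne
    obtain ⟨y, hy⟩ := exists_pt (G := G) (S := (⋃ y : Pt G, (tr y).left '' Set.range i₀.left)ᶜ)
      (Set.nonempty_compl.mpr hne) (isOpen_iUnion hop).isClosed_compl.isLocallyClosed
    refine hy (Set.mem_iUnion.mpr ⟨y, pimg (1 : Pt G), ⟨pimg (1 : Pt G₀), ?_⟩, ?_⟩)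
    · rw [← pimg_comp, MonObj.one_comp]
    · rw [← pimg_mul, _root_.mul_one]
  obtain ⟨s, hs⟩ := isCompact_univ.elim_finite_subcover _ hop hcov.ge
  obtain ⟨B, iB, f, hf, hB, hfl⟩ := hind s.toList
  refine ⟨B, iB, f, hf, hB, fun T g x hx => ?_⟩
  apply Over.OverMorphism.ext
  refine Scheme.hom_ext_of_forall _ _ fun p => ?_
  obtain ⟨y, hy, hgp⟩ := Set.mem_iUnion₂.mp (hs (Set.mem_univ (g.left p)))
  let U : T.left.Opens := ⟨g.left ⁻¹' ((tr y).left '' Set.range i₀.left), (hop y).preimage g.left.continuous⟩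
  refine ⟨U, hgp, ?_⟩
  let U' : Over (Spec (CommRingCat.of k)) := Over.mk (U.ι ≫ T.hom)
  let e : U' ⟶ T := Over.homMk U.ι rfl
  haveI : IsOpenImmersion (i₀ ≫ tr y).left := inferInstanceAs (IsOpenImmersion (i₀.left ≫ (tr y).left))
  have hsub : Set.range (e ≫ g).left ⊆ Set.range (i₀ ≫ tr y).left := by
    rintro _ ⟨z, rfl⟩
    obtain ⟨_, ⟨w, rfl⟩, hw⟩ := (show U.ι z ∈ U from z.2)
    exact ⟨w, hw⟩
  let d : U' ⟶ G₀ := Over.homMk (IsOpenImmersion.lift (i₀ ≫ tr y).left (e ≫ g).left hsub) (by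
    rw [← Over.w (i₀ ≫ tr y), ← Category.assoc, IsOpenImmersion.lift_fac, Over.w (e ≫ g)])
  have hd : e ≫ g = (toUnit U' ≫ y) * (d ≫ i₀) := by
    have h : d ≫ i₀ ≫ tr y = e ≫ g := Over.OverMorphism.ext (IsOpenImmersion.lift_fac _ _ _)
    rw [← h, ← Category.assoc, comp_tr]
  have hex : (e ≫ x) ≫ f = 1 := by rw [Category.assoc, hx, MonObj.comp_one]
  have key : e ≫ lift g x ≫ c ≫ α = e ≫ 1 := by
    rw [comp_lift_assoc, hd, ← Category.assoc, conj_translate hc, Category.assoc, ← hψ, MonObj.comp_one]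
    haveI := hψm y
    rw [MonObj.mul_comp, MonObj.mul_comp, GrpObj.inv_comp,
      hfl U' (e ≫ x) hex y (Finset.mem_toList.mpr hy), _root_.mul_one, mul_inv_cancel]
  exact congrArg CommaMorphism.left key

/-- The Albanese kernel of the neutral component is normal in the whole group, with proper quotient. -/
theorem main [Smooth G.hom] [QuasiCompact G.hom] (i₀ : G₀ ⟶ G) [IsMonHom i₀] [IsOpenImmersion i₀.left]
    [ConnectedSpace G₀.left] {A : Over (Spec (CommRingCat.of k))} [GrpObj A] [IsProper A.hom] [Smooth A.hom]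
    [ConnectedSpace A.left] (α : G₀ ⟶ A) [IsMonHom α] [Surjective α.left] [Flat α.left]
    (hα : ∀ (B : Over (Spec (CommRingCat.of k))) [GrpObj B] [IsProper B.hom] [Smooth B.hom] [ConnectedSpace ↥B.left]
      (f : G₀ ⟶ B), η[G₀] ≫ f = η[B] → ∃! g : A ⟶ B, α ≫ g = f)
    {N : Over (Spec (CommRingCat.of k))} [GrpObj N] (j : N ⟶ G₀) [IsMonHom j] [IsClosedImmersion j.left]
    (hN : AlgGrp.IsKernel j α) :
    AlgGrp.IsNormalHom (j ≫ i₀) ∧ IsAffine N.left ∧ ConnectedSpace N.left ∧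
      (∃ (Q : Over (Spec (CommRingCat.of k))) (_ : GrpObj Q) (q : G ⟶ Q), IsMonHom q ∧ Surjective q.left ∧
        Flat q.left ∧ AlgGrp.IsKernel (j ≫ i₀) q ∧ IsProper Q.hom) ∧
      ∀ (Q' : Over (Spec (CommRingCat.of k))) [GrpObj Q'] [IsProper Q'.hom] (q' : G ⟶ Q') [IsMonHom q']
        [Surjective q'.left] [Flat q'.left], (j ≫ i₀) ≫ q' = 1 := by
  obtain ⟨hG₀q, hcl, hrange⟩ := isClosed_range_neutral i₀
  haveI := hG₀q; haveI := hcl
  haveI : Smooth G₀.hom := by rw [← Over.w i₀]; infer_instance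
  haveI : Mono i₀ := (Over.forget _).mono_of_mono_map (inferInstanceAs (Mono i₀.left))
  haveI : Mono j := (Over.forget _).mono_of_mono_map (inferInstanceAs (Mono j.left))
  obtain ⟨N₂, iN₂, i₂, A₂, iA₂, α₂, hi₂, hic₂, hn₂, hc₂, ha₂, hA₂, hA₂s, hA₂c, hα₂, hα₂s, hα₂f, hk₂, huniv₂, -⟩ :=
    Albanese.exists_albanese G₀
  letI := iN₂; letI := iA₂
  haveI := hi₂; haveI := hic₂; haveI := ha₂; haveI := hc₂; haveI := hA₂; haveI := hA₂s; haveI := hA₂c
  haveI := hα₂
  haveI : Mono i₂ := (Over.forget _).mono_of_mono_map (inferInstanceAs (Mono i₂.left))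
  obtain ⟨g, hg, -⟩ := hα A₂ α₂ (IsMonHom.one_hom α₂)
  have hg1 : η[A] ≫ g = 1 := by
    rw [← IsMonHom.one_hom α, Category.assoc, hg, IsMonHom.one_hom α₂, MonObj.one_eq_one]
  have hj2 : j ≫ α₂ = 1 := by
    rw [← hg, ← Category.assoc, show j ≫ α = 1 from hN.w]
    exact GrpSchLib.AntiAffine.one_comp g hg1 N
  obtain ⟨f, hf⟩ := exists_lift_kernel i₂ α₂ hk₂ j hj2
  obtain ⟨f', hf'⟩ := exists_lift_kernel j α hN i₂ (huniv₂ A α)
  let eN : N ≅ N₂ := ⟨f, f', by rw [← cancel_mono j, Category.assoc, hf', hf, Category.id_comp],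
    by rw [← cancel_mono i₂, Category.assoc, hf, hf', Category.id_comp]⟩
  have hNuniv : ∀ (B : Over (Spec (CommRingCat.of k))) [GrpObj B] [IsProper B.hom] (q : G₀ ⟶ B) [IsMonHom q],
      j ≫ q = 1 := by
    intro B _ _ q _
    rw [← hf, Category.assoc, huniv₂ B q, MonObj.comp_one]
  haveI : IsIso eN.hom.left := ((Over.forget _).mapIso eN).isIso_hom
  haveI haN : IsAffine N.left := IsAffine.of_isIso eN.hom.left
  haveI hcN : ConnectedSpace N.left :=
    Function.Surjective.connectedSpace (inv eN.hom.left).surjective (inv eN.hom.left).continuous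
  obtain ⟨c, hc⟩ := exists_conj i₀
  -- the elements with trivial conjugates
  haveI := GrpSchLib.AntiAffine.isSeparated_grp A
  obtain ⟨Z, κ, hκ, hZ⟩ := GrpSchLib.exists_coincidence_field (W := G) (X := G₀) (c ≫ α) 1
  haveI : Mono κ.left := inferInstance
  haveI : Mono κ := (Over.forget _).mono_of_mono_map (inferInstanceAs (Mono κ.left))
  have hP : ∀ {T : Over (Spec (CommRingCat.of k))} (x : T ⟶ G₀), (∃ z : T ⟶ Z, z ≫ κ = x) ↔
      ∀ (T' : Over (Spec (CommRingCat.of k))) (t : T' ⟶ T) (g : T' ⟶ G), lift g (t ≫ x) ≫ c ≫ α = 1 := by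
    intro T x
    rw [hZ T x, MonObj.comp_one, ← MonObj.comp_one (snd G T), GrpSchLib.whiskerLeft_eq_iff]
    simp only [MonObj.comp_one]
  have hPκ := (hP κ).mp ⟨𝟙 _, Category.id_comp _⟩
  obtain ⟨e, he⟩ := (hP η[G₀]).mpr fun T' t g => by
    rw [MonObj.one_eq_one, MonObj.comp_one, ← Category.assoc, conj_one hc, MonObj.one_comp]
  obtain ⟨m, hm⟩ := (hP ((fst Z Z ≫ κ) * (snd Z Z ≫ κ))).mpr fun T' t g => by
    rw [MonObj.comp_mul, ← Category.assoc, conj_mul hc, MonObj.mul_comp]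
    simp only [← Category.assoc]
    simp only [Category.assoc]
    rw [← Category.assoc t, ← Category.assoc t, hPκ T' (t ≫ fst Z Z) g, hPκ T' (t ≫ snd Z Z) g, _root_.mul_one]
  obtain ⟨v, hv⟩ := (hP κ⁻¹).mpr fun T' t g => by
    rw [GrpObj.comp_inv, ← Category.assoc, conj_inv hc, GrpObj.inv_comp, Category.assoc, hPκ T' t g, inv_one]
  obtain ⟨iZ, hκm⟩ := GrpSchLib.exists_grpObj_of_mono κ e he m hm v hv
  letI := iZ
  haveI := hκm
  have hnZ : AlgGrp.IsNormalHom κ := fun T x y => by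
    obtain ⟨z, hz⟩ := (hP (x * (y ≫ κ) * x⁻¹)).mpr fun T' t g => by
      rw [MonObj.comp_mul, MonObj.comp_mul, GrpObj.comp_inv, ← Category.assoc, conj_mul hc, conj_mul hc, conj_inv hc,
        MonObj.mul_comp, MonObj.mul_comp, GrpObj.inv_comp, Category.assoc _ c α, Category.assoc _ c α,
        ← Category.assoc t, hPκ T' (t ≫ y) g, _root_.mul_one, mul_inv_cancel]
    exact ⟨z, hz.symm⟩
  obtain ⟨R, iR, ρ, hρ, hρf, hρs, hRl, hRq, hkρ⟩ := exists_quotient κ hnZ
  letI := iR
  haveI := hρ; haveI := hρs; haveI := hRl; haveI := hRq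
  let π := Spec.map (CommRingCat.ofHom (algebraMap k (AlgebraicClosure k)))
  let F := Over.pullback π
  haveI : LocallyOfFiniteType G.hom := inferInstance
  haveI hR : IsProper R.hom := by
    haveI : IsOpenImmersion (F.map i₀).left := MorphismProperty.overPullbackMap (P := @IsOpenImmersion) π i₀ ‹_›
    haveI : LocallyOfFiniteType (F.obj G).hom := inferInstanceAs (LocallyOfFiniteType (pullback.snd G.hom π))
    haveI : QuasiCompact (F.obj G).hom := inferInstanceAs (QuasiCompact (pullback.snd G.hom π))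
    haveI : LocallyOfFiniteType (F.obj G₀).hom := inferInstanceAs (LocallyOfFiniteType (pullback.snd G₀.hom π))
    haveI : QuasiCompact (F.obj G₀).hom := inferInstanceAs (QuasiCompact (pullback.snd G₀.hom π))
    haveI : IsProper (F.obj A).hom := inferInstanceAs (IsProper (pullback.snd A.hom π))
    let cK : F.obj G ⊗ F.obj G₀ ⟶ F.obj G₀ := Functor.LaxMonoidal.μ F G G₀ ≫ F.map c
    have hcK : cK ≫ F.map i₀ =
        fst (F.obj G) (F.obj G₀) * (snd (F.obj G) (F.obj G₀) ≫ F.map i₀) * (fst (F.obj G) (F.obj G₀))⁻¹ := by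
      have h : F.map (c ≫ i₀) = F.map (fst G G₀) * (F.map (snd G G₀) ≫ F.map i₀) * (F.map (fst G G₀))⁻¹ := by
        rw [hc, ← F.map_comp]
        show F.homMonoidHom _ = _
        rw [map_mul, map_mul, map_inv]
        rfl
      rw [Category.assoc, ← F.map_comp, h, MonObj.comp_mul, MonObj.comp_mul, GrpObj.comp_inv, ← Category.assoc,
        Functor.Monoidal.μ_fst, Functor.Monoidal.μ_snd]
    obtain ⟨B, iB, f, hfm, hB, htest⟩ := exists_test (A := F.obj A) (F.map i₀) hcK (F.map α)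
    letI := iB
    haveI := hfm; haveI := hB
    obtain ⟨I, iI, r', c', hr', hc', hrc', hcc', hrf', hrs', hIl, hIq⟩ := GrpSchLib.ImageFactor.exists_image f
    letI := iI
    haveI := hr'; haveI := hc'; haveI := hcc'; haveI := hrf'; haveI := hrs'
    haveI : IsProper I.hom := by rw [← Over.w c']; infer_instance
    haveI := GrpSchLib.AntiAffine.isSeparated_grp I
    obtain ⟨K, iK, i', hi', hic', -, hk'⟩ := GrpSchLib.exists_kernel r'
    letI := iK
    have hif : i' ≫ f = 1 := by rw [← hrc', ← Category.assoc, show i' ≫ r' = 1 from hk'.w, MonObj.one_comp]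
    obtain ⟨z, hz⟩ := (hP (DSPtsLib.theta π i')).mpr fun T' t g => by
      obtain ⟨Y, y, eY, hy⟩ := Deform.exists_pullPoint π T' t
      obtain ⟨g₁, hg₁⟩ := (DSPtsLib.theta_bijective π (H := G) (Y := Y)).2 (eY.inv ≫ g)
      have e1 : g = eY.hom ≫ DSPtsLib.theta π g₁ := by rw [hg₁, Iso.hom_inv_id_assoc]
      have e2 : t ≫ DSPtsLib.theta π i' = eY.hom ≫ DSPtsLib.theta π (y ≫ i') := by
        rw [DSPtsLib.theta_comp, reassoc_of% hy]
      have e3 : lift (DSPtsLib.theta π g₁) (DSPtsLib.theta π (y ≫ i')) =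
          DSPtsLib.theta π (lift g₁ (y ≫ i') ≫ Functor.LaxMonoidal.μ F G G₀) := by
        apply CartesianMonoidalCategory.hom_ext
        · rw [lift_fst, ← Deform.theta_map' π _ (fst G G₀), Category.assoc, Functor.Monoidal.μ_fst, lift_fst]
        · rw [lift_snd, ← Deform.theta_map' π _ (snd G G₀), Category.assoc, Functor.Monoidal.μ_snd, lift_snd]
      rw [e1, e2, ← comp_lift_assoc, e3, ← Deform.theta_map' π _ (c ≫ α), Category.assoc, F.map_comp]
      have h := htest Y g₁ (y ≫ i') (by rw [Category.assoc, hif, MonObj.comp_one])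
      rw [Category.assoc] at h
      rw [h, show DSPtsLib.theta π (1 : Y ⟶ Red.bc π A) = 1 from map_one (Deform.thHom π Y), MonObj.comp_one]
    refine SemiAbelian.isProper_of_bc i' r' hk' ρ ?_
    apply (DSPtsLib.theta_bijective π).1
    rw [Deform.theta_map' π i' ρ, ← hz, Category.assoc, show κ ≫ ρ = 1 from hkρ.w, MonObj.comp_one]
    exact (map_one (Deform.thHom π K)).symm
  obtain ⟨a, ha⟩ := exists_lift_kernel κ ρ hkρ j (hNuniv R ρ)
  have hn : AlgGrp.IsNormalHom (j ≫ i₀) := fun T x y => by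
    obtain ⟨w, hw⟩ := exists_lift_kernel j α hN (lift x (y ≫ j) ≫ c) (by
      rw [Category.assoc, ← ha, ← Category.assoc y]
      have h := hPκ T (y ≫ a) x
      rwa [Category.assoc y a κ] at h)
    exact ⟨w, by rw [reassoc_of% hw, ← Category.assoc y, ← lift_conj hc, Category.assoc]⟩
  haveI : IsClosedImmersion (j ≫ i₀).left := inferInstanceAs (IsClosedImmersion (j.left ≫ i₀.left))
  obtain ⟨Q, iQ, q, hq, hqf, hqs, hQl, hQq, hkq⟩ := exists_quotient (j ≫ i₀) hn
  letI := iQ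
  haveI := hq; haveI := hqf; haveI := hqs; haveI := hQl; haveI := hQq
  have hQ : IsProper Q.hom := by
    haveI := quasiCompact_of_grp α
    haveI := quasiCompact_of_grp q
    obtain ⟨φ, hφ, hαφ, -⟩ := S3280.result k G₀ N A Q α j hN (i₀ ≫ q) (by
      rw [← Category.assoc, show (j ≫ i₀) ≫ q = 1 from hkq.w, Hom.one_def])
    haveI := hφ
    haveI : Mono φ := AVFactor.mono_of_kernel α φ j hN (AnyField.isKernel_of j (α ≫ φ)
      (by rw [← Category.assoc, show j ≫ α = 1 from hN.w, MonObj.one_comp])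
      fun T x hx => by
        rw [hαφ, ← Category.assoc] at hx
        obtain ⟨w, hw⟩ := exists_lift_kernel (j ≫ i₀) q hkq (x ≫ i₀) hx
        exact ⟨w, by rw [← cancel_mono i₀, Category.assoc, hw]⟩)
    haveI := quasiCompact_of_grp φ
    haveI : IsClosedImmersion φ.left := S3036.result k A Q φ
    haveI : Flat φ.left := by
      haveI : Flat (α.left ≫ φ.left) := by rw [← Over.comp_left, hαφ, Over.comp_left]; infer_instance
      exact GrpSchLib.RankOne.flat_of_comp α.left φ.left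
    haveI : IsLocallyNoetherian Q.left := LocallyOfFiniteType.isLocallyNoetherian Q.hom
    haveI : IsOpenImmersion φ.left := IsOpenImmersion.of_flat_of_mono φ.left
    haveI : Smooth Q.hom := GrpSchLib.smooth_of_quotient q
    haveI : Smooth (Red.bc π Q).hom := inferInstanceAs (Smooth (pullback.snd Q.hom π))
    haveI : QuasiCompact (Red.bc π Q).hom := inferInstanceAs (QuasiCompact (pullback.snd Q.hom π))
    haveI : IsProper (Red.bc π A).hom := inferInstanceAs (IsProper (pullback.snd A.hom π))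
    haveI : IsClosedImmersion (F.map φ).left := MorphismProperty.overPullbackMap (P := @IsClosedImmersion) π φ ‹_›
    haveI : IsOpenImmersion (F.map φ).left := MorphismProperty.overPullbackMap (P := @IsOpenImmersion) π φ ‹_›
    haveI : ConnectedSpace (Red.bc π A).left :=
      GrpSchLib.AntiAffine.connectedSpace_bc A (algebraMap k (AlgebraicClosure k))
    obtain ⟨-, -, hrφ⟩ := isClosed_range_neutral (F.map φ)
    haveI : IsProper (pullback.snd Q.hom π) := Chev.isProper_of_neutral (F.map φ) hrφ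
    have hπ : (@Surjective ⊓ @Flat ⊓ @QuasiCompact : MorphismProperty Scheme.{u}) π :=
      ⟨⟨inferInstance, inferInstance⟩, inferInstance⟩
    haveI := EtFound.fpqc_isProper.{u}
    exact MorphismProperty.of_isPullback_of_descendsAlong (P := @IsProper)
      (IsPullback.of_hasPullback Q.hom π).flip hπ inferInstance
  refine ⟨hn, haN, hcN, ⟨Q, iQ, q, hq, hqs, hqf, hkq, hQ⟩, fun Q' _ _ q' _ _ _ => ?_⟩
  rw [Category.assoc]
  exact hNuniv Q' (i₀ ≫ q')

end

end Groth.Agent.Deform.Chev.NeutralAlb
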