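import Groth.Agent.Deform.Chev.AlgClosed
import Groth.Agent.Deform.Extension
import Groth.Agent.GeomField.Descend

/-!
# The structure theorem over a perfect field
-/

universe u

open CategoryTheory CategoryTheory.Limits MonoidalCategory CartesianMonoidalCategory MonObj GrpObj AlgebraicGeometry

attribute [local instance] CategoryTheory.Hom.monoid CategoryTheory.Hom.group
set_option linter.style.haveILetI false
set_option linter.unusedSectionVars false

namespace Groth.Agent.Deform.Chev.Perfect

noncomputable section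

section Bc

variable {S S' : Scheme.{u}} (π : S' ⟶ S) (G : Over S) [GrpObj G]

/-- The unit section of a base change. -/
theorem eta_bc_fst : η[Red.bc π G].left ≫ pullback.fst G.hom π = π ≫ η[G].left := by
  show (Functor.LaxMonoidal.ε (Over.pullback π) ≫ (Over.pullback π).map η[G]).left ≫ _ = _
  rw [Over.comp_left, Category.assoc, (Deform.Extension.isPullback_map_left π η[G]).w, ← Category.assoc]
  congr 1
  have h1 : (Functor.LaxMonoidal.ε (Over.pullback π)).left ≫ pullback.snd (𝟙_ (Over S)).hom π =
      (𝟙_ (Over S')).hom := Over.w (Functor.LaxMonoidal.ε (Over.pullback π))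
  have h2 : pullback.fst (𝟙_ (Over S)).hom π = pullback.snd (𝟙_ (Over S)).hom π ≫ π := by
    rw [← pullback.condition]
    exact (Category.comp_id _).symm
  rw [h2, ← Category.assoc, h1]
  exact Category.id_comp _

theorem range_map_eq {X : Over S} (f : X ⟶ G) :
    Set.range ((Over.pullback π).map f).left = pullback.fst G.hom π ⁻¹' Set.range f.left := by
  have sq := (Deform.Extension.isPullback_map_left π f).w
  ext x
  constructor
  · rintro ⟨z, rfl⟩
    exact ⟨pullback.fst X.hom π z, by rw [← Scheme.Hom.comp_apply, ← sq, Scheme.Hom.comp_apply]⟩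
  · rintro ⟨y, hy⟩
    obtain ⟨z, hz1, -⟩ := Scheme.Pullback.exists_preimage_pullback x y hy.symm
    let e := (Deform.Extension.isPullback_map_left π f).isoPullback
    refine ⟨e.inv z, ?_⟩
    rw [← hz1]
    exact congr($((Deform.Extension.isPullback_map_left π f).isoPullback_inv_fst).base z)

end Bc

variable {k : Type u} [Field k]

/-- The affine part of the base change to an algebraic closure is stable under the Galois action. -/
theorem galois_stable {G : Over (Spec (CommRingCat.of k))} [GrpObj G] [Smooth G.hom] [QuasiCompact G.hom]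
    [ConnectedSpace G.left]
    {N Q : Over (Spec (CommRingCat.of (AlgebraicClosure k)))} [GrpObj N] [GrpObj Q]
    (i : N ⟶ Red.bc (Spec.map (CommRingCat.ofHom (algebraMap k (AlgebraicClosure k)))) G) [IsMonHom i]
    [IsClosedImmersion i.left] [Smooth N.hom] [ConnectedSpace N.left] [IsAffine N.left]
    (q : Red.bc (Spec.map (CommRingCat.ofHom (algebraMap k (AlgebraicClosure k)))) G ⟶ Q) [IsMonHom q]
    [IsProper Q.hom] [Smooth Q.hom] [ConnectedSpace Q.left] (hk : AlgGrp.IsKernel i q)
    {y y' : ↥(Red.bc (Spec.map (CommRingCat.ofHom (algebraMap k (AlgebraicClosure k)))) G).left}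
    (h : pullback.fst G.hom (Spec.map (CommRingCat.ofHom (algebraMap k (AlgebraicClosure k)))) y =
      pullback.fst G.hom (Spec.map (CommRingCat.ofHom (algebraMap k (AlgebraicClosure k)))) y')
    (hy : y' ∈ Set.range i.left) : y ∈ Set.range i.left := by
  letI : G.left.Over (Spec (CommRingCat.of k)) := ⟨G.hom⟩
  obtain ⟨σ, hσ⟩ := GeomField.exists_galAct_eq (X := G.left) (K := AlgebraicClosure k) y y' h
  let π := Spec.map (CommRingCat.ofHom (algebraMap k (AlgebraicClosure k)))
  let s : Spec (CommRingCat.of (AlgebraicClosure k)) ⟶ Spec (CommRingCat.of (AlgebraicClosure k)) :=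
    Spec.map (CommRingCat.ofHom (σ : AlgebraicClosure k →ₐ[k] AlgebraicClosure k).toRingHom)
  have hs : s ≫ π = π := by
    rw [← Spec.map_comp, ← CommRingCat.ofHom_comp, AlgHom.toRingHom_eq_coe, AlgHom.comp_algebraMap]
  haveI : IsIso (CommRingCat.ofHom (σ : AlgebraicClosure k →ₐ[k] AlgebraicClosure k).toRingHom) :=
    σ.toRingEquiv.toCommRingCatIso.isIso_hom
  haveI : IsIso s := inferInstanceAs (IsIso (Spec.map _))
  let F := Over.pullback s
  let e : F.obj (Red.bc π G) ⟶ Red.bc π G := Over.homMk
    (pullback.lift (pullback.fst (Red.bc π G).hom s ≫ pullback.fst G.hom π) (pullback.snd (Red.bc π G).hom s) (by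
      rw [Category.assoc, pullback.condition, ← Category.assoc,
        show pullback.fst (Red.bc π G).hom s ≫ pullback.snd G.hom π = pullback.snd (Red.bc π G).hom s ≫ s from
          pullback.condition, Category.assoc, hs]))
    (pullback.lift_snd _ _ _)
  have he1 : e.left ≫ pullback.fst G.hom π = pullback.fst (Red.bc π G).hom s ≫ pullback.fst G.hom π :=
    pullback.lift_fst _ _ _
  have he2 : e.left ≫ pullback.snd G.hom π = pullback.snd (Red.bc π G).hom s := pullback.lift_snd _ _ _
  let gA : (Red.bc π G).left ⟶ (Red.bc π G).left := Curv2.galAct k G.left (AlgebraicClosure k) σ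
  have hgA1 : gA ≫ pullback.fst G.hom π = pullback.fst G.hom π :=
    (pullback.lift_fst _ _ _).trans (Category.comp_id _)
  have hgA2 : gA ≫ pullback.snd G.hom π = pullback.snd G.hom π ≫ s := pullback.lift_snd _ _ _
  have hη : η[F.obj (Red.bc π G)] ≫ e = η[Red.bc π G] := by
    apply Over.OverMorphism.ext
    rw [Over.comp_left]
    apply pullback.hom_ext
    · rw [Category.assoc, he1, ← Category.assoc, show η[F.obj (Red.bc π G)].left ≫ pullback.fst (Red.bc π G).hom s =
        s ≫ η[Red.bc π G].left from eta_bc_fst s (Red.bc π G), Category.assoc, eta_bc_fst, ← Category.assoc, hs]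
    · rw [Category.assoc, he2]
      exact (Over.w η[F.obj (Red.bc π G)]).trans (Over.w η[Red.bc π G]).symm
  haveI : IsAffine (F.obj N).left := by
    haveI : IsIso (pullback.fst N.hom s) := inferInstance
    exact IsAffine.of_isIso (pullback.fst N.hom s)
  haveI : Smooth (F.obj N).hom := inferInstanceAs (Smooth (pullback.snd N.hom s))
  haveI : ConnectedSpace (F.obj N).left := by
    haveI : IsIso (pullback.fst N.hom s) := inferInstance
    exact Function.Surjective.connectedSpace (inv (pullback.fst N.hom s)).surjective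
      (inv (pullback.fst N.hom s)).continuous
  have hf1 : η[F.obj N] ≫ (F.map i ≫ e ≫ q) = 1 := by
    rw [← Category.assoc, IsMonHom.one_hom (F.map i), ← Category.assoc, hη, IsMonHom.one_hom q, MonObj.one_eq_one]
  haveI : IsMonHom (F.map i ≫ e ≫ q) := AVFactor.isMonHom_of_one _ hf1
  have hf : (F.map i ≫ e) ≫ q = 1 := (Category.assoc _ _ _).trans (AVFactor.eq_one_of_affine _)
  obtain ⟨g, hg⟩ := exists_lift_kernel i q hk (F.map i ≫ e) hf
  -- the point
  let e' : (Red.bc π G).left ⟶ (F.obj (Red.bc π G)).left :=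
    pullback.lift gA (pullback.snd G.hom π) hgA2
  have hee : e' ≫ e.left = 𝟙 _ := by
    apply pullback.hom_ext
    · rw [Category.assoc, he1, ← Category.assoc, pullback.lift_fst, Category.id_comp]
      exact hgA1
    · rw [Category.assoc, he2, pullback.lift_snd, Category.id_comp]
  have hx : pullback.fst (Red.bc π G).hom s (e' y) = y' := by
    rw [← Scheme.Hom.comp_apply, pullback.lift_fst]
    exact hσ
  have hmem : e' y ∈ Set.range (F.map i).left := by
    rw [range_map_eq s (Red.bc π G) i, Set.mem_preimage, hx]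
    exact hy
  obtain ⟨w, hw⟩ := hmem
  refine ⟨g.left w, ?_⟩
  rw [← Scheme.Hom.comp_apply, ← Over.comp_left, hg, Over.comp_left, Scheme.Hom.comp_apply, hw,
    ← Scheme.Hom.comp_apply, hee]
  rfl

variable [PerfectField k]

/-- The structure theorem over a perfect field. -/
theorem exists_decomp (G : Over (Spec (CommRingCat.of k))) [GrpObj G] [Smooth G.hom] [QuasiCompact G.hom]
    [ConnectedSpace G.left] :
    ∃ (N : Over (Spec (CommRingCat.of k))) (_ : GrpObj N) (i : N ⟶ G)
    (Q : Over (Spec (CommRingCat.of k))) (_ : GrpObj Q) (q : G ⟶ Q), IsMonHom i ∧ IsClosedImmersion i.left ∧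
      Smooth N.hom ∧ QuasiCompact N.hom ∧ ConnectedSpace N.left ∧ IsAffine N.left ∧ AlgGrp.IsNormalHom i ∧
      IsMonHom q ∧ Flat q.left ∧ Surjective q.left ∧ AlgGrp.IsKernel i q ∧ IsProper Q.hom ∧ Smooth Q.hom ∧
      ConnectedSpace Q.left := by
  let π := Spec.map (CommRingCat.ofHom (algebraMap k (AlgebraicClosure k)))
  let F := Over.pullback π
  haveI : Smooth (Red.bc π G).hom := inferInstanceAs (Smooth (pullback.snd G.hom π))
  haveI : QuasiCompact (Red.bc π G).hom := inferInstanceAs (QuasiCompact (pullback.snd G.hom π))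
  haveI : ConnectedSpace (Red.bc π G).left :=
    GrpSchLib.AntiAffine.connectedSpace_bc G (algebraMap k (AlgebraicClosure k))
  obtain ⟨M, iM, i, A, iA, q₀, hi, hic, hMs, hMq, hMc, hMa, hMn, hq₀, hq₀f, hq₀s, hk₀, hA, hAs, hAc⟩ :=
    Chev.exists_decomp (Red.bc π G)
  letI := iM; letI := iA
  haveI := hi; haveI := hic; haveI := hMs; haveI := hMq; haveI := hMc; haveI := hMa; haveI := hq₀; haveI := hq₀f
  haveI := hq₀s; haveI := hA; haveI := hAs; haveI := hAc
  haveI : IsReduced M.left := GrpSchLib.isReduced_of_smooth_field M.hom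
  haveI : IsIntegralHom π := (IsIntegralHom.SpecMap_iff).mpr (algebraMap_isIntegral_iff.mpr inferInstance)
  haveI : Surjective π := inferInstance
  let C : Set G.left := pullback.fst G.hom π '' Set.range i.left
  have hC : IsClosed C :=
    (pullback.fst G.hom π).isClosedMap _ i.left.isClosedEmbedding.isClosed_range
  have hst : ∀ y, pullback.fst G.hom π y ∈ C → y ∈ Set.range i.left := by
    rintro y ⟨y', hy', h⟩
    exact galois_stable i q₀ hk₀ h.symm hy'
  have hsub : ∀ {T : Over (Spec (CommRingCat.of k))} (f : T ⟶ G), Set.range f.left ⊆ C →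
      Set.range (F.map f).left ⊆ Set.range i.left := by
    intro T f hf
    rw [range_map_eq π G f]
    exact fun y hy => hst y (hf hy)
  have hdown : ∀ {T : Over (Spec (CommRingCat.of k))} (f : T ⟶ G) (g : F.obj T ⟶ M), g ≫ i = F.map f →
      Set.range f.left ⊆ C := by
    rintro T f g hg _ ⟨x, rfl⟩
    obtain ⟨x', rfl⟩ := (pullback.fst T.hom π).surjective x
    refine ⟨(F.map f).left x', ⟨g.left x', by rw [← Scheme.Hom.comp_apply, ← Over.comp_left, hg]⟩, ?_⟩
    rw [← Scheme.Hom.comp_apply, ← Scheme.Hom.comp_apply, (Deform.Extension.isPullback_map_left π f).w]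
  have hone : Set.range η[G].left ⊆ C := by
    rintro _ ⟨x, rfl⟩
    obtain ⟨x', rfl⟩ := π.surjective x
    refine ⟨η[Red.bc π G].left x', ⟨η[M].left x', ?_⟩, ?_⟩
    · rw [← Scheme.Hom.comp_apply, ← Over.comp_left, IsMonHom.one_hom i]
    · rw [← Scheme.Hom.comp_apply, eta_bc_fst, Scheme.Hom.comp_apply]
  haveI : LocallyOfFiniteType G.hom := inferInstance
  obtain ⟨N, iN, n, hn, hnc, hNs, hNq, hNC⟩ := exists_subgroup_of_lift hC hone fun Y a hac hYr hY => by
    haveI := hac; haveI := hYr
    haveI : IsReduced (F.obj Y).left := GrpSchLib.isReduced_pullback_of_perfectField Y.hom π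
    obtain ⟨g, hg⟩ := exists_lift_range i (F.map a) (hsub a hY.le)
    constructor
    · refine hdown _ ((F.map (fst Y Y) ≫ g) * (F.map (snd Y Y) ≫ g)) ?_
      rw [MonObj.mul_comp, Category.assoc, Category.assoc, hg, ← F.map_comp, ← F.map_comp]
      exact (map_mul F.homMonoidHom _ _).symm
    · refine hdown _ g⁻¹ ?_
      rw [GrpObj.inv_comp, hg]
      exact (map_inv F.homMonoidHom a).symm
  letI := iN
  haveI := hn; haveI := hnc; haveI := hNs; haveI := hNq
  haveI : IsReduced N.left := GrpSchLib.isReduced_of_smooth_field N.hom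
  haveI : IsReduced (F.obj N).left := GrpSchLib.isReduced_pullback_of_perfectField N.hom π
  obtain ⟨g, hg⟩ := exists_lift_range i (F.map n) (hsub n hNC.le)
  haveI : IsClosedImmersion (F.map n).left := MorphismProperty.overPullbackMap (P := @IsClosedImmersion) π n hnc
  haveI : IsClosedImmersion (g.left ≫ i.left) := by rw [← Over.comp_left, hg]; infer_instance
  haveI : IsClosedImmersion g.left := IsClosedImmersion.of_comp g.left i.left
  have hrange : Set.range (F.map n).left = Set.range i.left := by
    refine Set.Subset.antisymm (hsub n hNC.le) fun y hy => ?_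
    rw [range_map_eq π G n, Set.mem_preimage, hNC]
    exact ⟨y, hy, rfl⟩
  obtain ⟨h, hh⟩ := exists_lift_range (F.map n) i hrange.ge
  haveI : IsAffine N.left := by
    haveI : IsAffine (F.obj N).left := isAffine_of_isAffineHom g.left
    haveI : IsAffine (pullback N.hom π) := (inferInstance : IsAffine (F.obj N).left)
    haveI : IsAffineHom (pullback.snd N.hom π) := isAffineHom_of_isAffine _
    have hπ : (@Surjective ⊓ @Flat ⊓ @QuasiCompact : MorphismProperty Scheme.{u}) π :=
      ⟨⟨inferInstance, inferInstance⟩, inferInstance⟩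
    haveI := EtFound.fpqc_isAffineHom.{u}
    haveI : IsAffineHom N.hom := MorphismProperty.of_isPullback_of_descendsAlong (P := @IsAffineHom)
      (IsPullback.of_hasPullback N.hom π).flip hπ inferInstance
    exact isAffine_of_isAffineHom N.hom
  haveI : ConnectedSpace N.left := by
    have h1 : _root_.IsConnected C := by
      show _root_.IsConnected (pullback.fst G.hom π '' Set.range i.left)
      rw [← Set.image_univ]
      exact (isConnected_univ (α := M.left)).image _ i.left.continuous.continuousOn |>.image _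
        (pullback.fst G.hom π).continuous.continuousOn
    rw [← hNC] at h1
    haveI : ConnectedSpace (Set.range n.left) := isConnected_iff_connectedSpace.mp h1
    exact Function.Surjective.connectedSpace
      (n.left.isClosedEmbedding.isEmbedding.toHomeomorph.symm).surjective
      (n.left.isClosedEmbedding.isEmbedding.toHomeomorph.symm).continuous
  have hnn : AlgGrp.IsNormalHom n := by
    haveI : IsReduced G.left := GrpSchLib.isReduced_of_smooth_field G.hom
    haveI : IsReduced (G ⊗ N).left := GrpSchLib.isReduced_pullback_of_perfectField G.hom N.hom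
    let cm : G ⊗ N ⟶ G := fst G N * (snd G N ≫ n) * (fst G N)⁻¹
    obtain ⟨m, hm⟩ := hMn (F.obj (G ⊗ N)) (F.map (fst G N)) (F.map (snd G N) ≫ g)
    obtain ⟨c, hc⟩ := exists_lift_range n cm ((hdown cm m (by
      rw [← hm, Category.assoc, hg, ← F.map_comp]
      show _ = F.homMonoidHom (fst G N * (snd G N ≫ n) * (fst G N)⁻¹)
      rw [map_mul, map_mul, map_inv]
      rfl)).trans hNC.ge)
    intro T x y
    refine ⟨lift x y ≫ c, ?_⟩
    rw [Category.assoc, hc]
    simp only [cm, MonObj.comp_mul, GrpObj.comp_inv, lift_fst, lift_snd_assoc]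
  obtain ⟨Q, iQ, q, hq, hqf, hqs, hQl, hQq, hk⟩ := exists_quotient n hnn
  letI := iQ
  haveI := hq; haveI := hqf; haveI := hqs; haveI := hQl; haveI := hQq
  haveI : Smooth Q.hom := GrpSchLib.smooth_of_quotient q
  haveI : ConnectedSpace Q.left := q.left.surjective.connectedSpace q.left.continuous
  haveI : IsProper Q.hom := by
    haveI : Surjective (F.map q).left := MorphismProperty.overPullbackMap (P := @Surjective) π q hqs
    haveI : LocallyOfFiniteType (F.obj Q).hom := inferInstanceAs (LocallyOfFiniteType (pullback.snd Q.hom π))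
    haveI : QuasiCompact (F.obj Q).hom := inferInstanceAs (QuasiCompact (pullback.snd Q.hom π))
    have hi0 : i ≫ F.map q = toUnit M ≫ η[F.obj Q] := by
      rw [← hh, Category.assoc, ← F.map_comp, show n ≫ q = 1 from hk.w,
        show F.map (1 : N ⟶ Q) = 1 from map_one F.homMonoidHom, MonObj.comp_one, Hom.one_def]
    haveI := quasiCompact_of_grp q₀
    obtain ⟨φ, hφ, hqφ, -⟩ := S3280.result _ (Red.bc π G) M A (F.obj Q) q₀ i hk₀ (F.map q) hi0
    haveI : Surjective φ.left := by
      haveI : Surjective (q₀.left ≫ φ.left) := by rw [← Over.comp_left, hqφ]; infer_instance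
      exact Surjective.of_comp q₀.left φ.left
    haveI : IsSeparated (F.obj Q).hom := GrpSchLib.AntiAffine.isSeparated_grp _
    haveI : UniversallyClosed (F.obj Q).hom := by
      haveI : UniversallyClosed (φ.left ≫ (F.obj Q).hom) := by rw [Over.w φ]; infer_instance
      exact UniversallyClosed.of_comp_surjective φ.left (F.obj Q).hom
    haveI : IsProper (pullback.snd Q.hom π) := (IsProper.mk : IsProper (F.obj Q).hom)
    have hπ : (@Surjective ⊓ @Flat ⊓ @QuasiCompact : MorphismProperty Scheme.{u}) π :=
      ⟨⟨inferInstance, inferInstance⟩, inferInstance⟩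
    haveI := EtFound.fpqc_isProper.{u}
    exact MorphismProperty.of_isPullback_of_descendsAlong (P := @IsProper)
      (IsPullback.of_hasPullback Q.hom π).flip hπ inferInstance
  exact ⟨N, iN, n, Q, iQ, q, hn, hnc, hNs, hNq, inferInstance, inferInstance, hnn, hq, hqf, hqs, hk, inferInstance,
    inferInstance, inferInstance⟩

/-- Surjective homomorphisms respect the decompositions. -/
theorem functorial {G' G N' N A' A : Over (Spec (CommRingCat.of k))} [GrpObj G'] [GrpObj G] [GrpObj N'] [GrpObj N]
    [GrpObj A'] [GrpObj A] [Smooth G'.hom] [QuasiCompact G'.hom] [Smooth G.hom] [QuasiCompact G.hom]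
    (f : G' ⟶ G) [IsMonHom f] [Surjective f.left] (i' : N' ⟶ G') [IsMonHom i'] [IsClosedImmersion i'.left]
    [Smooth N'.hom] [ConnectedSpace N'.left] [IsAffine N'.left] (hn' : AlgGrp.IsNormalHom i')
    (q' : G' ⟶ A') [IsMonHom q'] [Surjective q'.left] [Flat q'.left] [IsProper A'.hom] (hk' : AlgGrp.IsKernel i' q')
    (i : N ⟶ G) [IsMonHom i] [IsClosedImmersion i.left] [Smooth N.hom] [ConnectedSpace N.left] [IsAffine N.left]
    (q : G ⟶ A) [IsMonHom q] [Surjective q.left] [IsProper A.hom] (hk : AlgGrp.IsKernel i q) :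
    (∃ g : N' ⟶ N, IsMonHom g ∧ g ≫ i = i' ≫ f ∧ Surjective g.left) ∧
      (∃ h : A' ⟶ A, IsMonHom h ∧ q' ≫ h = f ≫ q ∧ Surjective h.left) := by
  haveI : Mono i := (Over.forget _).mono_of_mono_map (inferInstanceAs (Mono i.left))
  have h0 : (i' ≫ f) ≫ q = 1 := AVFactor.eq_one_of_affine _
  obtain ⟨g, hg⟩ := exists_lift_kernel i q hk (i' ≫ f) h0
  haveI : IsMonHom g := by
    constructor
    · rw [← cancel_mono i, Category.assoc, hg, IsMonHom.one_hom (i' ≫ f), IsMonHom.one_hom i]
    · rw [← cancel_mono i, Category.assoc, hg, IsMonHom.mul_hom (i' ≫ f), Category.assoc, IsMonHom.mul_hom i,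
        ← Category.assoc (g ⊗ₘ g), MonoidalCategory.tensorHom_comp_tensorHom, hg]
  haveI := quasiCompact_of_grp q'
  constructor
  swap
  · obtain ⟨h, hh, hqh, -⟩ := S3280.result k G' N' A' A q' i' hk' (f ≫ q) (by
      rw [← Category.assoc, h0, Hom.one_def])
    refine ⟨h, hh, hqh, ?_⟩
    haveI : Surjective (q'.left ≫ h.left) := by rw [← Over.comp_left, hqh, Over.comp_left]; infer_instance
    exact Surjective.of_comp q'.left h.left
  refine ⟨g, inferInstance, hg, ?_⟩
  haveI : LocallyOfFiniteType N'.hom := by rw [← Over.w i']; infer_instance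
  obtain ⟨J, iJ, p, c, hp, hc, hJa, hcc, hJl, hps, hpc⟩ := AntiAffineParts.exists_affine_image (i' ≫ f)
  letI := iJ
  haveI := hp; haveI := hc; haveI := hJa; haveI := hcc; haveI := hJl; haveI := hps
  obtain ⟨J', iJ', r, hr, hrc, hJr, hrs, hJ'l, hJ'q⟩ := by
    haveI : QuasiCompact J.hom := by rw [← Over.w c]; infer_instance
    exact GrpSchLib.RedSubgroup.exists_redSubgroup J
  letI := iJ'
  haveI := hr; haveI := hrc; haveI := hJr; haveI := hrs; haveI := hJ'l; haveI := hJ'q
  haveI : IsClosedImmersion (r ≫ c).left := inferInstanceAs (IsClosedImmersion (r.left ≫ c.left))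
  haveI : IsReduced N'.left := GrpSchLib.isReduced_of_smooth_field N'.hom
  obtain ⟨p', hp'⟩ := exists_lift_range r p (by rw [r.left.surjective.range_eq]; exact Set.subset_univ _)
  haveI : Surjective p'.left := ⟨fun x => by
    obtain ⟨z, hz⟩ := p.left.surjective (r.left x)
    refine ⟨z, r.left.isClosedEmbedding.injective ?_⟩
    rw [← Scheme.Hom.comp_apply, ← Over.comp_left, hp', hz]⟩
  have hrng : Set.range (r ≫ c).left = Set.range (i' ≫ f).left := by
    rw [← hpc, ← hp', Category.assoc, Over.comp_left, Over.comp_left, Over.comp_left]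
    simp only [Scheme.Hom.comp_base, TopCat.coe_comp]
    rw [Set.range_comp (g := _ ∘ _) (f := p'.left), p'.left.surjective.range_eq, Set.image_univ]
  haveI : IsReduced G.left := GrpSchLib.isReduced_of_smooth_field G.hom
  haveI : IsReduced (G ⊗ J').left := GrpSchLib.isReduced_pullback_of_perfectField G.hom J'.hom
  have hnJ : AlgGrp.IsNormalHom (r ≫ c) := by
    let cm : G ⊗ J' ⟶ G := fst G J' * (snd G J' ≫ r ≫ c) * (fst G J')⁻¹
    obtain ⟨m, hm⟩ := hn' (G' ⊗ N') (fst G' N') (snd G' N')
    have e : (f ⊗ₘ p') ≫ cm = m ≫ i' ≫ f := by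
      simp only [cm, MonObj.comp_mul, GrpObj.comp_inv, tensorHom_fst, tensorHom_snd_assoc]
      rw [reassoc_of% hp', hpc, ← Category.assoc m, ← hm, MonObj.mul_comp, MonObj.mul_comp, GrpObj.inv_comp]
      simp only [Category.assoc]
    haveI : Surjective (f ⊗ₘ p').left := by
      rw [MonoidalCategory.tensorHom_def, Over.comp_left]
      haveI := GrpSchLib.property_whiskerRight f N' @Surjective ‹_›
      haveI : Surjective (G ◁ p').left := by
        haveI := GrpSchLib.property_whiskerRight p' G @Surjective ‹_›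
        have e : G ◁ p' = (β_ G N').hom ≫ (p' ▷ G) ≫ (β_ G J').inv := by
          apply CartesianMonoidalCategory.hom_ext <;> simp
        haveI : IsIso (β_ G N').hom.left := ((Over.forget _).mapIso (β_ G N')).isIso_hom
        haveI : IsIso (β_ G J').inv.left := ((Over.forget _).mapIso (β_ G J')).isIso_inv
        rw [e, Over.comp_left, Over.comp_left]
        infer_instance
      infer_instance
    obtain ⟨d, hd⟩ := exists_lift_range (r ≫ c) cm (by
      rintro _ ⟨x, rfl⟩
      obtain ⟨z, rfl⟩ := (f ⊗ₘ p').left.surjective x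
      rw [hrng]
      exact ⟨m.left z, by rw [← Scheme.Hom.comp_apply, ← Over.comp_left, ← e]; rfl⟩)
    intro T x y
    refine ⟨lift x y ≫ d, ?_⟩
    rw [Category.assoc, hd]
    simp only [cm, MonObj.comp_mul, GrpObj.comp_inv, lift_fst, lift_snd_assoc]
  obtain ⟨R, iR, ρ, hρ, hρf, hρs, hRl, hRq, hkR⟩ := exists_quotient (r ≫ c) hnJ
  letI := iR
  haveI := hρ; haveI := hρs; haveI := hRl; haveI := hRq
  have h1 : i' ≫ f ≫ ρ = toUnit N' ≫ η[R] := by
    rw [← Category.assoc, ← hpc, ← hp', Category.assoc p', Category.assoc, show (r ≫ c) ≫ ρ = 1 from hkR.w,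
      MonObj.comp_one, Hom.one_def]
  obtain ⟨φ, hφ, hqφ, -⟩ := S3280.result k G' N' A' R q' i' hk' (f ≫ ρ) h1
  haveI : Surjective φ.left := by
    haveI : Surjective (q'.left ≫ φ.left) := by rw [← Over.comp_left, hqφ, Over.comp_left]; infer_instance
    exact Surjective.of_comp q'.left φ.left
  haveI : IsSeparated R.hom := GrpSchLib.AntiAffine.isSeparated_grp _
  haveI : UniversallyClosed R.hom := by
    haveI : UniversallyClosed (φ.left ≫ R.hom) := by rw [Over.w φ]; infer_instance
    exact UniversallyClosed.of_comp_surjective φ.left R.hom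
  haveI : IsProper R.hom := IsProper.mk
  obtain ⟨b, hb⟩ := exists_lift_kernel (r ≫ c) ρ hkR i (AVFactor.eq_one_of_affine _)
  haveI : Mono (r ≫ c) := (Over.forget _).mono_of_mono_map (inferInstanceAs (Mono (r ≫ c).left))
  have hgb : g ≫ b = p' := by
    rw [← cancel_mono (r ≫ c), Category.assoc, hb, hg, ← hpc, ← hp', Category.assoc]
  refine ⟨fun x => ?_⟩
  obtain ⟨z, hz⟩ := p'.left.surjective (b.left x)
  refine ⟨z, i.left.isClosedEmbedding.injective ?_⟩
  have e1 : ∀ y, i.left y = (r ≫ c).left (b.left y) := fun y =>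
    (congr($(congrArg CommaMorphism.left hb).base y)).symm
  have e2 : b.left (g.left z) = p'.left z := congr($(congrArg CommaMorphism.left hgb).base z)
  rw [e1, e1, e2, hz]

end

end Groth.Agent.Deform.Chev.Perfect
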