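import Groth.Agent.Deform.Chev.Perfect
import Groth.Agent.Deform.AntiAffineParts

/-!
# The anti-affine part and the affine part over a perfect field
-/

universe u

open CategoryTheory CategoryTheory.Limits MonoidalCategory CartesianMonoidalCategory MonObj GrpObj AlgebraicGeometry

attribute [local instance] CategoryTheory.Hom.monoid CategoryTheory.Hom.group
set_option linter.style.haveILetI false
set_option linter.unusedSectionVars false

namespace Groth.Agent.Deform.Chev.Perfect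

noncomputable section

variable {k : Type u} [Field k] [PerfectField k]

theorem mul_antiAffine {G N M : Over (Spec (CommRingCat.of k))} [GrpObj G] [GrpObj N] [GrpObj M] [Smooth G.hom]
    [QuasiCompact G.hom] [ConnectedSpace G.left] (i : N ⟶ G) [IsMonHom i] [IsClosedImmersion i.left]
    [Smooth N.hom] [ConnectedSpace N.left] [IsAffine N.left]
    (hNmax : ∀ (N' : Over (Spec (CommRingCat.of k))) [GrpObj N'] (i' : N' ⟶ G) [IsMonHom i']
      [IsClosedImmersion i'.left] [Smooth N'.hom] [ConnectedSpace ↥N'.left] [IsAffine N'.left],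
      AlgGrp.IsNormalHom i' → ∃ f : N' ⟶ N, f ≫ i = i')
    (j : M ⟶ G) [IsMonHom j] [IsClosedImmersion j.left] (hM : Function.Bijective M.hom.appTop)
    (hMmax : ∀ (M' : Over (Spec (CommRingCat.of k))) [GrpObj M'] (j' : M' ⟶ G) [IsMonHom j']
      [IsClosedImmersion j'.left], Function.Bijective M'.hom.appTop → ∃ f : M' ⟶ M, f ≫ j = j') :
    IsMonHom ((j ⊗ₘ i) ≫ μ[G]) ∧ Surjective ((j ⊗ₘ i) ≫ μ[G]).left := by
  haveI : LocallyOfFiniteType M.hom := by rw [← Over.w j]; infer_instance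
  haveI : QuasiCompact M.hom := by rw [← Over.w j]; infer_instance
  have hc : ∀ {T : Over (Spec (CommRingCat.of k))} (a : T ⟶ M) (b : T ⟶ G), (a ≫ j) * b = b * (a ≫ j) :=
    fun a b => GrpSchLib.AntiAffine.commute hM j ((IsMonHom.one_hom j).trans (MonObj.one_eq_one G)) a b
  let m : M ⊗ N ⟶ G := (j ⊗ₘ i) ≫ μ[G]
  have hm : m = (fst M N ≫ j) * (snd M N ≫ i) := by
    rw [Hom.mul_def, ← lift_map, lift_fst_snd, Category.id_comp]
  constructor
  · change IsMonHom m
    have hmul : ∀ {T : Over (Spec (CommRingCat.of k))} (a b : T ⟶ M ⊗ N), (a * b) ≫ m = (a ≫ m) * (b ≫ m) := by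
      intro T a b
      rw [hm]
      simp only [MonObj.comp_mul, ← Category.assoc]
      rw [show (a * b) ≫ fst M N = (a ≫ fst M N) * (b ≫ fst M N) from MonObj.mul_comp _ _ _,
        show (a * b) ≫ snd M N = (a ≫ snd M N) * (b ≫ snd M N) from MonObj.mul_comp _ _ _, MonObj.mul_comp,
        MonObj.mul_comp]
      rw [_root_.mul_assoc, ← _root_.mul_assoc ((b ≫ fst M N) ≫ j), hc (b ≫ fst M N) ((a ≫ snd M N) ≫ i)]
      simp only [_root_.mul_assoc]
    constructor
    · rw [MonObj.one_eq_one, MonObj.one_eq_one, hm]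
      simp only [MonObj.comp_mul, ← Category.assoc, MonObj.one_comp, _root_.mul_one]
    · rw [MonObj.mul_eq_mul, hmul, MonObj.mul_eq_mul (M := G), MonObj.comp_mul (m ⊗ₘ m) (fst G G) (snd G G),
        tensorHom_fst, tensorHom_snd]
  · obtain ⟨N₀, iN₀, i₀, Q, iQ, q, hi₀, hic₀, hs₀, hq₀, hc₀, ha₀, hn₀, hq, hqf, hqs, hk, hQ, hQs, hQc⟩ :=
      exists_decomp G
    letI := iN₀; letI := iQ
    haveI := hi₀; haveI := hic₀; haveI := hs₀; haveI := hc₀; haveI := ha₀; haveI := hq; haveI := hqs; haveI := hQ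
    haveI := hQc
    obtain ⟨f, hf⟩ := hNmax N₀ i₀ hn₀
    obtain ⟨K, iK, κ, hκ, hκc, hKl, hKq, hKb, I, iI, p, hp, hI, hIl, hpf, hps, hkp⟩ := AntiAffineParts.exists_ant G
    letI := iK; letI := iI
    haveI := hκ; haveI := hκc; haveI := hKl; haveI := hKq; haveI := hp; haveI := hI; haveI := hIl; haveI := hpf
    haveI := hps
    obtain ⟨u, hu⟩ := hMmax K κ hKb
    haveI := AntiAffineParts.surjective_proper hKb κ p hkp q
    haveI := AntiAffineParts.surjective_mul i₀ q hk κ
    have e : lift (snd N₀ K ≫ u) (fst N₀ K ≫ f) ≫ (j ⊗ₘ i) ≫ μ[G] = (i₀ ⊗ₘ κ) ≫ μ[G] := by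
      rw [lift_map_assoc, ← Hom.mul_def, Category.assoc, Category.assoc, hu, hf,
        show snd N₀ K ≫ κ = (snd N₀ K ≫ u) ≫ j by rw [Category.assoc, hu], hc, Category.assoc, hu, Hom.mul_def,
        ← lift_map_assoc, lift_fst_snd, Category.id_comp]
    haveI : Surjective ((lift (snd N₀ K ≫ u) (fst N₀ K ≫ f)).left ≫ ((j ⊗ₘ i) ≫ μ[G]).left) := by
      rw [← Over.comp_left, e]; infer_instance
    exact Surjective.of_comp (lift (snd N₀ K ≫ u) (fst N₀ K ≫ f)).left _

/-- The decomposition is unique. -/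
theorem decomp_unique {G N N' Q Q' : Over (Spec (CommRingCat.of k))} [GrpObj G] [GrpObj N] [GrpObj N'] [GrpObj Q]
    [GrpObj Q'] (i : N ⟶ G) [IsMonHom i] [IsClosedImmersion i.left] [IsAffine N.left] [Smooth N.hom]
    [ConnectedSpace N.left] (q : G ⟶ Q) [IsMonHom q] [IsProper Q.hom] (hk : AlgGrp.IsKernel i q)
    (i' : N' ⟶ G) [IsMonHom i'] [IsClosedImmersion i'.left] [IsAffine N'.left] [Smooth N'.hom]
    [ConnectedSpace N'.left] (q' : G ⟶ Q') [IsMonHom q'] [IsProper Q'.hom] (hk' : AlgGrp.IsKernel i' q') :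
    ∃ φ : N' ≅ N, φ.hom ≫ i = i' := by
  obtain ⟨f, hf⟩ := exists_lift_kernel i q hk i' (AVFactor.eq_one_of_affine _)
  obtain ⟨g, hg⟩ := exists_lift_kernel i' q' hk' i (AVFactor.eq_one_of_affine _)
  haveI : Mono i := (Over.forget _).mono_of_mono_map (inferInstanceAs (Mono i.left))
  haveI : Mono i' := (Over.forget _).mono_of_mono_map (inferInstanceAs (Mono i'.left))
  exact ⟨⟨f, g, by rw [← cancel_mono i', Category.assoc, hg, hf, Category.id_comp],
    by rw [← cancel_mono i, Category.assoc, hf, hg, Category.id_comp]⟩, hf⟩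

end

end Groth.Agent.Deform.Chev.Perfect
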