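import Groth.Agent.GrpSchLib.AntiAffineHom
import Mathlib.AlgebraicGeometry.FunctionField
import Mathlib.AlgebraicGeometry.AlgClosed.Basic

/-!
# Rational functions on a group over an algebraically closed field and their values at rational points
-/

universe u

open CategoryTheory CategoryTheory.Limits MonoidalCategory CartesianMonoidalCategory MonObj GrpObj AlgebraicGeometry

attribute [local instance] CategoryTheory.Hom.monoid CategoryTheory.Hom.group
set_option linter.style.haveILetI false
set_option linter.unusedSectionVars false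

namespace Groth.Agent.Deform.Chev

noncomputable section

variable {k : Type u} [Field k]

/-- The rational points. -/
abbrev Pt (G : Over (Spec (CommRingCat.of k))) := 𝟙_ (Over (Spec (CommRingCat.of k))) ⟶ G

variable {G : Over (Spec (CommRingCat.of k))}

/-- The point of the underlying space under a rational point. -/
def pimg (g : Pt G) : G.left := g.left (IsLocalRing.closedPoint k)

/-- Left translation. -/
def tr [GrpObj G] (x : Pt G) : G ⟶ G := (toUnit G ≫ x) * 𝟙 G

theorem comp_tr [GrpObj G] {T : Over (Spec (CommRingCat.of k))} (f : T ⟶ G) (x : Pt G) :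
    f ≫ tr x = (toUnit T ≫ x) * f := by
  rw [tr, MonObj.comp_mul, ← Category.assoc, toUnit_unique (f ≫ toUnit G) (toUnit T), Category.comp_id]

theorem pt_tr [GrpObj G] (g x : Pt G) : g ≫ tr x = x * g := by
  rw [comp_tr, toUnit_unique (toUnit _) (𝟙 _), Category.id_comp]

theorem tr_one [GrpObj G] : tr (1 : Pt G) = 𝟙 G := by
  rw [tr, MonObj.comp_one, _root_.one_mul]

theorem tr_tr [GrpObj G] (x y : Pt G) : tr x ≫ tr y = tr (y * x) := by
  rw [comp_tr, tr, tr, MonObj.comp_mul, _root_.mul_assoc]

instance isIso_tr [GrpObj G] (x : Pt G) : IsIso (tr x) :=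
  ⟨tr x⁻¹, by rw [tr_tr, inv_mul_cancel, tr_one], by rw [tr_tr, mul_inv_cancel, tr_one]⟩

instance isIso_tr_left [GrpObj G] (x : Pt G) : IsIso (tr x).left :=
  ((Over.forget _).mapIso (asIso (tr x))).isIso_hom

theorem pimg_mul [GrpObj G] (x g : Pt G) : pimg (x * g) = (tr x).left (pimg g) := by
  rw [← pt_tr]; rfl

section Values

variable [IsIntegral G.left]

variable (G) in
/-- The function field. -/
abbrev Fld := G.left.functionField

/-- The constants. -/
def kK : k →+* Fld G :=
  ((Scheme.ΓSpecIso (CommRingCat.of k)).inv ≫ G.hom.appTop ≫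
    G.left.presheaf.germ ⊤ (genericPoint G.left) trivial).hom

theorem kK_injective : Function.Injective (kK (G := G)) := RingHom.injective (kK (G := G))

theorem genericPoint_mem {V : G.left.Opens} {x : G.left} (hx : x ∈ V) : genericPoint G.left ∈ V :=
  ((genericPoint_spec G.left).specializes trivial).mem_open V.2 hx

/-- Evaluation of a section at a point. -/
def evS (g : Pt G) {V : G.left.Opens} (hg : pimg g ∈ V) : Γ(G.left, V) →+* k :=
  (G.left.presheaf.germ V (pimg g) hg ≫ Scheme.stalkClosedPointTo g.left).hom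

/-- A rational function is regular at a point with the given value. -/
def HasVal (f : Fld G) (g : Pt G) (c : k) : Prop :=
  ∃ (V : G.left.Opens) (hg : pimg g ∈ V) (s : Γ(G.left, V)),
    G.left.presheaf.germ V (genericPoint G.left) (genericPoint_mem hg) s = f ∧ evS g hg s = c

theorem evS_res (g : Pt G) {V W : G.left.Opens} (h : W ≤ V) (hg : pimg g ∈ W) (s : Γ(G.left, V)) :
    evS g hg (G.left.presheaf.map (homOfLE h).op s) = evS g (h hg) s := by
  simp only [evS, CommRingCat.comp_apply, CommRingCat.hom_comp, RingHom.comp_apply]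
  rw [G.left.presheaf.germ_res_apply]

theorem germ_res_gen {V W : G.left.Opens} (h : W ≤ V) (hW : genericPoint G.left ∈ W) (s : Γ(G.left, V)) :
    G.left.presheaf.germ W (genericPoint G.left) hW (G.left.presheaf.map (homOfLE h).op s) =
      G.left.presheaf.germ V (genericPoint G.left) (h hW) s :=
  G.left.presheaf.germ_res_apply _ _ _ _

theorem sections_eq {V : G.left.Opens} (hV : genericPoint G.left ∈ V) {s t : Γ(G.left, V)}
    (h : G.left.presheaf.germ V (genericPoint G.left) hV s = G.left.presheaf.germ V (genericPoint G.left) hV t) :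
    s = t :=
  germ_injective_of_isIntegral G.left _ hV h

theorem HasVal.unique {f : Fld G} {g : Pt G} {c c' : k} (h : HasVal f g c) (h' : HasVal f g c') : c = c' := by
  obtain ⟨V, hV, s, hs, rfl⟩ := h
  obtain ⟨W, hW, t, ht, rfl⟩ := h'
  have hg : pimg g ∈ V ⊓ W := ⟨hV, hW⟩
  rw [← evS_res g inf_le_left hg s, ← evS_res g inf_le_right hg t]
  refine congrArg _ (sections_eq (genericPoint_mem hg) ?_)
  rw [germ_res_gen, germ_res_gen, hs, ht]

theorem hasVal_op {f f' : Fld G} {g : Pt G} {c c' : k} (h : HasVal f g c) (h' : HasVal f' g c') :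
    HasVal (f + f') g (c + c') ∧ HasVal (f * f') g (c * c') := by
  obtain ⟨V, hV, s, rfl, rfl⟩ := h
  obtain ⟨W, hW, t, rfl, rfl⟩ := h'
  have hg : pimg g ∈ V ⊓ W := ⟨hV, hW⟩
  exact ⟨⟨V ⊓ W, hg, G.left.presheaf.map (homOfLE inf_le_left).op s + G.left.presheaf.map (homOfLE inf_le_right).op t,
      by rw [map_add, germ_res_gen, germ_res_gen], by rw [map_add, evS_res, evS_res]⟩,
    ⟨V ⊓ W, hg, G.left.presheaf.map (homOfLE inf_le_left).op s * G.left.presheaf.map (homOfLE inf_le_right).op t,
      by rw [map_mul, germ_res_gen, germ_res_gen], by rw [map_mul, evS_res, evS_res]⟩⟩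

theorem HasVal.add {f f' : Fld G} {g : Pt G} {c c' : k} (h : HasVal f g c) (h' : HasVal f' g c') :
    HasVal (f + f') g (c + c') := (hasVal_op h h').1

theorem HasVal.mul {f f' : Fld G} {g : Pt G} {c c' : k} (h : HasVal f g c) (h' : HasVal f' g c') :
    HasVal (f * f') g (c * c') := (hasVal_op h h').2

theorem hasVal_kK (g : Pt G) (a : k) : HasVal (kK a) g a := by
  refine ⟨⊤, trivial, G.hom.appTop ((Scheme.ΓSpecIso (CommRingCat.of k)).inv a), rfl, ?_⟩
  have e : (Scheme.ΓSpecIso (CommRingCat.of k)).inv ≫ G.hom.appTop ≫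
      G.left.presheaf.germ ⊤ (g.left (IsLocalRing.closedPoint k)) trivial ≫ Scheme.stalkClosedPointTo g.left = 𝟙 _ := by
    rw [Scheme.germ_stalkClosedPointTo]
    have h1 : G.hom.appTop ≫ g.left.app ⊤ = 𝟙 _ := by
      have := congrArg Scheme.Hom.appTop (show g.left ≫ G.hom = 𝟙 _ from Over.w g)
      rw [Scheme.Hom.comp_appTop] at this
      exact this.trans (Scheme.Hom.id_appTop)
    rw [reassoc_of% h1]
    simp
  exact congr($e a)

theorem HasVal.neg {f : Fld G} {g : Pt G} {c : k} (h : HasVal f g c) : HasVal (-f) g (-c) := by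
  have := (hasVal_kK (G := G) g (-1)).mul h
  simpa using this

theorem HasVal.sub {f f' : Fld G} {g : Pt G} {c c' : k} (h : HasVal f g c) (h' : HasVal f' g c') :
    HasVal (f - f') g (c - c') := by
  simpa [sub_eq_add_neg] using h.add h'.neg

theorem hasVal_zero (g : Pt G) : HasVal (0 : Fld G) g 0 := by simpa using hasVal_kK (G := G) g 0

theorem hasVal_one (g : Pt G) : HasVal (1 : Fld G) g 1 := by simpa using hasVal_kK (G := G) g 1

theorem HasVal.pow {f : Fld G} {g : Pt G} {c : k} (h : HasVal f g c) (n : ℕ) : HasVal (f ^ n) g (c ^ n) := by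
  induction n with
  | zero => simpa using hasVal_one g
  | succ n ih => simpa [pow_succ] using ih.mul h

theorem HasVal.inv {f : Fld G} {g : Pt G} {c : k} (h : HasVal f g c) (hc : c ≠ 0) : HasVal f⁻¹ g c⁻¹ := by
  obtain ⟨V, hV, s, hs, hev⟩ := h
  have hg : pimg g ∈ G.left.basicOpen s := by
    rw [Scheme.mem_basicOpen G.left s _ hV]
    refine IsUnit.of_map (Scheme.stalkClosedPointTo g.left).hom _ ?_
    exact isUnit_iff_ne_zero.mpr (hev ▸ hc)
  have hu : IsUnit (G.left.presheaf.map (homOfLE (G.left.basicOpen_le s)).op s) :=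
    RingedSpace.isUnit_res_basicOpen G.left.toRingedSpace s
  obtain ⟨t, ht⟩ := hu.exists_left_inv
  refine ⟨G.left.basicOpen s, hg, t, ?_, ?_⟩
  · have := congrArg (G.left.presheaf.germ _ (genericPoint G.left) (genericPoint_mem hg)) ht
    rw [map_mul, map_one] at this
    refine eq_inv_of_mul_eq_one_left ?_
    rw [← hs]
    refine Eq.trans ?_ this
    congr 1
    exact (germ_res_gen (G.left.basicOpen_le s) (genericPoint_mem hg) s).symm
  · have := congrArg (evS g hg) ht
    rw [map_mul, map_one] at this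
    refine eq_inv_of_mul_eq_one_left ?_
    rw [← hev]
    refine Eq.trans ?_ this
    congr 1
    exact (evS_res g (G.left.basicOpen_le s) hg s).symm

/-- Every rational function has values on a nonempty open. -/
theorem exists_domain (f : Fld G) : ∃ V : G.left.Opens, (V : Set G.left).Nonempty ∧
    ∀ g : Pt G, pimg g ∈ V → ∃ c, HasVal f g c := by
  obtain ⟨V, hV, s, rfl⟩ := G.left.presheaf.exists_germ_eq f
  exact ⟨V, ⟨_, hV⟩, fun g hg => ⟨_, V, hg, s, rfl, rfl⟩⟩

/-- The values are continuous. -/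
theorem HasVal.ne_nhd {f : Fld G} {g : Pt G} {c c₀ : k} (h : HasVal f g c) (hc : c ≠ c₀) :
    ∃ V : G.left.Opens, pimg g ∈ V ∧ ∀ g' : Pt G, pimg g' ∈ V → ∃ c', HasVal f g' c' ∧ c' ≠ c₀ := by
  obtain ⟨W, hW, s, hs, hev⟩ := h.sub (hasVal_kK g c₀)
  have hg : pimg g ∈ G.left.basicOpen s := by
    rw [Scheme.mem_basicOpen G.left s _ hW]
    exact IsUnit.of_map (Scheme.stalkClosedPointTo g.left).hom _ (isUnit_iff_ne_zero.mpr (hev ▸ sub_ne_zero.mpr hc))
  refine ⟨G.left.basicOpen s, hg, fun g' hg' => ?_⟩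
  have hW' : pimg g' ∈ W := G.left.basicOpen_le s hg'
  have h' : HasVal (f - kK c₀) g' (evS g' hW' s) := ⟨W, hW', s, hs, rfl⟩
  refine ⟨evS g' hW' s + c₀, by simpa using h'.add (hasVal_kK g' c₀), ?_⟩
  have hu : IsUnit (evS g' hW' s) :=
    ((Scheme.mem_basicOpen G.left s _ hW').mp hg').map (Scheme.stalkClosedPointTo g'.left).hom
  intro he
  exact hu.ne_zero (by simpa using he)

variable [IsAlgClosed k] [LocallyOfFiniteType G.hom]

theorem isClosed_pimg (g : Pt G) : IsClosed ({pimg g} : Set G.left) :=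
  ((pointEquivClosedPoint G.hom) ⟨g.left, Over.w g⟩).2

omit [IsIntegral G.left] in
theorem pimg_injective : Function.Injective (pimg : Pt G → G.left) := fun g g' h =>
  Over.OverMorphism.ext (ext_of_apply_closedPoint_eq G.hom (Over.w g) (Over.w g') h)

omit [IsIntegral G.left] in
theorem exists_pimg_eq {x : G.left} (hx : IsClosed ({x} : Set G.left)) : ∃ g : Pt G, pimg g = x :=
  ⟨Over.homMk _ ((pointEquivClosedPoint G.hom).symm ⟨x, hx⟩).2,
    congrArg Subtype.val ((pointEquivClosedPoint G.hom).apply_symm_apply ⟨x, hx⟩)⟩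

omit [IsIntegral G.left] in
/-- Rational points are dense. -/
theorem exists_pt {S : Set G.left} (hne : S.Nonempty) (hS : IsLocallyClosed S) : ∃ g : Pt G, pimg g ∈ S := by
  haveI : JacobsonSpace G.left := LocallyOfFiniteType.jacobsonSpace G.hom
  obtain ⟨x, hx, hxc⟩ := nonempty_inter_closedPoints hne hS
  obtain ⟨g, rfl⟩ := exists_pimg_eq hxc
  exact ⟨g, hx⟩

omit [IsIntegral G.left] in
theorem exists_pt_open {V : G.left.Opens} (hne : (V : Set G.left).Nonempty) : ∃ g : Pt G, pimg g ∈ V :=
  exists_pt hne V.2.isLocallyClosed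

/-- Nonempty opens meet. -/
theorem nonempty_inf {V W : G.left.Opens} (hV : (V : Set G.left).Nonempty) (hW : (W : Set G.left).Nonempty) :
    ((V ⊓ W : G.left.Opens) : Set G.left).Nonempty :=
  ⟨genericPoint G.left, genericPoint_mem hV.choose_spec, genericPoint_mem hW.choose_spec⟩

/-- A rational function vanishing on a nonempty open vanishes. -/
theorem eq_zero_of_forall {f : Fld G} {V : G.left.Opens} (hne : (V : Set G.left).Nonempty)
    (h : ∀ g : Pt G, pimg g ∈ V → HasVal f g 0) : f = 0 := by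
  obtain ⟨W, hW, s, rfl⟩ := G.left.presheaf.exists_germ_eq f
  have hg : genericPoint G.left ∈ V ⊓ W := ⟨genericPoint_mem hne.choose_spec, hW⟩
  let s' := G.left.presheaf.map (homOfLE (inf_le_right : V ⊓ W ≤ W)).op s
  suffices hs' : s' = 0 by
    rw [← germ_res_gen inf_le_right hg s]
    show G.left.presheaf.germ _ _ hg s' = 0
    rw [hs', map_zero]
  refine (basicOpen_eq_bot_iff s').mp ?_
  by_contra hbo
  obtain ⟨g, hgs⟩ := exists_pt_open (G := G) (V := G.left.basicOpen s')
    (Set.nonempty_iff_ne_empty.mpr fun e => hbo (TopologicalSpace.Opens.ext e))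
  have hgVW : pimg g ∈ V ⊓ W := G.left.basicOpen_le s' hgs
  have hu : IsUnit (evS g hgVW s') :=
    ((Scheme.mem_basicOpen G.left s' _ hgVW).mp hgs).map (Scheme.stalkClosedPointTo g.left).hom
  have h1 : HasVal (G.left.presheaf.germ W (genericPoint G.left) hW s) g (evS g hgVW s') :=
    ⟨V ⊓ W, hgVW, s', germ_res_gen _ _ _, rfl⟩
  exact hu.ne_zero (h1.unique (h g hgVW.1))

/-- Rational functions with the same values on a nonempty open are equal. -/
theorem eq_of_forall {f f' : Fld G} {V : G.left.Opens} (hne : (V : Set G.left).Nonempty)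
    (h : ∀ g : Pt G, pimg g ∈ V → ∃ c, HasVal f g c ∧ HasVal f' g c) : f = f' := by
  refine sub_eq_zero.mp (eq_zero_of_forall hne fun g hg => ?_)
  obtain ⟨c, h1, h2⟩ := h g hg
  simpa using h1.sub h2

end Values

section Translate

variable [IsIntegral G.left]

/-- The generic point as a point with values in the function field. -/
def gen : Over.mk (G.left.fromSpecStalk (genericPoint G.left) ≫ G.hom) ⟶ G :=
  Over.homMk (G.left.fromSpecStalk (genericPoint G.left)) rfl

/-- A point with values in a field lying over the generic point gives an embedding of the function field. -/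
theorem exists_hom {L : Type u} [Field L] (ζ : Spec (CommRingCat.of L) ⟶ G.left)
    (h : ζ (IsLocalRing.closedPoint L) = genericPoint G.left) :
    ∃ φ : Fld G ⟶ CommRingCat.of L, Spec.map φ ≫ G.left.fromSpecStalk (genericPoint G.left) = ζ := by
  refine ⟨G.left.presheaf.stalkSpecializes (specializes_of_eq h) ≫ Scheme.stalkClosedPointTo ζ, ?_⟩
  rw [Spec.map_comp, Category.assoc, Scheme.SpecMap_stalkSpecializes_fromSpecStalk,
    Scheme.Spec_stalkClosedPointTo_fromSpecStalk]

/-- The embedding on germs of sections. -/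
theorem hom_germ {L : Type u} [Field L] {ζ : Spec (CommRingCat.of L) ⟶ G.left}
    {φ : Fld G ⟶ CommRingCat.of L} (e : Spec.map φ ≫ G.left.fromSpecStalk (genericPoint G.left) = ζ)
    (V : G.left.Opens) (hV : genericPoint G.left ∈ V) (hV' : ζ (IsLocalRing.closedPoint L) ∈ V) :
    G.left.presheaf.germ V _ hV ≫ φ = G.left.presheaf.germ V _ hV' ≫ Scheme.stalkClosedPointTo ζ := by
  subst e
  haveI : IsLocalHom φ.hom := ⟨fun a ha => isUnit_iff_ne_zero.mpr fun h0 => by simp [h0] at ha⟩
  exact (Scheme.germ_stalkClosedPointTo_Spec_fromSpecStalk φ V hV').symm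

omit [IsIntegral G.left] in
theorem germ_comp {X Y : Scheme.{u}} {R : CommRingCat.{u}} [IsLocalRing R] (a : Spec R ⟶ X)
    (b : X ⟶ Y) (V : Y.Opens) (hV : b (a (IsLocalRing.closedPoint R)) ∈ V) :
    Y.presheaf.germ V _ hV ≫ Scheme.stalkClosedPointTo (a ≫ b) =
      b.app V ≫ X.presheaf.germ (b ⁻¹ᵁ V) _ hV ≫ Scheme.stalkClosedPointTo a := by
  rw [Scheme.stalkClosedPointTo_comp]
  exact Scheme.Hom.germ_stalkMap_assoc b V _ hV _

omit [IsIntegral G.left] in
theorem germ_fromSpecStalk {X : Scheme.{u}} (x : X) (V : X.Opens)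
    (hV : X.fromSpecStalk x (IsLocalRing.closedPoint (X.presheaf.stalk x)) ∈ V) (hx : x ∈ V) :
    X.presheaf.germ V _ hV ≫ Scheme.stalkClosedPointTo (X.fromSpecStalk x) = X.presheaf.germ V x hx := by
  rw [Scheme.stalkClosedPointTo_fromSpecStalk, TopCat.Presheaf.stalkCongr_hom]
  exact TopCat.Presheaf.germ_stalkSpecializes _ _ _

variable [GrpObj G]

theorem tr_generic (x : Pt G) : (tr x).left (genericPoint G.left) = genericPoint G.left :=
  genericPoint_eq_of_isOpenImmersion (tr x).left

theorem exists_tau (x : Pt G) : ∃ φ : Fld G ⟶ Fld G,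
    Spec.map φ ≫ G.left.fromSpecStalk (genericPoint G.left) =
      G.left.fromSpecStalk (genericPoint G.left) ≫ (tr x).left :=
  exists_hom (L := Fld G) _ (by
    rw [Scheme.Hom.comp_apply]
    exact (congrArg (tr x).left Scheme.fromSpecStalk_closedPoint).trans (tr_generic x))

/-- Translation of rational functions. -/
def tau (x : Pt G) : Fld G ⟶ Fld G := (exists_tau x).choose

theorem tau_spec (x : Pt G) : Spec.map (tau x) ≫ G.left.fromSpecStalk (genericPoint G.left) =
    G.left.fromSpecStalk (genericPoint G.left) ≫ (tr x).left := (exists_tau x).choose_spec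

theorem tau_germ (x : Pt G) {V : G.left.Opens} (hV : genericPoint G.left ∈ V) (s : Γ(G.left, V)) :
    tau x (G.left.presheaf.germ V _ hV s) = G.left.presheaf.germ ((tr x).left ⁻¹ᵁ V) (genericPoint G.left)
      (show (tr x).left (genericPoint G.left) ∈ V by rwa [tr_generic]) ((tr x).left.app V s) := by
  have hV' : (G.left.fromSpecStalk (genericPoint G.left) ≫ (tr x).left) (IsLocalRing.closedPoint (Fld G)) ∈ V := by
    exact Eq.mpr (congrArg (· ∈ V) ((Scheme.Hom.comp_apply (G.left.fromSpecStalk (genericPoint G.left)) (tr x).left _).trans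
      ((congrArg (tr x).left Scheme.fromSpecStalk_closedPoint).trans (tr_generic x)))) hV
  have h := hom_germ (L := Fld G) (tau_spec x) V hV hV'
  refine (congr($h s)).trans ?_
  refine (congr($(germ_comp (R := G.left.presheaf.stalk (genericPoint G.left)) (G.left.fromSpecStalk (genericPoint G.left)) (tr x).left V hV') s)).trans ?_
  exact congr($(germ_fromSpecStalk (genericPoint G.left) ((tr x).left ⁻¹ᵁ V) hV'
    (show (tr x).left (genericPoint G.left) ∈ V by rwa [tr_generic])) ((tr x).left.app V s))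

/-- Values of translates. -/
theorem HasVal.tau {f : Fld G} {x g : Pt G} {c : k} (h : HasVal f (x * g) c) : HasVal (tau x f) g c := by
  obtain ⟨V, hV, s, rfl, rfl⟩ := h
  have hg : pimg g ∈ (tr x).left ⁻¹ᵁ V := by
    show (tr x).left (pimg g) ∈ V
    rwa [← pimg_mul]
  refine ⟨(tr x).left ⁻¹ᵁ V, hg, (tr x).left.app V s, (tau_germ x _ s).symm, ?_⟩
  have e : (x * g).left = g.left ≫ (tr x).left := by rw [← pt_tr]; rfl
  show (G.left.presheaf.germ _ _ hg ≫ Scheme.stalkClosedPointTo g.left) ((tr x).left.app V s) =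
    (G.left.presheaf.germ V _ hV ≫ Scheme.stalkClosedPointTo (x * g).left) s
  have key : ∀ {ζ : Spec (CommRingCat.of k) ⟶ G.left}, ζ = g.left ≫ (tr x).left →
      ∀ (hζ : ζ (IsLocalRing.closedPoint k) ∈ V),
      (G.left.presheaf.germ _ _ hg ≫ Scheme.stalkClosedPointTo g.left) ((tr x).left.app V s) =
        (G.left.presheaf.germ V _ hζ ≫ Scheme.stalkClosedPointTo ζ) s := by
    rintro ζ rfl hζ
    exact (congr($(germ_comp (R := CommRingCat.of k) g.left (tr x).left V hζ) s)).symm
  exact key e hV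

variable [IsAlgClosed k] [LocallyOfFiniteType G.hom]

theorem nonempty_tr (x : Pt G) {V : G.left.Opens} (hV : (V : Set G.left).Nonempty) :
    (((tr x).left ⁻¹ᵁ V : G.left.Opens) : Set G.left).Nonempty :=
  ⟨genericPoint G.left, show (tr x).left (genericPoint G.left) ∈ V by
    rw [tr_generic]; exact genericPoint_mem hV.choose_spec⟩

/-- Both `f` at `x * g` and the translate at `g` have values on a nonempty open of `g`. -/
theorem exists_domain_tau (f : Fld G) (x : Pt G) : ∃ V : G.left.Opens, (V : Set G.left).Nonempty ∧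
    ∀ g : Pt G, pimg g ∈ V → ∃ c, HasVal f (x * g) c ∧ HasVal (Chev.tau x f) g c := by
  obtain ⟨V, hV, h⟩ := exists_domain f
  refine ⟨(tr x).left ⁻¹ᵁ V, nonempty_tr x hV, fun g hg => ?_⟩
  obtain ⟨c, hc⟩ := h (x * g) (by rw [pimg_mul]; exact hg)
  exact ⟨c, hc, hc.tau⟩

theorem tau_mul (x y : Pt G) (f : Fld G) : Chev.tau x (Chev.tau y f) = Chev.tau (y * x) f := by
  obtain ⟨V, hV, h⟩ := exists_domain_tau f (y * x)
  refine eq_of_forall hV fun g hg => ?_
  obtain ⟨c, hc, hc'⟩ := h g hg
  rw [_root_.mul_assoc] at hc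
  exact ⟨c, hc.tau.tau, hc'⟩

theorem tau_one (f : Fld G) : Chev.tau (1 : Pt G) f = f := by
  obtain ⟨V, hV, h⟩ := exists_domain_tau f 1
  refine eq_of_forall hV fun g hg => ?_
  obtain ⟨c, hc, hc'⟩ := h g hg
  rw [_root_.one_mul] at hc
  exact ⟨c, hc', hc⟩

theorem tau_kK (x : Pt G) (a : k) : Chev.tau x (kK a) = kK a :=
  eq_of_forall (V := ⊤) ⟨genericPoint G.left, trivial⟩ fun g _ =>
    ⟨a, (hasVal_kK (x * g) a).tau, hasVal_kK g a⟩

theorem tau_inv (x : Pt G) (f : Fld G) : Chev.tau x⁻¹ (Chev.tau x f) = f := by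
  rw [tau_mul, mul_inv_cancel, tau_one]

end Translate

end

end Groth.Agent.Deform.Chev
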