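import Groth.Agent.Deform.Chev.AlgClosed
import Groth.Agent.Deform.AntiAffineParts
import Groth.Agent.Deform.Extension
import Groth.Agent.VarDim.Fibre

/-!
# Power maps of anti-affine groups are isogenies
-/

universe u

open CategoryTheory CategoryTheory.Limits MonoidalCategory CartesianMonoidalCategory MonObj GrpObj AlgebraicGeometry

attribute [local instance] CategoryTheory.Hom.monoid CategoryTheory.Hom.group
set_option linter.style.haveILetI false
set_option linter.unusedSectionVars false

namespace Groth.Agent.Deform.Chev.PowIsogeny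

noncomputable section

variable {k : Type u} [Field k] [IsAlgClosed k]

/-- A surjective endomorphism of a connected group is finite. -/
theorem isFinite_of_surjective (G : Over (Spec (CommRingCat.of k))) [GrpObj G] [Smooth G.hom] [QuasiCompact G.hom]
    [ConnectedSpace G.left] (u : G ⟶ G) [IsMonHom u] [Surjective u.left] : IsFinite u.left := by
  haveI := GrpSchLib.AntiAffine.isSeparated_grp G
  haveI : QuasiCompact u.left := quasiCompact_of_grp u
  haveI : LocallyOfFiniteType (u.left ≫ G.hom) := by rw [Over.w u]; infer_instance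
  haveI : LocallyOfFiniteType u.left := locallyOfFiniteType_of_comp u.left G.hom
  haveI : IsSeparated (u.left ≫ G.hom) := by rw [Over.w u]; infer_instance
  haveI : IsSeparated u.left := IsSeparated.of_comp u.left G.hom
  haveI : IsIntegral G.left := GrpSchLib.Kunneth.isIntegral_grp G
  haveI : JacobsonSpace G.left := LocallyOfFiniteType.jacobsonSpace G.hom
  have h1 : ∀ z, u.left z = genericPoint G.left → z = genericPoint G.left := fun z hz =>
    (VarDim.eq_of_specializes_of_deg_le G.hom (genericPoint_specializes z)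
      ((congrArg (VarDim.deg G.hom) hz).symm.le.trans (VarDim.deg_map_le u.left G.hom (Over.w u) z))).symm
  obtain ⟨z, hz⟩ := u.left.surjective (genericPoint G.left)
  have hη : u.left (genericPoint G.left) = genericPoint G.left := by
    rw [h1 z hz] at hz; exact hz
  have h2 : u.left.QuasiFiniteAt (genericPoint G.left) := by
    rw [Scheme.Hom.quasiFiniteAt_iff_isOpen_singleton_asFiber]
    haveI : Subsingleton ↥(u.left ⁻¹' {u.left (genericPoint G.left)}) := by
      refine ⟨fun a b => Subtype.ext ?_⟩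
      rw [h1 a (a.2.trans hη), h1 b (b.2.trans hη)]
    haveI : Subsingleton (u.left.fiber (u.left (genericPoint G.left))) :=
      (u.left.fiberHomeo (u.left (genericPoint G.left))).toEquiv.subsingleton
    exact isOpen_discrete _
  haveI : LocallyQuasiFinite u.left := by
    obtain ⟨g₀, hg₀, h₀⟩ := nonempty_inter_closedPoints (Z := (u.left.quasiFiniteLocus : Set G.left))
      ⟨_, h2⟩ u.left.quasiFiniteLocus.isOpen.isLocallyClosed
    rw [← Scheme.Hom.quasiFiniteLocus_eq_top_iff, eq_top_iff]
    intro x _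
    by_contra hx
    obtain ⟨g, hg1, hg⟩ := nonempty_inter_closedPoints
      (Z := (u.left.quasiFiniteLocus : Set G.left)ᶜ) ⟨x, hx⟩
      u.left.quasiFiniteLocus.isOpen.isClosed_compl.isLocallyClosed
    refine hg1 ?_
    obtain ⟨a, ha⟩ := GrpSchLib.HomFinite.exists_trans (G := G) g₀ g h₀ hg
    rw [SetLike.mem_coe, Scheme.Hom.mem_quasiFiniteLocus] at hg₀ ⊢
    haveI : IsIso (GrpSchLib.HomFinite.trans a).hom.left := inferInstance
    rw [← ha, ← Scheme.Hom.quasiFiniteAt_comp_iff_of_isOpenImmersion, GrpSchLib.HomFinite.trans_comm u a,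
      Scheme.Hom.quasiFiniteAt_comp_iff]
    exact hg₀
  exact GrpSchLib.HomFinite.isFinite u

/-- Powers of an anti-affine group are surjective. -/
theorem surjective_pow (M : Over (Spec (CommRingCat.of k))) [GrpObj M] [Smooth M.hom] [QuasiCompact M.hom]
    [ConnectedSpace M.left] (hM : Function.Bijective M.hom.appTop) (n : ℕ) (hn : 0 < n) :
    Surjective (𝟙 M ^ n : M ⟶ M).left ∧ IsMonHom (𝟙 M ^ n : M ⟶ M) := by
  haveI : IsMonHom (𝟙 M ^ n : M ⟶ M) := GrpSchLib.AntiAffine.isMonHom_of_one hM _ (by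
    rw [MonObj.comp_pow, Category.comp_id, MonObj.one_eq_one, one_pow])
  refine ⟨?_, inferInstance⟩
  haveI : IsCommMonObj M := Deform.Extension.isCommMonObj_of fun T x y => by
    have h := GrpSchLib.AntiAffine.commute hM (𝟙 M) (Category.comp_id _) x y
    rwa [Category.comp_id] at h
  obtain ⟨I, iI, p, i, hp, hi, hpi, hic, hpf, hps, hIl, hIq⟩ := GrpSchLib.ImageFactor.exists_image (𝟙 M ^ n : M ⟶ M)
  letI := iI
  haveI := hp; haveI := hi; haveI := hic; haveI := hps
  have hnorm : AlgGrp.IsNormalHom i := fun T g m => ⟨m, (by rw [mul_comm g, mul_inv_cancel_right])⟩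
  obtain ⟨R, iR, r, hr, hrf, hrs, hRl, hRq, hk⟩ := exists_quotient i hnorm
  letI := iR
  haveI := hr; haveI := hrf; haveI := hrs; haveI := hRl; haveI := hRq
  haveI : Smooth R.hom := GrpSchLib.smooth_of_quotient r
  haveI : ConnectedSpace R.left := r.left.surjective.connectedSpace r.left.continuous
  haveI : QuasiCompact r.left := quasiCompact_of_grp r
  haveI : IsLocallyNoetherian R.left := LocallyOfFiniteType.isLocallyNoetherian R.hom
  haveI : LocallyOfFiniteType (r.left ≫ R.hom) := by rw [Over.w r]; infer_instance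
  haveI : LocallyOfFiniteType r.left := locallyOfFiniteType_of_comp r.left R.hom
  haveI : LocallyOfFinitePresentation r.left := inferInstance
  haveI : Epi r := QuotDescent.epi_of_fppf r
  haveI : Epi r.left := Flat.epi_of_flat_of_surjective r.left
  have hR : Function.Bijective R.hom.appTop := by
    have hinj := GrpSchLib.AntiAffine.appTop_injective_of_epi r.left
    have e : ∀ c, r.left.appTop (R.hom.appTop c) = M.hom.appTop c := fun c => by
      rw [← Over.w r, Scheme.Hom.comp_appTop]; rfl
    refine ⟨fun a b hab => hM.1 (by rw [← e, ← e, hab]), fun s => ?_⟩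
    obtain ⟨c, hc⟩ := hM.2 (r.left.appTop s)
    exact ⟨c, hinj ((e c).trans hc)⟩
  haveI : IsCommMonObj R := Deform.Extension.isCommMonObj_of fun T x y => by
    have h := GrpSchLib.AntiAffine.commute hR (𝟙 R) (Category.comp_id _) x y
    rwa [Category.comp_id] at h
  have hRn : (𝟙 R ^ n : R ⟶ R) = 1 := by
    rw [← cancel_epi r, MonObj.comp_pow, Category.comp_id, MonObj.comp_one]
    calc r ^ n = (𝟙 M ^ n : M ⟶ M) ≫ r := by rw [MonObj.pow_comp, Category.id_comp]
      _ = 1 := by rw [← hpi, Category.assoc, show i ≫ r = 1 from hk.w, MonObj.comp_one]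
  obtain ⟨N, iN, i', Q, iQ, q, hi', hi'c, hNs, hNq, hNc, hNa, hq, hqf, hqs, hk', hQp, hQs, hQc⟩ := exists_comm R
  letI := iN; letI := iQ
  haveI := hi'; haveI := hi'c; haveI := hNa; haveI := hq; haveI := hqs; haveI := hQp; haveI := hQs; haveI := hQc
  haveI : GeometricallyIntegral Q.hom := AVFactor.geometricallyIntegral_smooth Q
  have hQn : (𝟙 Q ^ n : Q ⟶ Q) = 1 := by
    haveI := hqf
    haveI : QuasiCompact q.left := quasiCompact_of_grp q
    haveI : IsLocallyNoetherian Q.left := LocallyOfFiniteType.isLocallyNoetherian Q.hom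
    haveI : LocallyOfFiniteType (q.left ≫ Q.hom) := by rw [Over.w q]; infer_instance
    haveI : LocallyOfFiniteType q.left := locallyOfFiniteType_of_comp q.left Q.hom
    haveI : LocallyOfFinitePresentation q.left := inferInstance
    haveI : Epi q := QuotDescent.epi_of_fppf q
    rw [← cancel_epi q, MonObj.comp_pow, Category.comp_id, MonObj.comp_one]
    calc q ^ n = (𝟙 R ^ n : R ⟶ R) ≫ q := by rw [MonObj.pow_comp, Category.id_comp]
      _ = 1 := by rw [hRn, MonObj.one_comp]
  have hsub : Subsingleton Q.left := by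
    have h := AVMulN.surjective_pow (A := Q) n hn
    rw [hQn] at h
    refine ⟨fun a b => ?_⟩
    obtain ⟨a', ha⟩ := h.surj a
    obtain ⟨b', hb⟩ := h.surj b
    rw [← ha, ← hb, Hom.one_def, Over.comp_left, Scheme.Hom.comp_apply, Scheme.Hom.comp_apply]
    haveI : Subsingleton (𝟙_ (Over (Spec (CommRingCat.of k)))).left :=
      inferInstanceAs (Subsingleton (PrimeSpectrum k))
    exact congrArg _ (Subsingleton.elim _ _)
  haveI : IsAffine Q.left := by
    haveI : LocallyQuasiFinite Q.hom := LocallyQuasiFinite.of_injective fun a b _ => Subsingleton.elim a b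
    haveI : IsFinite Q.hom := IsFinite.of_isProper_of_locallyQuasiFinite Q.hom
    exact isAffine_of_isAffineHom Q.hom
  haveI : IsAffine R.left := isAffine_of_ker q i' hk'
  have hr1 : r = 1 := AntiAffineParts.eq_one_of_isAffine hM r (IsMonHom.one_hom r)
  obtain ⟨s, hs⟩ := exists_lift_kernel i r hk (𝟙 M) (by rw [Category.id_comp, hr1])
  haveI : Surjective i.left := ⟨fun x => ⟨s.left x, by rw [← Scheme.Hom.comp_apply, ← Over.comp_left, hs]; rfl⟩⟩
  rw [← hpi, Over.comp_left]
  infer_instance

/-- Positive powers of an anti-affine group are isogenies. -/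
theorem isogeny_pow (M : Over (Spec (CommRingCat.of k))) [GrpObj M] [Smooth M.hom] [QuasiCompact M.hom]
    [ConnectedSpace M.left] (hM : Function.Bijective M.hom.appTop) (n : ℕ) (hn : 0 < n) :
    Surjective (𝟙 M ^ n : M ⟶ M).left ∧ IsFinite (𝟙 M ^ n : M ⟶ M).left := by
  obtain ⟨h1, h2⟩ := surjective_pow M hM n hn
  exact ⟨h1, isFinite_of_surjective M _⟩

end

end Groth.Agent.Deform.Chev.PowIsogeny

namespace Groth.Agent.Deform.Chev.PowIsogeny

noncomputable section

variable {k : Type u} [Field k]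

/-- Positive powers of an anti-affine group are isogenies, over any field. -/
theorem isogeny_pow_any (M : Over (Spec (CommRingCat.of k))) [GrpObj M] [Smooth M.hom] [QuasiCompact M.hom]
    (hM : Function.Bijective M.hom.appTop) (n : ℕ) (hn : 0 < n) :
    Surjective (𝟙 M ^ n : M ⟶ M).left ∧ IsFinite (𝟙 M ^ n : M ⟶ M).left := by
  let σ := Spec.map (CommRingCat.ofHom (algebraMap k (AlgebraicClosure k)))
  obtain ⟨h1, h2, h3⟩ := GrpSchLib.AntiAffine.bc_hyp hM σ
  haveI := h1; haveI := h2
  haveI : Smooth (Red.bc σ M).hom := inferInstanceAs (Smooth (pullback.snd M.hom σ))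
  haveI : ConnectedSpace (Red.bc σ M).left := GrpSchLib.AntiAffine.connectedSpace_of_bijective h3
  obtain ⟨hs, hf⟩ := isogeny_pow (Red.bc σ M) h3 n hn
  rw [← Deform.Extension.pow_bc] at hs hf
  have sq := Deform.Extension.isPullback_map_left σ (𝟙 M ^ n : M ⟶ M)
  haveI : Surjective σ := inferInstance
  haveI : Flat σ := inferInstance
  have hcov : (@Surjective ⊓ @Flat ⊓ @QuasiCompact : MorphismProperty Scheme.{u}) (pullback.fst M.hom σ) :=
    ⟨⟨inferInstance, inferInstance⟩, inferInstance⟩
  refine ⟨⟨fun x => ?_⟩, ?_⟩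
  · haveI := hs
    obtain ⟨y, rfl⟩ := (pullback.fst M.hom σ).surjective x
    obtain ⟨z, rfl⟩ := ((Over.pullback σ).map (𝟙 M ^ n : M ⟶ M)).left.surjective y
    exact ⟨pullback.fst M.hom σ z, by rw [← Scheme.Hom.comp_apply, ← sq.w, Scheme.Hom.comp_apply]⟩
  · haveI : MorphismProperty.DescendsAlong (@IsFinite : MorphismProperty Scheme.{u})
        (@Surjective ⊓ @Flat ⊓ @QuasiCompact) := EtFound.fpqc_isFinite
    exact MorphismProperty.of_isPullback_of_descendsAlong sq hcov hf

/-- Nonzero powers of an anti-affine group are isogenies. -/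
theorem isogeny_zpow (M : Over (Spec (CommRingCat.of k))) [GrpObj M] [Smooth M.hom] [QuasiCompact M.hom]
    (hM : Function.Bijective M.hom.appTop) (n : ℤ) (hn : n ≠ 0) :
    Surjective (𝟙 M ^ n : M ⟶ M).left ∧ IsFinite (𝟙 M ^ n : M ⟶ M).left := by
  obtain ⟨m, rfl | rfl⟩ := n.eq_nat_or_neg
  · rw [zpow_natCast]
    exact isogeny_pow_any M hM m (by omega)
  · obtain ⟨hs, hf⟩ := isogeny_pow_any M hM m (by omega)
    rw [zpow_neg, zpow_natCast, show ((𝟙 M ^ m : M ⟶ M)⁻¹) = (𝟙 M ^ m : M ⟶ M) ≫ (𝟙 M)⁻¹ by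
      rw [GrpObj.comp_inv, Category.comp_id], Over.comp_left]
    haveI : IsIso ((𝟙 M)⁻¹ : M ⟶ M) := ⟨(𝟙 M)⁻¹, by rw [GrpObj.comp_inv, Category.comp_id, _root_.inv_inv],
      by rw [GrpObj.comp_inv, Category.comp_id, _root_.inv_inv]⟩
    haveI : IsIso ((𝟙 M)⁻¹ : M ⟶ M).left :=
      inferInstanceAs (IsIso ((Over.forget _).map ((𝟙 M)⁻¹ : M ⟶ M)))
    exact ⟨inferInstance, inferInstance⟩

end

end Groth.Agent.Deform.Chev.PowIsogeny
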