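import Groth.Agent.Deform.Chev.AnyField
import Groth.Agent.Deform.Chev.Points
import Groth.Agent.GrpSchLib.RedSubgroup
import Groth.Agent.H23.CubeField
import Groth.Agent.S8053
import Groth.Agent.S7996

/-!
# Quasi-complements of abelian subvarieties
-/

universe u

open CategoryTheory CategoryTheory.Limits MonoidalCategory CartesianMonoidalCategory MonObj GrpObj AlgebraicGeometry

attribute [local instance] CategoryTheory.Hom.monoid CategoryTheory.Hom.group
set_option linter.style.haveILetI false
set_option linter.unusedSectionVars false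

namespace Groth.Agent.Deform.Chev.QuasiCompl

noncomputable section

variable {k : Type u} [Field k] {G A : Over (Spec (CommRingCat.of k))} [GrpObj G] [GrpObj A]

theorem bijective_appTop (A : Over (Spec (CommRingCat.of k))) [GrpObj A] [Smooth A.hom] [IsProper A.hom]
    [ConnectedSpace A.left] : Function.Bijective A.hom.appTop := by
  haveI : GeometricallyIntegral A.hom := AVFactor.geometricallyIntegral_smooth A
  haveI : GeometricallyConnected A.hom := H23.GeomConn.of_point k A.hom η[A].left (Over.w η[A])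
  exact H23.CubeField.bijective_appTop_of_connected A

/-- An abelian subvariety commutes with everything. -/
theorem commute [Smooth G.hom] [QuasiCompact G.hom] [ConnectedSpace G.left] [Smooth A.hom] [IsProper A.hom]
    [ConnectedSpace A.left] (i : A ⟶ G) [IsMonHom i] {T : Over (Spec (CommRingCat.of k))} (a : T ⟶ A) (g : T ⟶ G) :
    (a ≫ i) * g = g * (a ≫ i) := by
  have h := S7996.result k A G ((GrpSchLib.AntiAffine.bijective_appTop_iff A.hom).mpr (bijective_appTop A)) i
    T a T (𝟙 T) g
  simpa only [Category.id_comp] using h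

variable {N : Over (Spec (CommRingCat.of k))} [GrpObj N]

theorem isMonHom_sum [Smooth G.hom] [QuasiCompact G.hom] [ConnectedSpace G.left] [Smooth A.hom] [IsProper A.hom]
    [ConnectedSpace A.left] (i : A ⟶ G) [IsMonHom i] (j : N ⟶ G) [IsMonHom j] :
    IsMonHom ((i ⊗ₘ j) ≫ μ[G]) := by
  have e : (i ⊗ₘ j) ≫ μ[G] = (fst A N ≫ i) * (snd A N ≫ j) := by
    rw [Hom.mul_def, ← lift_map, lift_fst_snd, Category.id_comp]
  rw [e]
  refine WittEndoLib.isMonHom_of_mul _ fun T x y => ?_
  simp only [MonObj.comp_mul, ← Category.assoc]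
  simp only [MonObj.mul_comp]
  rw [_root_.mul_assoc, ← _root_.mul_assoc (((y ≫ fst A N) ≫ i)), commute i (y ≫ fst A N) ((x ≫ snd A N) ≫ j)]
  simp only [_root_.mul_assoc]

/-- A surjective sum map of a complement is flat. -/
theorem flat_sum [Smooth G.hom] [QuasiCompact G.hom] [ConnectedSpace G.left] [Smooth A.hom] [IsProper A.hom]
    [ConnectedSpace A.left] [LocallyOfFiniteType N.hom] [QuasiCompact N.hom] (i : A ⟶ G) [IsMonHom i]
    (j : N ⟶ G) [IsMonHom j] [Surjective ((i ⊗ₘ j) ≫ μ[G]).left] : Flat ((i ⊗ₘ j) ≫ μ[G]).left := by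
  haveI := isMonHom_sum i j
  haveI : IsReduced G.left := GrpSchLib.isReduced_of_smooth_field G.hom
  haveI : LocallyOfFiniteType (A ⊗ N).hom := inferInstanceAs (LocallyOfFiniteType (pullback.fst A.hom N.hom ≫ A.hom))
  haveI : QuasiCompact (A ⊗ N).hom := inferInstanceAs (QuasiCompact (pullback.fst A.hom N.hom ≫ A.hom))
  haveI := GrpSchLib.AntiAffine.isSeparated_grp G
  haveI := quasiCompact_of_grp ((i ⊗ₘ j) ≫ μ[G])
  exact GrpSchLib.flat_of_surjective_hom _

/-- The kernel of a quasi-retraction is a quasi-complement. -/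
theorem exists_complement [Smooth G.hom] [QuasiCompact G.hom] [ConnectedSpace G.left] [Smooth A.hom]
    [IsProper A.hom] [ConnectedSpace A.left] (i : A ⟶ G) [IsMonHom i] [IsClosedImmersion i.left] :
    ∃ (N : Over (Spec (CommRingCat.of k))) (_ : GrpObj N) (j : N ⟶ G), IsMonHom j ∧ IsClosedImmersion j.left ∧
      AlgGrp.IsNormalHom j ∧ Surjective ((i ⊗ₘ j) ≫ μ[G]).left ∧
      IsFinite (pullback.fst i.left j.left ≫ A.hom) := by
  obtain ⟨φ₀, n, hn0, hφ₀⟩ := S8053.result k G A i
  let φ : G ⟶ A := (toUnit G ≫ η[G] ≫ φ₀)⁻¹ * φ₀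
  have hφ1 : η[G] ≫ φ = 1 := by
    simp only [φ, MonObj.comp_mul, GrpObj.comp_inv, ← Category.assoc]
    rw [toUnit_unique (η[G] ≫ toUnit G) (𝟙 _), Category.id_comp, inv_mul_cancel]
  haveI : IsMonHom φ := AVFactor.isMonHom_of_one φ hφ1
  have hiφ : i ≫ φ = 𝟙 A ^ n := by
    have h := hφ₀ A 1 (𝟙 A)
    rw [_root_.one_mul, Category.id_comp] at h
    simp only [φ, MonObj.comp_mul, GrpObj.comp_inv, ← Category.assoc]
    rw [h, toUnit_unique (i ≫ toUnit G) (toUnit A)]
    have h1 : (1 : A ⟶ G) = toUnit A ≫ η[G] := Hom.one_def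
    rw [h1, inv_mul_cancel_left]
  haveI : GeometricallyIntegral A.hom := AVFactor.geometricallyIntegral_smooth A
  haveI hpows := AVMulN.surjective_pow (A := A) n hn0
  haveI hpowf := AVMulN.isFinite_pow (A := A) n hn0
  haveI := GrpSchLib.AntiAffine.isSeparated_grp A
  obtain ⟨N, iN, j, hj, hjc, -, hk⟩ := GrpSchLib.exists_kernel φ
  letI := iN
  haveI := hj; haveI := hjc
  refine ⟨N, iN, j, hj, hjc, isNormalHom_of_kernel φ j hk, ?_, ?_⟩
  · let nA : A ⟶ A := 𝟙 A ^ n
    let W := pullback φ nA
    haveI hWs : Surjective (pullback.fst φ nA).left :=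
      MorphismProperty.of_isPullback (P := @Surjective)
        ((IsPullback.of_hasPullback φ nA).map (Over.forget _)).flip hpows
    let s : W ⟶ G := pullback.fst φ nA
    let a : W ⟶ A := pullback.snd φ nA
    have hcond : s ≫ φ = a ^ n := by
      rw [show s ≫ φ = a ≫ nA from pullback.condition, MonObj.comp_pow, Category.comp_id]
    obtain ⟨w, hw⟩ := exists_lift_kernel j φ hk (s * (a ≫ i)⁻¹) (by
      rw [MonObj.mul_comp, GrpObj.inv_comp, hcond, Category.assoc, hiφ, MonObj.comp_pow, Category.comp_id,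
        mul_inv_cancel])
    have key : lift a w ≫ ((i ⊗ₘ j) ≫ μ[G]) = s := by
      rw [lift_map_assoc, ← Hom.mul_def, hw, commute i a, inv_mul_cancel_right]
    haveI : Surjective ((lift a w).left ≫ ((i ⊗ₘ j) ≫ μ[G]).left) := by
      rw [← Over.comp_left, key]; exact hWs
    exact Surjective.of_comp (lift a w).left _
  · let P : Over (Spec (CommRingCat.of k)) := Over.mk (pullback.fst i.left j.left ≫ A.hom)
    let f : P ⟶ A := Over.homMk (pullback.fst i.left j.left) rfl
    let g : P ⟶ N := Over.homMk (pullback.snd i.left j.left) (by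
      show _ ≫ N.hom = _ ≫ A.hom
      rw [← Over.w i, ← Over.w j, pullback.condition_assoc])
    have hfg : f ≫ i = g ≫ j := Over.OverMorphism.ext pullback.condition
    obtain ⟨An, iAn, t, ht, htc, -, htk⟩ := GrpSchLib.exists_kernel (i ≫ φ)
    letI := iAn
    haveI := ht; haveI := htc
    haveI : IsFinite An.hom :=
      MorphismProperty.of_isPullback (P := @IsFinite) (htk.map (Over.forget _)) (hiφ ▸ hpowf)
    obtain ⟨v, hv⟩ := exists_lift_kernel t (i ≫ φ) htk f (by
      rw [reassoc_of% hfg, show j ≫ φ = 1 from hk.w, MonObj.comp_one])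
    haveI : IsClosedImmersion f.left := inferInstanceAs (IsClosedImmersion (pullback.fst i.left j.left))
    haveI : IsClosedImmersion (v.left ≫ t.left) := by rw [← Over.comp_left, hv]; infer_instance
    haveI : IsClosedImmersion v.left := IsClosedImmersion.of_comp v.left t.left
    show IsFinite P.hom
    rw [← Over.w v]; infer_instance

/-- Shrinking a quasi-complement along a surjection keeps the finiteness of the intersection. -/
theorem isFinite_of_sub {M : Over (Spec (CommRingCat.of k))} (i : A ⟶ G) (j : N ⟶ G) (κ : M ⟶ N)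
    [IsClosedImmersion κ.left] (h : IsFinite (pullback.fst i.left j.left ≫ A.hom)) :
    IsFinite (pullback.fst i.left (κ ≫ j).left ≫ A.hom) := by
  let l : pullback i.left (κ ≫ j).left ⟶ pullback i.left j.left :=
    pullback.map _ _ _ _ (𝟙 _) κ.left (𝟙 _) (by simp) (by simp)
  haveI : IsClosedImmersion l := by
    have hsq : IsPullback l (pullback.snd i.left (κ ≫ j).left) (pullback.snd i.left j.left) κ.left := by
      refine IsPullback.of_right ?_ (pullback.lift_snd _ _ _) (IsPullback.of_hasPullback i.left j.left)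
      rw [pullback.lift_fst, Category.comp_id]
      exact IsPullback.of_hasPullback i.left (κ ≫ j).left
    exact MorphismProperty.of_isPullback (P := @IsClosedImmersion) hsq.flip inferInstance
  haveI := h
  have e : pullback.fst i.left (κ ≫ j).left ≫ A.hom = l ≫ pullback.fst i.left j.left ≫ A.hom := by
    rw [pullback.lift_fst_assoc, Category.comp_id]
  rw [e]; infer_instance

/-- Over a perfect field the reduced complement is a smooth quasi-complement. -/
theorem exists_smooth_complement [PerfectField k] [Smooth G.hom] [QuasiCompact G.hom] [ConnectedSpace G.left]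
    [Smooth A.hom] [IsProper A.hom] [ConnectedSpace A.left] (i : A ⟶ G) [IsMonHom i] [IsClosedImmersion i.left] :
    ∃ (N : Over (Spec (CommRingCat.of k))) (_ : GrpObj N) (j : N ⟶ G), IsMonHom j ∧ IsClosedImmersion j.left ∧
      AlgGrp.IsNormalHom j ∧ Smooth N.hom ∧ Surjective ((i ⊗ₘ j) ≫ μ[G]).left ∧
      IsFinite (pullback.fst i.left j.left ≫ A.hom) := by
  obtain ⟨N, iN, j, hj, hjc, hn, hs, hfin⟩ := exists_complement i
  letI := iN
  haveI := hj; haveI := hjc
  haveI : LocallyOfFiniteType N.hom := by rw [← Over.w j]; infer_instance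
  haveI : QuasiCompact N.hom := by rw [← Over.w j]; infer_instance
  obtain ⟨M, iM, κ, hκ, hκc, hMr, hκs, hMl, hMq⟩ := GrpSchLib.RedSubgroup.exists_redSubgroup N
  letI := iM
  haveI := hκ; haveI := hκc; haveI := hMr; haveI := hκs; haveI := hMl; haveI := hMq
  haveI : IsClosedImmersion (κ ≫ j).left := inferInstanceAs (IsClosedImmersion (κ.left ≫ j.left))
  refine ⟨M, iM, κ ≫ j, inferInstance, inferInstance, ?_, GrpSchLib.smooth_of_perfectField_of_isReduced M, ?_,
    isFinite_of_sub i j κ hfin⟩
  · haveI : IsReduced G.left := GrpSchLib.isReduced_of_smooth_field G.hom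
    haveI : IsReduced (G ⊗ M).left := GrpSchLib.isReduced_pullback_of_perfectField G.hom M.hom
    obtain ⟨w, hw⟩ := hn (G ⊗ M) (fst G M) (snd G M ≫ κ)
    let f : G ⊗ M ⟶ G := fst G M * (snd G M ≫ κ ≫ j) * (fst G M)⁻¹
    have hwf : w ≫ j = f := by rw [← hw, Category.assoc]
    obtain ⟨f', hf'⟩ := exists_lift_range (κ ≫ j) f (by
      rintro _ ⟨z, rfl⟩
      obtain ⟨y, hy⟩ := κ.left.surjective (w.left z)
      refine ⟨y, ?_⟩
      rw [← hwf]
      show j.left (κ.left y) = j.left (w.left z)
      rw [hy])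
    intro T g x
    refine ⟨lift g x ≫ f', ?_⟩
    rw [Category.assoc, hf']
    simp only [f, MonObj.comp_mul, GrpObj.comp_inv, lift_fst, lift_snd_assoc]
  · haveI := hs
    have e : (i ⊗ₘ (κ ≫ j)) ≫ μ[G] = (A ◁ κ) ≫ (i ⊗ₘ j) ≫ μ[G] := by
      rw [← MonoidalCategory.id_tensorHom, MonoidalCategory.tensorHom_comp_tensorHom_assoc, Category.id_comp]
    haveI : Surjective (A ◁ κ).left := by
      haveI := GrpSchLib.property_whiskerRight κ A @Surjective ‹_›
      haveI : IsIso (β_ A M).hom.left := ((Over.forget _).mapIso (β_ A M)).isIso_hom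
      haveI : IsIso (β_ A N).inv.left := ((Over.forget _).mapIso (β_ A N)).isIso_inv
      have : A ◁ κ = (β_ A M).hom ≫ (κ ▷ A) ≫ (β_ A N).inv := by
        apply CartesianMonoidalCategory.hom_ext <;> simp
      rw [this, Over.comp_left, Over.comp_left]
      infer_instance
    rw [e, Over.comp_left]
    infer_instance

/-- Over an algebraically closed field the neutral component of a smooth complement is still one. -/
theorem exists_connected_complement [IsAlgClosed k] [Smooth G.hom] [QuasiCompact G.hom] [ConnectedSpace G.left]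
    [Smooth A.hom] [IsProper A.hom] [ConnectedSpace A.left] (i : A ⟶ G) [IsMonHom i] [IsClosedImmersion i.left] :
    ∃ (H : Over (Spec (CommRingCat.of k))) (_ : GrpObj H) (h : H ⟶ G), IsMonHom h ∧ IsClosedImmersion h.left ∧
      Smooth H.hom ∧ ConnectedSpace H.left ∧ AlgGrp.IsNormalHom h ∧ Surjective ((i ⊗ₘ h) ≫ μ[G]).left ∧
      IsFinite (pullback.fst i.left h.left ≫ A.hom) := by
  obtain ⟨N, iN, j, hj, hjc, hn, hNs, hs, hfin⟩ := exists_smooth_complement i
  letI := iN
  haveI := hj; haveI := hjc; haveI := hNs; haveI := hs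
  haveI : QuasiCompact N.hom := by rw [← Over.w j]; infer_instance
  obtain ⟨N₀, iN₀, c, hc, hcc, hco, hN₀s, hN₀q, hN₀c, hcr⟩ := exists_neutral N
  letI := iN₀
  haveI := hc; haveI := hcc; haveI := hco; haveI := hN₀s; haveI := hN₀q; haveI := hN₀c
  haveI : IsClosedImmersion (c ≫ j).left := inferInstanceAs (IsClosedImmersion (c.left ≫ j.left))
  refine ⟨N₀, iN₀, c ≫ j, inferInstance, inferInstance, hN₀s, hN₀c, ?_, ?_, isFinite_of_sub i j c hfin⟩
  · haveI : GeometricallyConnected N₀.hom := H23.GeomConn.of_point k N₀.hom η[N₀].left (Over.w η[N₀])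
    haveI : UniversallyOpen N₀.hom := inferInstance
    haveI : ConnectedSpace ↥(G ⊗ N₀).left := inferInstanceAs (ConnectedSpace ↥(pullback G.hom N₀.hom))
    haveI : IsReduced G.left := GrpSchLib.isReduced_of_smooth_field G.hom
    haveI : IsReduced N₀.left := GrpSchLib.isReduced_of_smooth_field N₀.hom
    haveI : IsReduced (G ⊗ N₀).left := GrpSchLib.isReduced_pullback_of_perfectField G.hom N₀.hom
    obtain ⟨w, hw⟩ := hn (G ⊗ N₀) (fst G N₀) (snd G N₀ ≫ c)
    haveI : Mono j := (Over.forget _).mono_of_mono_map (inferInstanceAs (Mono j.left))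
    have hw1 : lift (1 : Pt G) (1 : Pt N₀) ≫ w = 1 := by
      rw [← cancel_mono j, Category.assoc, ← hw]
      simp only [MonObj.comp_mul, GrpObj.comp_inv, lift_fst, lift_snd_assoc, Category.assoc, MonObj.one_comp,
        _root_.mul_one, inv_one]
    obtain ⟨w', hw'⟩ := exists_lift_neutral c hcr w _ hw1
    intro T g x
    refine ⟨lift g x ≫ w', ?_⟩
    rw [Category.assoc, reassoc_of% hw', ← hw]
    simp only [MonObj.comp_mul, GrpObj.comp_inv, lift_fst, lift_snd_assoc, Category.assoc]
  · -- finitely many translates of the neutral component cover the complement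
    let m := (i ⊗ₘ j) ≫ μ[G]
    let m₀ := (i ⊗ₘ (c ≫ j)) ≫ μ[G]
    haveI : IsMonHom m₀ := isMonHom_sum i (c ≫ j)
    haveI : LocallyOfFiniteType (A ⊗ N₀).hom :=
      inferInstanceAs (LocallyOfFiniteType (pullback.fst A.hom N₀.hom ≫ A.hom))
    haveI : QuasiCompact (A ⊗ N₀).hom := inferInstanceAs (QuasiCompact (pullback.fst A.hom N₀.hom ≫ A.hom))
    haveI : LocallyOfFiniteType (A ⊗ N).hom :=
      inferInstanceAs (LocallyOfFiniteType (pullback.fst A.hom N.hom ≫ A.hom))
    haveI := GrpSchLib.AntiAffine.isSeparated_grp G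
    haveI := quasiCompact_of_grp m₀
    let R := Set.range m₀.left
    have hR : IsClosed R := GrpSchLib.HomClosedRange.isClosed_range m₀
    haveI : CompactSpace N.left := QuasiCompact.compactSpace_of_compactSpace N.hom
    have hop : ∀ y : Pt N, IsOpen ((tr y).left '' Set.range c.left) := fun y =>
      (tr y).left.isOpenEmbedding.isOpenMap _ c.left.isOpenEmbedding.isOpen_range
    have hcov : (⋃ y : Pt N, (tr y).left '' Set.range c.left) = Set.univ := by
      by_contra hne
      obtain ⟨y, hy⟩ := exists_pt (G := N) (S := (⋃ y : Pt N, (tr y).left '' Set.range c.left)ᶜ)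
        (Set.nonempty_compl.mpr hne) (isOpen_iUnion hop).isClosed_compl.isLocallyClosed
      refine hy (Set.mem_iUnion.mpr ⟨y, pimg (1 : Pt N), ⟨pimg (1 : Pt N₀), ?_⟩, ?_⟩)
      · rw [← pimg_comp, MonObj.one_comp]
      · rw [← pimg_mul, _root_.mul_one]
    obtain ⟨s, hscov⟩ := isCompact_univ.elim_finite_subcover _ hop hcov.ge
    have hcl : ∀ y : Pt G, IsClosed ((tr y).left '' R) := fun y =>
      (tr y).left.homeomorph.isClosedMap _ hR
    let U : Set G.left := ⋃ y ∈ s, (tr (y ≫ j)).left '' R
    have hU : IsClosed U := isClosed_biUnion_finset fun y _ => hcl _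
    have hsub : ∀ t : Pt (A ⊗ N), pimg (t ≫ m) ∈ U := fun t => by
      obtain ⟨y, hy, hyd⟩ := Set.mem_iUnion₂.mp (hscov (Set.mem_univ (pimg (t ≫ snd A N))))
      obtain ⟨_, ⟨d, rfl⟩, hd⟩ := hyd
      haveI : IsReduced (𝟙_ (Over (Spec (CommRingCat.of k)))).left :=
        inferInstanceAs (IsReduced (Spec (CommRingCat.of k)))
      obtain ⟨d', hd'⟩ := exists_lift_range c (y⁻¹ * (t ≫ snd A N)) (by
        rintro _ ⟨q, rfl⟩
        rw [Subsingleton.elim (α := PrimeSpectrum k) q (IsLocalRing.closedPoint k)]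
        show pimg (y⁻¹ * (t ≫ snd A N)) ∈ _
        rw [pimg_mul, ← hd, ← Scheme.Hom.comp_apply, ← Over.comp_left, tr_tr, inv_mul_cancel, tr_one]
        exact ⟨d, rfl⟩)
      refine Set.mem_iUnion₂.mpr ⟨y, hy, pimg (lift (t ≫ fst A N) d' ≫ m₀), ?_, ?_⟩
      · rw [pimg_comp]; exact Set.mem_range_self _
      · rw [← pimg_mul]
        congr 1
        have h1 : lift (t ≫ fst A N) d' ≫ m₀ = ((t ≫ fst A N) ≫ i) * (d' ≫ c ≫ j) := by
          rw [lift_map_assoc, ← Hom.mul_def]
        have h2 : t ≫ m = ((t ≫ fst A N) ≫ i) * ((t ≫ snd A N) ≫ j) := by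
          rw [Hom.mul_def, ← lift_map_assoc, ← comp_lift, lift_fst_snd, Category.comp_id]
        rw [h1, h2, ← _root_.mul_assoc, ← commute i _ (y ≫ j), _root_.mul_assoc, ← Category.assoc d', hd',
          MonObj.mul_comp, GrpObj.inv_comp, mul_inv_cancel_left]
    have hall : U = Set.univ := by
      refine Set.eq_univ_of_forall fun x => ?_
      obtain ⟨z, rfl⟩ := m.left.surjective x
      by_contra hz
      haveI : JacobsonSpace (A ⊗ N).left := LocallyOfFiniteType.jacobsonSpace (A ⊗ N).hom
      obtain ⟨t, ht⟩ := exists_pt (G := A ⊗ N) (S := (m.left ⁻¹' U)ᶜ) ⟨z, hz⟩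
        (hU.preimage m.left.continuous).isOpen_compl.isLocallyClosed
      exact ht (by show m.left (pimg t) ∈ U; rw [← pimg_comp]; exact hsub t)
    haveI : IrreducibleSpace G.left := by
      haveI : GeometricallyIntegral G.hom := AVFactor.geometricallyIntegral_smooth G
      exact GeometricallyIrreducible.irreducibleSpace G.hom G.hom.isOpenMap
    classical
    obtain ⟨Z, hZ, hZsub⟩ := isIrreducible_iff_sUnion_isClosed.mp (IrreducibleSpace.isIrreducible_univ G.left)
      (s.image fun y => (tr (y ≫ j)).left '' R) (fun Z hZ => by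
        obtain ⟨y, -, rfl⟩ := Finset.mem_image.mp hZ
        exact hcl _) (by
        rw [← hall, Finset.coe_image, Set.sUnion_image]
        exact subset_rfl)
    obtain ⟨y, -, rfl⟩ := Finset.mem_image.mp hZ
    refine ⟨fun x => ?_⟩
    obtain ⟨r, hr, hrx⟩ := hZsub (Set.mem_univ ((tr (y ≫ j)).left x))
    obtain rfl := (tr (y ≫ j)).left.homeomorph.injective hrx
    exact hr

end

end Groth.Agent.Deform.Chev.QuasiCompl
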