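import Groth.Agent.Deform.Chev.SmallestNormal
import Groth.Agent.Lib.AVProj
import Groth.Agent.GenNhd.Basic
import Groth.Agent.AmpleX.Coprod
import Groth.Agent.AmpleX.Sect
import Groth.Agent.AmpleX.Comp

/-!
# Algebraic groups are quasi-projective
-/

universe u

open CategoryTheory CategoryTheory.Limits MonoidalCategory CartesianMonoidalCategory MonObj GrpObj AlgebraicGeometry TopologicalSpace

attribute [local instance] CategoryTheory.Hom.monoid CategoryTheory.Hom.group
set_option linter.style.haveILetI false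
set_option linter.unusedSectionVars false
set_option backward.isDefEq.respectTransparency false
set_option backward.isDefEq.respectTransparency.types false

namespace Groth.Agent.Deform.Chev.QuasiProj

noncomputable section

open Groth.Agent.H23 Groth.Agent.H23.TrivBasic Groth.Agent.InvX

/-- Ampleness is checked on a covering by clopen pieces. -/
theorem isAmple_of_clopen_cover {X : Scheme.{u}} [CompactSpace X] {L : X.Modules} (hL : PicF.IsInvertible L)
    (h : ∀ x : X, ∃ (Z : Scheme.{u}) (j : Z ⟶ X) (_ : IsOpenImmersion j), IsClosed (Set.range j) ∧ x ∈ Set.range j ∧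
      CohB1.IsAmple ((Scheme.Modules.pullback j).obj L)) : CohB1.IsAmple L := by
  refine AmpleX.isAmple_iff.2 ⟨hL, inferInstance, fun x => ?_⟩
  obtain ⟨Z, j, _, hcl, ⟨z, rfl⟩, hj⟩ := h x
  obtain ⟨-, hz⟩ := (AmpleX.isAmple_restrict_iff j hL).1
    (AmpleX.isAmple_of_iso ((Scheme.Modules.restrictFunctorIsoPullback j).app L).symm hj)
  obtain ⟨m, hm, a, ha, haff⟩ := hz z
  let U' : X.Opens := ⟨(Set.range j)ᶜ, hcl.isOpen_compl⟩
  have hj' : (j ''ᵁ ⊤ : X.Opens) = j.opensRange := j.image_top_eq_opensRange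
  obtain ⟨b, hb⟩ := AmpleX.exists_section_extend_zero (InvX.isInvertible_tensorPow hL m) (U := j ''ᵁ ⊤) (U' := U')
    (W' := ⊤) le_top le_top
    (fun y _ => by
      by_cases hy : y ∈ Set.range j
      · exact Or.inl (by rw [hj']; exact hy)
      · exact Or.inr hy)
    (Opens.ext (Set.disjoint_iff_inter_eq_empty.1 (Set.disjoint_left.2 fun y hy hy' => hy' (by
      rw [SetLike.mem_coe, hj'] at hy; exact hy)))) a
  refine ⟨m, hm, InvX.ofSect b, ?_⟩
  rw [AmpleX.genLocus_eq_locus, InvX.one_ofSect, hb]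
  exact ⟨ha, haff⟩

/-- A noetherian scheme has a dense affine open. -/
theorem exists_dense_affine (X : Scheme.{u}) [IsNoetherian X] [QuasiSeparatedSpace X] :
    ∃ U : X.Opens, IsAffineOpen U ∧ Dense (U : Set X) := by
  rcases isEmpty_or_nonempty X with hX | ⟨⟨x₀⟩⟩
  · exact ⟨⊥, isAffineOpen_bot X, fun x => (hX.false x).elim⟩
  have hfin := TopologicalSpace.NoetherianSpace.finite_irreducibleComponents (α := X)
  haveI := hfin.to_subtype
  obtain ⟨n, ⟨e⟩⟩ := Finite.exists_equiv_fin (irreducibleComponents (X : Type u))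
  have hgen : ∀ i : Fin n, ∃ gp : X, closure ({gp} : Set X) = (e.symm i : Set X) := fun i =>
    QuasiSober.sober (e.symm i).2.1 (isClosed_of_mem_irreducibleComponents _ (e.symm i).2)
  choose gp hgp using hgen
  obtain ⟨U, hU, -, hgpU⟩ := GenNhd.exists_affine_containing gp (fun i => (hgp i).symm ▸ (e.symm i).2) x₀
  refine ⟨U, hU, fun x => ?_⟩
  let i := e ⟨irreducibleComponent x, irreducibleComponent_mem_irreducibleComponents x⟩
  have hx : x ∈ closure ({gp i} : Set X) := by
    rw [hgp i, Equiv.symm_apply_apply]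
    exact mem_irreducibleComponent
  exact closure_mono (Set.singleton_subset_iff.2 (hgpU i)) hx

variable {k : Type u} [Field k]

/-- Over an algebraically closed field an invertible module with a dense affine locus is ample on a proper
smooth group. -/
theorem isAmple_of_dense_locus [IsAlgClosed k] (Q : Over (Spec (CommRingCat.of k))) [GrpObj Q] [Smooth Q.hom]
    [IsProper Q.hom] {L : Q.left.Modules} (hL : PicF.IsInvertible L) {s : Γ(L, ⊤)}
    (hd : Dense (locus s : Set Q.left)) (hU : IsAffineOpen (locus s)) : CohB1.IsAmple L := by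
  obtain ⟨Q₀, iQ₀, i₀, hi₀, hic, hio, hQ₀s, hQ₀q, hQ₀c, hr⟩ := exists_neutral Q
  letI := iQ₀
  haveI := hi₀; haveI := hic; haveI := hio; haveI := hQ₀s; haveI := hQ₀q; haveI := hQ₀c
  haveI : IsProper Q₀.hom := by rw [← Over.w i₀]; infer_instance
  haveI : GeometricallyIntegral Q₀.hom := AVFactor.geometricallyIntegral_smooth Q₀
  haveI : CompactSpace Q.left := QuasiCompact.compactSpace_of_compactSpace Q.hom
  haveI : JacobsonSpace Q.left := LocallyOfFiniteType.jacobsonSpace Q.hom
  refine isAmple_of_clopen_cover hL fun x => ?_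
  obtain ⟨y, hy⟩ : ∃ y : Pt Q, x ∈ (tr y).left '' Set.range i₀.left := by
    by_contra hne
    let Wall : Set Q.left := ⋃ y : Pt Q, (tr y).left '' Set.range i₀.left
    have hop : IsOpen Wall := isOpen_iUnion fun y =>
      (tr y).left.isOpenEmbedding.isOpenMap _ i₀.left.isOpenEmbedding.isOpen_range
    obtain ⟨y, hy⟩ := exists_pt (G := Q) (S := Wallᶜ) ⟨x, fun hx => hne (Set.mem_iUnion.1 hx)⟩
      hop.isClosed_compl.isLocallyClosed
    refine hy (Set.mem_iUnion.mpr ⟨y, pimg (1 : Pt Q), ⟨pimg (1 : Pt Q₀), ?_⟩, ?_⟩)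
    · rw [← pimg_comp, MonObj.one_comp]
    · rw [← pimg_mul, _root_.mul_one]
  let j : Q₀.left ⟶ Q.left := i₀.left ≫ (tr y).left
  obtain ⟨_, ⟨z, rfl⟩, rfl⟩ := hy
  refine ⟨Q₀.left, j, inferInstance, j.isClosedEmbedding.isClosed_range, ⟨z, rfl⟩, ?_⟩
  have hloc : locus (show Γ((Scheme.Modules.pullback j).obj L, ⊤) from pullElt j s) = j ⁻¹ᵁ locus s :=
    locus_pullElt hL j s
  obtain ⟨q, hq, ⟨z', hz'⟩⟩ := hd.inter_open_nonempty _ j.isOpenEmbedding.isOpen_range ⟨j z, z, rfl⟩
    |>.imp fun q hq => (⟨hq.2, hq.1⟩ : q ∈ locus s ∧ q ∈ Set.range j)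
  refine AVProj.isAmple_of_affine_locus_field (X := Q₀) (PicClLib.isInvertible_pullback j hL)
    (s := pullElt j s) ((Opens.ne_bot_iff_nonempty _).2 ⟨z', ?_⟩) ?_
  · rw [hloc]
    show j z' ∈ locus s
    rw [hz']; exact hq
  · rw [hloc]; exact hU.preimage j

/-- A proper smooth group carries an ample invertible module. -/
theorem exists_isAmple_smooth_proper (Q : Over (Spec (CommRingCat.of k))) [GrpObj Q] [Smooth Q.hom]
    [IsProper Q.hom] : ∃ L : Q.left.Modules, CohB1.IsAmple L := by
  haveI : IsLocallyNoetherian Q.left := LocallyOfFiniteType.isLocallyNoetherian Q.hom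
  haveI : CompactSpace Q.left := QuasiCompact.compactSpace_of_compactSpace Q.hom
  haveI : IsNoetherian Q.left := {}
  haveI : Q.left.IsSeparated := ⟨by
    rw [← Limits.terminal.comp_from Q.hom]
    infer_instance⟩
  obtain ⟨U, hU, hUd⟩ := exists_dense_affine Q.left
  obtain ⟨D, hD, hsupp⟩ := EffCompl.exists_effCartier_compl Q.left (fun V W hV hW => hV.inf hW) U hU hUd
    fun y _ => by
      haveI := GrpSchLib.isRegularLocalRing_stalk_of_smooth Q.hom y
      exact S2821.result _
  obtain ⟨L, hL, hLI⟩ := PicInv.exists_inverse ((S8914.result D).2 hD)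
  have hLI' : ClSub.IsInverseOf L (ClSub.idealMod D) := ⟨(PicMul.comm _ _).some ≪≫ hLI.some⟩
  obtain ⟨s, hs⟩ := AVAmple.exists_divisor_section D hD hL hLI'
  have hloc : locus s = U := by
    refine Opens.ext (Set.ext fun y => ?_)
    rw [SetLike.mem_coe, hs y, ← SetLike.mem_coe, hsupp]
    exact not_not
  let K := AlgebraicClosure k
  let g : Spec (CommRingCat.of K) ⟶ Spec (CommRingCat.of k) := Spec.map (CommRingCat.ofHom (algebraMap k K))
  refine ⟨L, AVProj.isAmple_of_baseChange Q.hom K L hL ?_⟩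
  let Y : Over (Spec (CommRingCat.of K)) := Red.bc g Q
  haveI : Smooth Y.hom := inferInstanceAs (Smooth (pullback.snd Q.hom g))
  haveI : IsProper Y.hom := inferInstanceAs (IsProper (pullback.snd Q.hom g))
  let π : Y.left ⟶ Q.left := pullback.fst Q.hom g
  haveI : IsAffineHom g := isAffineHom_of_isAffine g
  haveI : IsAffineHom π := MorphismProperty.pullback_fst (P := @IsAffineHom) Q.hom g inferInstance
  haveI : UniversallyOpen g := inferInstance
  haveI : UniversallyOpen π := MorphismProperty.pullback_fst (P := @UniversallyOpen) Q.hom g inferInstance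
  have hlocY : locus (show Γ((Scheme.Modules.pullback π).obj L, ⊤) from pullElt π s) = π ⁻¹ᵁ locus s :=
    locus_pullElt hL π s
  refine isAmple_of_dense_locus Y (PicClLib.isInvertible_pullback π hL) (s := pullElt π s) ?_ ?_
  · rw [hlocY, hloc]
    exact hUd.preimage π.isOpenMap
  · rw [hlocY, hloc]
    exact hU.preimage π

/-- An algebraic group carries an ample invertible module. -/
theorem exists_isAmple (G : Over (Spec (CommRingCat.of k))) [GrpObj G] [LocallyOfFiniteType G.hom]
    [QuasiCompact G.hom] : ∃ L : G.left.Modules, CohB1.IsAmple L := by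
  obtain ⟨N, iN, i, A, iA, q, hi, hic, ha, hq, hk, hA⟩ := SmallestNormal.exists_affine_kernel G
  letI := iN; letI := iA
  haveI := hi; haveI := hic; haveI := ha; haveI := hq; haveI := hA
  obtain ⟨I, iI, r, hr, hra, hrs, hIs, hIp⟩ : ∃ (I : Over (Spec (CommRingCat.of k))) (_ : GrpObj I) (r : A ⟶ I),
      IsMonHom r ∧ IsAffineHom r.left ∧ Surjective r.left ∧ Smooth I.hom ∧ IsProper I.hom := by
    obtain ⟨p, hp⟩ := CharP.exists k
    rcases CharP.char_is_prime_or_zero k p with hpp | rfl
    · haveI := Fact.mk hpp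
      obtain ⟨I, iI, r, hr, hra, hrs, hIs, hIq⟩ := FrobReduce.exists_smooth_image p A
      letI := iI
      haveI := hr; haveI := hrs; haveI := hIs; haveI := hIq
      haveI := GrpSchLib.AntiAffine.isSeparated_grp I
      haveI : UniversallyClosed (r.left ≫ I.hom) := by rw [Over.w r]; infer_instance
      haveI : UniversallyClosed I.hom := UniversallyClosed.of_comp_surjective r.left I.hom
      exact ⟨I, iI, r, hr, hra, hrs, hIs, {}⟩
    · haveI : CharZero k := CharP.charP_to_charZero k
      exact ⟨A, iA, 𝟙 A, inferInstance, inferInstanceAs (IsAffineHom (𝟙 A.left)),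
        inferInstanceAs (Surjective (𝟙 A.left)), GrpSchLib.smooth_of_charZero A, hA⟩
  letI := iI
  haveI := hr; haveI := hra; haveI := hIs; haveI := hIp
  haveI := quasiCompact_of_grp q
  haveI : IsAffineHom q.left := Deform.AffineKernel.isAffineHom_of_ker q i (isNormalHom_of_kernel q i hk) hk
  haveI : IsAffineHom (q ≫ r).left := inferInstanceAs (IsAffineHom (q.left ≫ r.left))
  obtain ⟨L, hL⟩ := exists_isAmple_smooth_proper I
  have hqa : Mor2.IsQuasiAffine (q ≫ r).left := ⟨inferInstance, fun V hV => by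
    haveI : IsAffine ((q ≫ r).left ⁻¹ᵁ V) := hV.preimage (q ≫ r).left
    infer_instance⟩
  refine ⟨(Scheme.Modules.pullback (q ≫ r).left).obj L, ?_⟩
  have h := AmpleX.isRelAmple_pullback_quasiAffine I.hom (q ≫ r).left hqa
    ((AmpleX.isRelAmple_iff_isAmple I.hom L).2 hL)
  haveI : QuasiCompact ((q ≫ r).left ≫ I.hom) := by rw [Over.w]; infer_instance
  exact (AmpleX.isRelAmple_iff_isAmple _ _).1 h

end

end Groth.Agent.Deform.Chev.QuasiProj
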