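import Groth.Agent.Deform.Chev.Series
import Groth.Agent.VarDim.Scheme
import Mathlib.RingTheory.AlgebraicIndependent.Transcendental
import Mathlib.RingTheory.AlgebraicIndependent.TranscendenceBasis

/-!
# The field of residues of a translation-equivariant expansion
-/

universe u

open CategoryTheory CategoryTheory.Limits AlgebraicGeometry

set_option linter.style.haveILetI false
set_option linter.unusedSectionVars false

namespace Groth.Agent.Deform.Chev

noncomputable section

variable {k : Type u} [Field k] {G : Over (Spec (CommRingCat.of k))} [IsIntegral G.left]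

/-- The function field as an algebra over the ground field. -/
@[implicit_reducible]
def kAlg : Algebra k (Fld G) := (kK (G := G)).toAlgebra

attribute [local instance] kAlg

theorem exists_trdeg_eq [LocallyOfFiniteType G.hom] : ∃ n : ℕ, Algebra.trdeg k (Fld G) = n := by
  obtain ⟨_, ⟨U, hU, rfl⟩, hηU, -⟩ := G.left.isBasis_affineOpens.exists_subset_of_mem_open
    (Set.mem_univ (genericPoint G.left)) isOpen_univ
  haveI : Nonempty U := ⟨⟨_, hηU⟩⟩
  letI : Algebra k Γ(G.left, U) :=
    ((G.left.presheaf.map (homOfLE (le_top (a := U))).op).hom.comp (VarDim.baseMap G.hom)).toAlgebra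
  haveI : IsScalarTower k Γ(G.left, U) (Fld G) := IsScalarTower.of_algebraMap_eq fun c =>
    ((G.left.presheaf.germ_res_apply (homOfLE (le_top : U ≤ ⊤)) (genericPoint G.left) hηU _)).symm
  haveI : Algebra.FiniteType k Γ(G.left, U) := by
    have h := G.hom.finiteType_appLE (isAffineOpen_top (Spec (CommRingCat.of k))) hU (by simp)
    exact RingHom.finiteType_algebraMap.1 (h.comp (RingHom.FiniteType.of_surjective _
      (Scheme.ΓSpecIso (CommRingCat.of k)).symm.commRingCatIsoToRingEquiv.surjective))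
  haveI := functionField_isFractionRing_of_isAffineOpen G.left U hU
  obtain ⟨n, -, hn⟩ := VarDim.exists_dim_eq_trdeg (k := k) Γ(G.left, U)
  haveI : Algebra.IsAlgebraic Γ(G.left, U) (Fld G) :=
    IsLocalization.isAlgebraic _ (nonZeroDivisors Γ(G.left, U))
  haveI : FaithfulSMul Γ(G.left, U) (Fld G) :=
    (faithfulSMul_iff_algebraMap_injective _ _).2 (IsFractionRing.injective _ _)
  exact ⟨n, by rw [← trdeg_add_eq k Γ(G.left, U), hn, trdeg_eq_zero, add_zero]⟩

variable (Φ : Fld G →+* LaurentSeries (Fld G))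

/-- The valuation ring of an expansion. -/
def ring : Subring (Fld G) := (toLS (A := (Fld G : Type u))).range.comap Φ

theorem mem_ring {f : Fld G} : f ∈ ring Φ ↔ ∃ v, toLS v = Φ f := Iff.rfl

/-- The expansion on the valuation ring. -/
def ps : ring Φ →+* PowerSeries (Fld G) :=
  (RingEquiv.ofBijective (toLS (A := (Fld G : Type u))).rangeRestrict
    ⟨fun _ _ h => toLS_injective (congrArg Subtype.val h), RingHom.rangeRestrict_surjective _⟩).symm.toRingHom.comp
    ((Φ.comp (ring Φ).subtype).codRestrict _ fun f => f.2)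

theorem toLS_ps (f : ring Φ) : toLS (ps Φ f) = Φ f :=
  congrArg Subtype.val ((RingEquiv.ofBijective (toLS (A := (Fld G : Type u))).rangeRestrict
    ⟨fun _ _ h => toLS_injective (congrArg Subtype.val h), RingHom.rangeRestrict_surjective _⟩).apply_symm_apply _)

theorem ps_eq {f : ring Φ} {v : PowerSeries (Fld G)} (h : toLS v = Φ f) : ps Φ f = v :=
  toLS_injective ((toLS_ps Φ f).trans h.symm)

/-- The residue map. -/
def c0 : ring Φ →+* Fld G := PowerSeries.constantCoeff.comp (ps Φ)

/-- Every element is integral or has an inverse of positive order. -/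
theorem mem_or (z : Fld G) : z ∈ ring Φ ∨ ∃ h : z⁻¹ ∈ ring Φ, c0 Φ ⟨z⁻¹, h⟩ = 0 := by
  classical
  by_cases hz : z ∈ ring Φ
  · exact Or.inl hz
  refine Or.inr ?_
  obtain ⟨⟨p, ⟨_, n, rfl⟩⟩, hp⟩ := IsLocalization.surj (Submonoid.powers (PowerSeries.X : PowerSeries (Fld G))) (Φ z)
  have hex : ∃ n, ∃ p, Φ z * toLS (PowerSeries.X ^ n) = toLS p := ⟨n, p, hp⟩
  obtain ⟨p, hp⟩ := Nat.find_spec hex
  obtain ⟨m, hm⟩ : ∃ m, Nat.find hex = m + 1 := by
    refine Nat.exists_eq_succ_of_ne_zero fun h0 => hz ⟨p, ?_⟩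
    rw [h0, pow_zero, map_one, mul_one] at hp
    exact hp.symm
  rw [hm] at hp
  have hp0 : PowerSeries.constantCoeff p ≠ 0 := by
    intro h0
    obtain ⟨p', rfl⟩ := PowerSeries.X_dvd_iff.mpr h0
    refine Nat.find_min hex (show m < Nat.find hex by omega) ⟨p', ?_⟩
    refine mul_right_cancel₀ (b := toLS (PowerSeries.X : PowerSeries (Fld G)))
      ((map_ne_zero_iff toLS toLS_injective).mpr PowerSeries.X_ne_zero) ?_
    rw [mul_assoc, ← map_mul, ← pow_succ, hp, ← map_mul, mul_comm]
  have hz0 : z ≠ 0 := fun h => hz (h ▸ (ring Φ).zero_mem)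
  have hv : toLS (p⁻¹ * PowerSeries.X ^ (m + 1)) = Φ z⁻¹ := by
    rw [map_inv₀]
    refine eq_inv_of_mul_eq_one_left ?_
    rw [map_mul, mul_assoc, mul_comm _ (Φ z), hp, ← map_mul, PowerSeries.inv_mul_cancel _ hp0, map_one]
  refine ⟨⟨_, hv⟩, ?_⟩
  show PowerSeries.constantCoeff (ps Φ ⟨z⁻¹, _⟩) = 0
  rw [ps_eq Φ (f := ⟨z⁻¹, _⟩) hv]
  simp

/-- The field of residues. -/
def res : Subfield (Fld G) where
  toSubring := (c0 Φ).range
  inv_mem' := by
    rintro _ ⟨f, rfl⟩
    by_cases hf : c0 Φ f = 0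
    · exact ⟨0, by rw [hf, map_zero, inv_zero]⟩
    rcases eq_or_ne (f : Fld G) 0 with h0 | h0
    · exact absurd (by rw [show f = 0 from Subtype.ext h0, map_zero]) hf
    rcases mem_or Φ (f : Fld G)⁻¹ with h | ⟨h, hc⟩
    · refine ⟨⟨_, h⟩, eq_inv_of_mul_eq_one_left ?_⟩
      rw [← map_mul, show (⟨_, h⟩ : ring Φ) * f = 1 from Subtype.ext (inv_mul_cancel₀ h0), map_one]
    · exact absurd (by
        rw [← hc]; exact congrArg _ (Subtype.ext (inv_inv _).symm)) hf

theorem mem_res {l : Fld G} : l ∈ res Φ ↔ ∃ f, c0 Φ f = l := Iff.rfl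

section Const

variable (hk : ∀ c, Φ (kK c) = lsC (kK c))
include hk

theorem kK_mem_ring (c : k) : kK c ∈ ring Φ := ⟨PowerSeries.C (kK c), (hk c).symm⟩

theorem c0_kK (c : k) : c0 Φ ⟨kK c, kK_mem_ring Φ hk c⟩ = kK c := by
  show PowerSeries.constantCoeff (ps Φ _) = _
  rw [ps_eq Φ (v := PowerSeries.C (kK c)) (f := ⟨kK c, _⟩) (hk c).symm, PowerSeries.constantCoeff_C]

theorem kK_mem_res (c : k) : kK c ∈ res Φ := ⟨_, c0_kK Φ hk c⟩

/-- **The residues are transcendentally smaller**: the function field is not algebraic over them. -/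
theorem exists_transcendental [LocallyOfFiniteType G.hom] (hno : ∃ f, ∀ v, toLS v ≠ Φ f) :
    ∃ u : Fld G, Transcendental (res Φ) u := by
  by_contra hcon
  push Not at hcon
  haveI halg : Algebra.IsAlgebraic (res Φ) (Fld G) := ⟨fun x => not_not.mp (hcon x)⟩
  letI : Algebra k (res Φ) := ((kK (G := G)).codRestrict _ (kK_mem_res Φ hk)).toAlgebra
  haveI : IsScalarTower k (res Φ) (Fld G) := IsScalarTower.of_algebraMap_eq fun _ => rfl
  letI : Algebra k (ring Φ) := ((kK (G := G)).codRestrict _ (kK_mem_ring Φ hk)).toAlgebra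
  haveI : IsScalarTower k (ring Φ) (Fld G) := IsScalarTower.of_algebraMap_eq fun _ => rfl
  let c0' : ring Φ →ₐ[k] Fld G := { c0 Φ with commutes' := c0_kK Φ hk }
  obtain ⟨n, hn⟩ := exists_trdeg_eq (G := G)
  obtain ⟨s, hs⟩ := exists_isTranscendenceBasis k (res Φ)
  have hcard : Cardinal.mk s = n := by
    rw [hs.cardinalMk_eq_trdeg, ← hn, ← trdeg_add_eq k (res Φ) (A := Fld G),
      trdeg_eq_zero (R := res Φ) (A := Fld G), add_zero]
  choose a ha using fun x : s => (x.1.2 : ∃ f, c0 Φ f = (x.1 : Fld G))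
  have hx : AlgebraicIndependent k fun x : s => (x.1 : Fld G) :=
    hs.1.map' (f := IsScalarTower.toAlgHom k (res Φ) (Fld G)) Subtype.val_injective
  have hind : AlgebraicIndependent k a := by
    refine AlgebraicIndependent.of_comp c0' ?_
    convert hx using 1
    exact funext ha
  obtain ⟨f, hf⟩ := hno
  obtain ⟨ht, ht0⟩ := (mem_or Φ f).resolve_left fun ⟨v, hv⟩ => hf v hv
  let t : ring Φ := ⟨f⁻¹, ht⟩
  have htne : t ≠ 0 := fun h => by
    have h0 : f⁻¹ = 0 := congrArg Subtype.val h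
    rw [inv_eq_zero] at h0
    exact hf 0 (by rw [h0, map_zero, map_zero])
  have hinj : ∀ q : Algebra.adjoin k (Set.range a), c0 Φ q.1 = 0 → q = 0 := by
    rintro ⟨q, hq⟩ h
    rw [Algebra.adjoin_range_eq_range_aeval] at hq
    obtain ⟨P, rfl⟩ := hq
    have h2 : MvPolynomial.aeval (fun x : s => (x.1 : Fld G)) P = 0 := by
      rw [← h, show (fun x : s => (x.1 : Fld G)) = fun x => c0' (a x) from (funext ha).symm]
      exact MvPolynomial.comp_aeval_apply (f := a) c0' P |>.symm
    refine Subtype.ext ?_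
    show (MvPolynomial.aeval a).toRingHom P = 0
    rw [hx (h2.trans (map_zero _).symm), map_zero]
  have hopt : AlgebraicIndependent k fun o : Option s => o.elim t a := by
    refine (hind.option_iff_transcendental t).mpr ?_
    intro halgt
    obtain ⟨P, hP0, hPt⟩ := halgt
    obtain ⟨Q, hQ⟩ := Polynomial.X_pow_dvd_iff.mpr
      (fun d hd => Polynomial.coeff_eq_zero_of_lt_natTrailingDegree hd : ∀ d < P.natTrailingDegree, P.coeff d = 0)
    have hQ0 : Q.coeff 0 ≠ 0 := fun h0 => by
      have hc : P.coeff P.natTrailingDegree = 0 := by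
        conv_lhs => arg 1; rw [hQ]
        rw [Polynomial.coeff_X_pow_mul', if_pos le_rfl, Nat.sub_self, h0]
      exact hP0 (Polynomial.trailingCoeff_eq_zero.mp hc)
    have hQt : Polynomial.aeval t Q = 0 := by
      rw [hQ, map_mul, map_pow, Polynomial.aeval_X] at hPt
      exact (mul_eq_zero.mp hPt).resolve_left (pow_ne_zero _ htne)
    refine hQ0 (hinj _ ?_)
    rw [← Q.X_mul_divX_add, map_add, map_mul, Polynomial.aeval_X, Polynomial.aeval_C] at hQt
    have := congrArg (c0 Φ) hQt
    rwa [map_add, map_mul, show c0 Φ t = 0 from ht0, zero_mul, zero_add, map_zero] at this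
  have hK := hopt.map' (f := IsScalarTower.toAlgHom k (ring Φ) (Fld G)) Subtype.val_injective
  have hle := hK.cardinalMk_le_trdeg
  rw [Cardinal.mk_option, hcard, hn] at hle
  exact absurd hle (by norm_cast; omega)

end Const

section Equivariant

open MonoidalCategory CartesianMonoidalCategory MonObj GrpObj

variable [GrpObj G] (he : ∀ (x : Pt G) (f : Fld G), Φ (tau x f) = lsMap (tau x).hom (Φ f))
include he

theorem tau_mem_ring (x : Pt G) {f : Fld G} (hf : f ∈ ring Φ) : tau x f ∈ ring Φ := by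
  obtain ⟨v, hv⟩ := hf
  exact ⟨PowerSeries.map (tau x).hom v, by rw [he, ← hv, lsMap_toLS]⟩

theorem ps_tau (x : Pt G) (f : ring Φ) :
    ps Φ ⟨tau x f, tau_mem_ring Φ he x f.2⟩ = PowerSeries.map (tau x).hom (ps Φ f) :=
  ps_eq Φ (f := ⟨tau x f, _⟩) (by
    show _ = Φ (tau x (f : Fld G))
    rw [he, ← lsMap_toLS, toLS_ps])

theorem tau_mem_res (x : Pt G) {l : Fld G} (hl : l ∈ res Φ) : tau x l ∈ res Φ := by
  obtain ⟨f, rfl⟩ := hl
  refine ⟨⟨tau x f, tau_mem_ring Φ he x f.2⟩, ?_⟩
  show PowerSeries.constantCoeff (ps Φ _) = _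
  rw [ps_tau Φ he x f, ← PowerSeries.coeff_zero_eq_constantCoeff_apply, PowerSeries.coeff_map,
    PowerSeries.coeff_zero_eq_constantCoeff_apply]
  rfl

end Equivariant

end

end Groth.Agent.Deform.Chev
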