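import Groth.Agent.Deform.Chev.Residue

/-!
# An anti-affine subgroup fixing the residues is trivial
-/

universe u

open CategoryTheory CategoryTheory.Limits MonoidalCategory CartesianMonoidalCategory MonObj GrpObj AlgebraicGeometry

attribute [local instance] CategoryTheory.Hom.monoid CategoryTheory.Hom.group
set_option linter.style.haveILetI false
set_option linter.unusedSectionVars false

namespace Groth.Agent.Deform.Chev

noncomputable section

variable {k : Type u} [Field k]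

section Const

variable {M : Over (Spec (CommRingCat.of k))} [GrpObj M] [IsIntegral M.left] [IsAlgClosed k] [LocallyOfFiniteType M.hom]

/-- A locally regular function on an anti-affine group transforming affinely under translations is constant. -/
theorem eq_const_of_rule (hM : Function.Bijective M.hom.appTop) (χ : Pt M → k) {W : M.left.Opens}
    (hW : (W : Set M.left).Nonempty) (σ : Γ(M.left, W)) (hσ : ∀ a (ha : pimg a ∈ W), evS a ha σ = χ a)
    (P Q : Pt M → k) (hr : ∀ a b, χ b = P a * χ (a * b) + Q a) (a : Pt M) : χ a = χ 1 := by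
  have hη : genericPoint M.left ∈ W := genericPoint_mem hW.choose_spec
  let f : Fld M := M.left.presheaf.germ W _ hη σ
  let F : Pt M → Fld M := fun a => kK (P a) * tau a f + kK (Q a)
  have hF : ∀ a b, pimg (a * b) ∈ W → HasVal (F a) b (χ b) := fun a b hab => by
    rw [hr a b, ← hσ (a * b) hab]
    exact ((hasVal_kK b _).mul (show HasVal f (a * b) _ from ⟨W, hab, σ, rfl, rfl⟩).tau).add (hasVal_kK b _)
  have hall : ∀ a, F a = F 1 := fun a => by
    refine eq_of_forall (nonempty_inf (nonempty_tr a hW) (nonempty_tr 1 hW)) fun b hb => ⟨χ b, ?_, ?_⟩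
    · exact hF a b (by rw [pimg_mul]; exact hb.1)
    · exact hF 1 b (by rw [pimg_mul]; exact hb.2)
  -- the function is regular everywhere
  have hcov : ∀ x : M.left, ∃ a : Pt M, (tr a).left x ∈ W := by
    haveI : JacobsonSpace M.left := LocallyOfFiniteType.jacobsonSpace M.hom
    intro x
    by_contra hx
    push Not at hx
    let O : Set M.left := ⋃ a : Pt M, (tr a).left ⁻¹' (W : Set M.left)
    have hO : IsOpen O := isOpen_iUnion fun a => W.2.preimage (tr a).left.continuous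
    obtain ⟨b, hb⟩ := exists_pt (G := M) (S := Oᶜ)
      ⟨x, fun h => by obtain ⟨a, ha⟩ := Set.mem_iUnion.mp h; exact hx a ha⟩ hO.isClosed_compl.isLocallyClosed
    obtain ⟨w, hw⟩ := exists_pt_open (G := M) (V := W) hW
    exact hb (Set.mem_iUnion.mpr ⟨w * b⁻¹, by
      show (tr (w * b⁻¹)).left (pimg b) ∈ W
      rw [← pimg_mul, inv_mul_cancel_right]; exact hw⟩)
  choose α hα using hcov
  have hloc : ∀ x, ∃ (s : Γ(M.left, (tr (α x)).left ⁻¹ᵁ W)),
      M.left.presheaf.germ _ (genericPoint M.left)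
        (show (tr (α x)).left (genericPoint M.left) ∈ W by rwa [tr_generic]) s = F 1 := fun x => by
    let cst : k → Γ(M.left, (tr (α x)).left ⁻¹ᵁ W) := fun c => M.left.presheaf.map (homOfLE le_top).op
      (M.hom.appTop ((Scheme.ΓSpecIso (CommRingCat.of k)).inv c))
    have hc : ∀ c, M.left.presheaf.germ _ (genericPoint M.left)
        (show (tr (α x)).left (genericPoint M.left) ∈ W by rwa [tr_generic]) (cst c) = kK c := fun c =>
      germ_res_gen le_top _ _
    refine ⟨cst (P (α x)) * (tr (α x)).left.app W σ + cst (Q (α x)), ?_⟩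
    rw [← hall (α x), map_add, map_mul, hc, hc, ← tau_germ (α x) hη σ]
  choose s hs using hloc
  have hgenx : ∀ x, genericPoint M.left ∈ (tr (α x)).left ⁻¹ᵁ W := fun x => by
    show (tr (α x)).left (genericPoint M.left) ∈ W
    rwa [tr_generic]
  have hcompat : TopCat.Presheaf.IsCompatible M.left.presheaf (fun x => (tr (α x)).left ⁻¹ᵁ W) s := by
    intro i j
    apply germ_injective_of_isIntegral M.left (genericPoint M.left)
      (show genericPoint M.left ∈ ((tr (α i)).left ⁻¹ᵁ W ⊓ (tr (α j)).left ⁻¹ᵁ W : M.left.Opens) from ⟨hgenx i, hgenx j⟩)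
    rw [M.left.presheaf.germ_res_apply, M.left.presheaf.germ_res_apply, hs, hs]
  obtain ⟨g, hg, -⟩ := M.left.sheaf.existsUnique_gluing' (fun x => (tr (α x)).left ⁻¹ᵁ W) ⊤ (fun _ => homOfLE le_top)
    (fun z _ => TopologicalSpace.Opens.mem_iSup.2 ⟨z, hα z⟩) s hcompat
  obtain ⟨e, he⟩ := hM.2 g
  let d : k := (Scheme.ΓSpecIso (CommRingCat.of k)).hom e
  have hd : F 1 = kK d := by
    rw [← hs (genericPoint M.left), ← hg (genericPoint M.left)]
    refine (M.left.presheaf.germ_res_apply (homOfLE le_top) _ (hgenx _) g).trans ?_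
    rw [← he]
    show _ = M.left.presheaf.germ ⊤ _ _ (M.hom.appTop ((Scheme.ΓSpecIso (CommRingCat.of k)).inv _))
    rw [show (Scheme.ΓSpecIso (CommRingCat.of k)).inv d = e from congr($((Scheme.ΓSpecIso (CommRingCat.of k)).hom_inv_id) e)]
  have hχ : ∀ b, χ b = d := fun b => by
    obtain ⟨w, hw⟩ := exists_pt_open (G := M) (V := W) hW
    have := hF (w * b⁻¹) b (by rwa [inv_mul_cancel_right])
    rw [hall, hd] at this
    exact this.unique (hasVal_kK b d)
  rw [hχ a, hχ 1]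

omit [IsIntegral M.left] [GrpObj M] in
theorem exists_split [GrpObj M] [IrreducibleSpace M.left] (m : Pt M) {W : M.left.Opens}
    (hW : (W : Set M.left).Nonempty) : ∃ a b : Pt M, pimg a ∈ W ∧ pimg b ∈ W ∧ a * b = m := by
  let e : M ⟶ M := (𝟙 M)⁻¹ ≫ tr m
  have hee : ∀ a : Pt M, pimg (m * a⁻¹) = e.left (pimg a) := fun a => by
    have : a ≫ e = m * a⁻¹ := by
      rw [← Category.assoc, GrpObj.comp_inv, Category.comp_id, pt_tr]
    rw [← this]; rfl
  obtain ⟨w, hw⟩ := exists_pt_open (G := M) (V := W) hW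
  obtain ⟨a, ha, ha'⟩ := exists_pt_open (G := M) (V := W ⊓ e.left ⁻¹ᵁ W)
    (show ((W : Set M.left) ∩ e.left ⁻¹' W).Nonempty from
      nonempty_preirreducible_inter W.2 (W.2.preimage e.left.continuous) hW ⟨pimg (w⁻¹ * m), by
        show e.left (pimg (w⁻¹ * m)) ∈ W
        rw [← hee, _root_.mul_inv_rev, _root_.inv_inv, mul_inv_cancel_left]; exact hw⟩)
  refine ⟨m * a⁻¹, a, ?_, ha, inv_mul_cancel_right m a⟩
  rw [hee]; exact ha'

end Const

variable {G M : Over (Spec (CommRingCat.of k))} [GrpObj G] [GrpObj M] [IsIntegral G.left] [IsIntegral M.left]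
  [IsAlgClosed k] [LocallyOfFiniteType G.hom] [LocallyOfFiniteType M.hom] [IsCommMonObj G]

theorem evS_app {X Y : Over (Spec (CommRingCat.of k))} (f : X ⟶ Y) (a : Pt X) {V : Y.left.Opens}
    (ha : pimg (a ≫ f) ∈ V) (ha' : pimg a ∈ f.left ⁻¹ᵁ V) (s : Γ(Y.left, V)) :
    evS a ha' (f.left.app V s) = evS (a ≫ f) ha s := by
  show (X.left.presheaf.germ _ _ ha' ≫ Scheme.stalkClosedPointTo a.left) (f.left.app V s) =
    (Y.left.presheaf.germ V _ ha ≫ Scheme.stalkClosedPointTo (a ≫ f).left) s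
  exact (congr($(germ_comp (R := CommRingCat.of k) a.left f.left V ha) s)).symm

/-- Additive rigidity. -/
theorem tau_eq_of_sub_invariant (hM : Function.Bijective M.hom.appTop) (κ : M ⟶ G) [IsMonHom κ] (c : Fld G)
    (hinv : ∀ m m' : Pt M, tau (m' ≫ κ) (tau (m ≫ κ) c - c) = tau (m ≫ κ) c - c) (m : Pt M) :
    tau (m ≫ κ) c = c := by
  let u : Pt M → Fld G := fun m => tau (m ≫ κ) c - c
  have hu : ∀ a b, u (a * b) = u a + u b := fun a b => by
    show tau ((a * b) ≫ κ) c - c = _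
    rw [MonObj.mul_comp, ← tau_mul, show tau (a ≫ κ) c = u a + c by simp [u], map_add, hinv a b]
    simp only [u]
    ring
  obtain ⟨V, hV, σ, hσ⟩ := G.left.presheaf.exists_germ_eq c
  refine sub_eq_zero.mp (eq_zero_of_forall (V := V) ⟨_, hV⟩ fun g₀ hg₀ => ?_)
  have hg₀c : HasVal c g₀ (evS g₀ hg₀ σ) := ⟨V, hg₀, σ, hσ, rfl⟩
  let e : M ⟶ G := κ ≫ tr g₀
  have he : ∀ a : Pt M, a ≫ e = (a ≫ κ) * g₀ := fun a => by
    rw [← Category.assoc, pt_tr, mul_comm]
  let W : M.left.Opens := e.left ⁻¹ᵁ V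
  have hW1 : pimg (1 : Pt M) ∈ W := by
    show pimg ((1 : Pt M) ≫ e) ∈ V
    rw [he, MonObj.one_comp, _root_.one_mul]; exact hg₀
  let τσ : Γ(M.left, W) := e.left.app V σ -
    M.left.presheaf.map (homOfLE le_top).op (M.hom.appTop ((Scheme.ΓSpecIso (CommRingCat.of k)).inv (evS g₀ hg₀ σ)))
  have hWval : ∀ a (ha : pimg a ∈ W), HasVal (u a) g₀ (evS a ha τσ) := fun a ha => by
    have h1 : HasVal c ((a ≫ κ) * g₀) (evS (a ≫ e) ha σ) := by
      rw [← he]
      exact ⟨V, ha, σ, hσ, rfl⟩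
    rw [map_sub, evS_app e a ha ha]
    refine h1.tau.sub ?_
    rwa [evS_res a le_top ha, (show evS a (V := (⊤ : M.left.Opens)) trivial
      (M.hom.appTop ((Scheme.ΓSpecIso (CommRingCat.of k)).inv (evS g₀ hg₀ σ))) = evS g₀ hg₀ σ from
      HasVal.unique ⟨⊤, trivial, _, rfl, rfl⟩ (hasVal_kK a (evS g₀ hg₀ σ)))]
  have hex : ∀ a, ∃ v, HasVal (u a) g₀ v := fun a => by
    obtain ⟨b, b', hb, hb', rfl⟩ := exists_split a ⟨_, hW1⟩
    exact ⟨_, hu b b' ▸ (hWval b hb).add (hWval b' hb')⟩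
  choose χ hχ using hex
  have hadd : ∀ a b, χ (a * b) = χ a + χ b := fun a b => (hu a b ▸ hχ (a * b)).unique ((hχ a).add (hχ b))
  have hconst := eq_const_of_rule hM χ ⟨_, hW1⟩ τσ (fun a ha => (hWval a ha).unique (hχ a)) (fun _ => 1)
    (fun a => - χ a) (fun a b => by rw [hadd]; ring) m
  have h1 : χ 1 = 0 := by
    have := hadd 1 1
    rw [_root_.one_mul] at this
    linear_combination -this
  exact (hconst.trans h1) ▸ hχ m

/-- Multiplicative rigidity. -/
theorem tau_eq_of_div_invariant (hM : Function.Bijective M.hom.appTop) (κ : M ⟶ G) [IsMonHom κ] (c : Fld G)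
    (hinv : ∀ m m' : Pt M, tau (m' ≫ κ) (tau (m ≫ κ) c / c) = tau (m ≫ κ) c / c) (m : Pt M) :
    tau (m ≫ κ) c = c := by
  rcases eq_or_ne c 0 with rfl | hc
  · rw [map_zero]
  let u : Pt M → Fld G := fun m => tau (m ≫ κ) c / c
  have hu : ∀ a b, u (a * b) = u a * u b := fun a b => by
    have e : tau (a ≫ κ) c = u a * c := (div_mul_cancel₀ _ hc).symm
    show tau ((a * b) ≫ κ) c / c = _
    rw [MonObj.mul_comp, ← tau_mul]
    show tau (b ≫ κ) (tau (a ≫ κ) c) / c = _
    rw [e, map_mul, hinv a b]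
    simp only [u]
    field_simp
  obtain ⟨V₀, hV₀, σ₀, hσ₀⟩ := G.left.presheaf.exists_germ_eq c
  obtain ⟨V, hV, hVle, σ, hσ, hσu⟩ : ∃ (V : G.left.Opens) (hV : genericPoint G.left ∈ V) (_ : V ≤ V₀) (σ : Γ(G.left, V)),
      G.left.presheaf.germ V _ hV σ = c ∧ IsUnit σ := by
    have hη : genericPoint G.left ∈ G.left.basicOpen σ₀ := by
      rw [Scheme.mem_basicOpen G.left σ₀ _ hV₀]
      exact isUnit_iff_ne_zero.mpr (fun h => hc (hσ₀ ▸ h))
    exact ⟨_, hη, G.left.basicOpen_le σ₀, _, (germ_res_gen (G.left.basicOpen_le σ₀) hη σ₀).trans hσ₀,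
      RingedSpace.isUnit_res_basicOpen G.left.toRingedSpace σ₀⟩
  refine (div_eq_one_iff_eq hc).mp (sub_eq_zero.mp (eq_zero_of_forall (V := V) ⟨_, hV⟩ fun g₀ hg₀ => ?_))
  have hg₀c : HasVal c g₀ (evS g₀ hg₀ σ) := ⟨V, hg₀, σ, hσ, rfl⟩
  have hne : evS g₀ hg₀ σ ≠ 0 := (hσu.map (evS g₀ hg₀)).ne_zero
  let e : M ⟶ G := κ ≫ tr g₀
  have he : ∀ a : Pt M, a ≫ e = (a ≫ κ) * g₀ := fun a => by
    rw [← Category.assoc, pt_tr, mul_comm]
  let W : M.left.Opens := e.left ⁻¹ᵁ V
  have hW1 : pimg (1 : Pt M) ∈ W := by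
    show pimg ((1 : Pt M) ≫ e) ∈ V
    rw [he, MonObj.one_comp, _root_.one_mul]; exact hg₀
  let τσ : Γ(M.left, W) := e.left.app V σ *
    M.left.presheaf.map (homOfLE le_top).op (M.hom.appTop ((Scheme.ΓSpecIso (CommRingCat.of k)).inv (evS g₀ hg₀ σ)⁻¹))
  have hWval : ∀ a (ha : pimg a ∈ W), HasVal (u a) g₀ (evS a ha τσ) ∧ evS a ha τσ ≠ 0 := fun a ha => by
    have h1 : HasVal c ((a ≫ κ) * g₀) (evS (a ≫ e) ha σ) := by
      rw [← he]
      exact ⟨V, ha, σ, hσ, rfl⟩
    rw [map_mul, evS_app e a ha ha, evS_res a le_top ha, (show evS a (V := (⊤ : M.left.Opens)) trivial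
      (M.hom.appTop ((Scheme.ΓSpecIso (CommRingCat.of k)).inv (evS g₀ hg₀ σ)⁻¹)) = (evS g₀ hg₀ σ)⁻¹ from
      HasVal.unique ⟨⊤, trivial, _, rfl, rfl⟩ (hasVal_kK a _))]
    exact ⟨(show u a = tau (a ≫ κ) c * c⁻¹ from div_eq_mul_inv _ _) ▸ h1.tau.mul (hg₀c.inv hne),
      mul_ne_zero (hσu.map (evS (a ≫ e) ha)).ne_zero (inv_ne_zero hne)⟩
  have hex : ∀ a, ∃ v, HasVal (u a) g₀ v ∧ v ≠ 0 := fun a => by
    obtain ⟨b, b', hb, hb', rfl⟩ := exists_split a ⟨_, hW1⟩
    exact ⟨_, hu b b' ▸ (hWval b hb).1.mul (hWval b' hb').1, mul_ne_zero (hWval b hb).2 (hWval b' hb').2⟩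
  choose χ hχ hχ0 using hex
  have hmul : ∀ a b, χ (a * b) = χ a * χ b := fun a b => (hu a b ▸ hχ (a * b)).unique ((hχ a).mul (hχ b))
  have hconst := eq_const_of_rule hM χ ⟨_, hW1⟩ τσ (fun a ha => (hWval a ha).1.unique (hχ a)) (fun a => (χ a)⁻¹)
    (fun _ => 0) (fun a b => by rw [hmul, add_zero, inv_mul_cancel_left₀ (hχ0 a)]) m
  have h1 : χ 1 = 1 := by
    have := hmul 1 1
    rw [_root_.one_mul] at this
    exact mul_left_cancel₀ (hχ0 1) (this.symm.trans (_root_.mul_one _).symm)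
  have := (hconst.trans h1) ▸ hχ m
  simpa using this.sub (hasVal_one g₀)

/-- A point which fixes every rational function is trivial. -/
theorem eq_one_of_tau_eq {h : Pt G} (hh : ∀ f, tau h f = f) : h = 1 := by
  obtain ⟨_, ⟨U, hU, rfl⟩, hηU, -⟩ := G.left.isBasis_affineOpens.exists_subset_of_mem_open
    (Set.mem_univ (genericPoint G.left)) isOpen_univ
  obtain ⟨g, hg, hhg⟩ := exists_pt_open (G := G) (V := U ⊓ (tr h).left ⁻¹ᵁ U)
    (nonempty_inf ⟨_, hηU⟩ (nonempty_tr h ⟨_, hηU⟩))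
  have hhg' : pimg (h * g) ∈ U := by rw [pimg_mul]; exact hhg
  have hev : evS (h * g) hhg' = evS g hg := RingHom.ext fun σ => by
    have h1 : HasVal (G.left.presheaf.germ U _ hηU σ) (h * g) (evS (h * g) hhg' σ) := ⟨U, hhg', σ, rfl, rfl⟩
    have h2 := h1.tau
    rw [hh] at h2
    exact h2.unique ⟨U, hg, σ, rfl, rfl⟩
  have hU : IsAffineOpen U := hU
  have hl : (h * g).left = g.left := by
    have e1 : Spec.map (CommRingCat.ofHom (evS (h * g) hhg')) ≫ hU.fromSpec = (h * g).left := by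
      show Spec.map (G.left.presheaf.germ U _ hhg' ≫ Scheme.stalkClosedPointTo (h * g).left) ≫ _ = _
      rw [Spec.map_comp, Category.assoc, show Spec.map (G.left.presheaf.germ U (pimg (h * g)) hhg') ≫ hU.fromSpec =
        G.left.fromSpecStalk (pimg (h * g)) by rw [← IsAffineOpen.fromSpecStalk_eq_fromSpecStalk hU hhg']; rfl]
      exact Scheme.Spec_stalkClosedPointTo_fromSpecStalk (R := CommRingCat.of k) (h * g).left
    have e2 : Spec.map (CommRingCat.ofHom (evS g hg)) ≫ hU.fromSpec = g.left := by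
      show Spec.map (G.left.presheaf.germ U _ hg ≫ Scheme.stalkClosedPointTo g.left) ≫ _ = _
      rw [Spec.map_comp, Category.assoc, show Spec.map (G.left.presheaf.germ U (pimg g) hg) ≫ hU.fromSpec =
        G.left.fromSpecStalk (pimg g) by rw [← IsAffineOpen.fromSpecStalk_eq_fromSpecStalk hU hg]; rfl]
      exact Scheme.Spec_stalkClosedPointTo_fromSpecStalk (R := CommRingCat.of k) g.left
    rw [← e1, ← e2, hev]
  exact mul_eq_right.mp (Over.OverMorphism.ext hl)

/-- An anti-affine subgroup fixing the residues of the expansion is trivial. -/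
theorem comp_eq_one (hM : Function.Bijective M.hom.appTop) (κ : M ⟶ G) [IsMonHom κ]
    (Φ : Fld G →+* LaurentSeries (Fld G)) (he : ∀ (x : Pt G) (f : Fld G), Φ (tau x f) = lsMap (tau x).hom (Φ f))
    (hfix : ∀ (m : Pt M) l, l ∈ res Φ → tau (m ≫ κ) l = l) (m : Pt M) : m ≫ κ = 1 := by
  have hlead : ∀ (h : ring Φ) n, (∀ i < n, PowerSeries.coeff i (ps Φ h) = 0) →
      ∀ a, tau (a ≫ κ) (PowerSeries.coeff n (ps Φ h)) = PowerSeries.coeff n (ps Φ h) := by
    intro h n hn a
    refine tau_eq_of_div_invariant hM κ _ (fun b b' => ?_) a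
    obtain ⟨A, hA⟩ := PowerSeries.X_pow_dvd_iff.mpr hn
    rw [hA, PowerSeries.coeff_X_pow_mul', if_pos le_rfl, Nat.sub_self, PowerSeries.coeff_zero_eq_constantCoeff_apply]
    rcases eq_or_ne (PowerSeries.constantCoeff A) 0 with h0 | h0
    · rw [h0, map_zero, zero_div, map_zero]
    refine hfix b' _ ?_
    let A' := PowerSeries.map (tau (b ≫ κ)).hom A
    have hh0 : (h : Fld G) ≠ 0 := fun e => h0 (by
      have : ps Φ h = 0 := ps_eq Φ (f := h) (by rw [map_zero, e, map_zero])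
      rw [this] at hA
      rw [(mul_eq_zero.mp hA.symm).resolve_left (pow_ne_zero _ PowerSeries.X_ne_zero), map_zero])
    have hmem : toLS (A' * A⁻¹) = Φ (tau (b ≫ κ) (h : Fld G) / h) := by
      rw [map_div₀, eq_div_iff ((map_ne_zero_iff Φ Φ.injective).mpr hh0), ← toLS_ps Φ h, he, ← toLS_ps Φ h,
        lsMap_toLS, ← map_mul, hA]
      congr 1
      rw [map_mul, map_pow, PowerSeries.map_X]
      show A' * A⁻¹ * (PowerSeries.X ^ n * A) = _
      rw [show A' * A⁻¹ * (PowerSeries.X ^ n * A) = PowerSeries.X ^ n * A' * (A⁻¹ * A) by ring,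
        PowerSeries.inv_mul_cancel A h0, _root_.mul_one]
    refine ⟨⟨_, ⟨_, hmem⟩⟩, ?_⟩
    show PowerSeries.constantCoeff (ps Φ _) = _
    rw [ps_eq Φ (f := ⟨tau (b ≫ κ) (h : Fld G) / h, _⟩) hmem, map_mul, PowerSeries.constantCoeff_inv, div_eq_mul_inv]
    congr 1
  have hcoef : ∀ (n : ℕ) (f : ring Φ) a, tau (a ≫ κ) (PowerSeries.coeff n (ps Φ f)) = PowerSeries.coeff n (ps Φ f) := by
    intro n
    induction n using Nat.strong_induction_on with
    | _ n ih =>
      intro f a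
      refine tau_eq_of_sub_invariant hM κ _ (fun b b' => ?_) a
      let h : ring Φ := ⟨tau (b ≫ κ) (f : Fld G), tau_mem_ring Φ he _ f.2⟩ - f
      have hc : ∀ i, PowerSeries.coeff i (ps Φ h) = tau (b ≫ κ) (PowerSeries.coeff i (ps Φ f)) - PowerSeries.coeff i (ps Φ f) :=
        fun i => by rw [map_sub, map_sub, ps_tau Φ he _ f, PowerSeries.coeff_map]
      rw [← hc n]
      exact hlead h n (fun i hi => by rw [hc, ih i hi, sub_self]) b'
  refine eq_one_of_tau_eq fun f => ?_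
  have hring : ∀ f : ring Φ, tau (m ≫ κ) (f : Fld G) = f := fun f => Φ.injective (by
    rw [he, ← toLS_ps Φ f, lsMap_toLS]
    refine congrArg toLS (PowerSeries.ext fun n => ?_)
    rw [PowerSeries.coeff_map]
    exact hcoef n f m)
  rcases mem_or Φ f with hf | ⟨hf, -⟩
  · exact hring ⟨f, hf⟩
  · have := hring ⟨f⁻¹, hf⟩
    simpa [map_inv₀] using this

end

end Groth.Agent.Deform.Chev
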