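import Groth.Agent.Deform.Chev.Perfect
import Groth.Agent.Deform.Chev.PowIsogeny
import Groth.Agent.Deform.SplitCrit
import Groth.Agent.GrpSchLib.SubgroupDescent
import Groth.Agent.GeomField.Fibre

/-!
# Anti-affine groups in positive characteristic are semi-abelian
-/

universe u

open CategoryTheory CategoryTheory.Limits MonoidalCategory CartesianMonoidalCategory MonObj GrpObj AlgebraicGeometry

attribute [local instance] CategoryTheory.Hom.monoid CategoryTheory.Hom.group
set_option linter.style.haveILetI false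
set_option linter.unusedSectionVars false

namespace Groth.Agent.Deform.Chev.SemiAbelian

noncomputable section

/-- Base change preserves kernels. -/
theorem isKernel_bc {S S' : Scheme.{u}} (π : S' ⟶ S) {N G Q : Over S} [GrpObj G] [GrpObj Q] [GrpObj N] (i : N ⟶ G)
    (q : G ⟶ Q) (hk : AlgGrp.IsKernel i q) :
    AlgGrp.IsKernel ((Over.pullback π).map i) ((Over.pullback π).map q) := by
  let F := Over.pullback π
  refine IsPullback.of_iso (hk.map F) (Iso.refl _) (Iso.refl _) (Functor.Monoidal.εIso F).symm (Iso.refl _) ?_ ?_ ?_ ?_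
  · simp [F]
  · exact toUnit_unique _ _
  · simp [F]
  · simp only [Iso.refl_hom, Category.comp_id, Iso.symm_hom]
    show F.map η[Q] = (Functor.Monoidal.εIso F).inv ≫ Functor.LaxMonoidal.ε F ≫ F.map η[Q]
    rw [← Functor.Monoidal.εIso_hom, Iso.inv_hom_id_assoc]

/-- A quotient which becomes the target of a kernel map with proper quotient is proper. -/
theorem isProper_of_bc {k K : Type u} [Field k] [Field K] [Algebra k K] {G Q : Over (Spec (CommRingCat.of k))}
    {M A : Over (Spec (CommRingCat.of K))} [GrpObj G] [GrpObj Q] [GrpObj M] [GrpObj A] [QuasiCompact G.hom]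
    [LocallyOfFiniteType G.hom] [LocallyOfFiniteType Q.hom] [QuasiCompact Q.hom]
    (i : M ⟶ Red.bc (Spec.map (CommRingCat.ofHom (algebraMap k K))) G)
    (q₀ : Red.bc (Spec.map (CommRingCat.ofHom (algebraMap k K))) G ⟶ A) [IsMonHom q₀] [Flat q₀.left]
    [Surjective q₀.left] [IsProper A.hom] (hk₀ : AlgGrp.IsKernel i q₀) (q : G ⟶ Q) [IsMonHom q] [Surjective q.left]
    (hi : i ≫ (Over.pullback (Spec.map (CommRingCat.ofHom (algebraMap k K)))).map q = 1) : IsProper Q.hom := by
  let π := Spec.map (CommRingCat.ofHom (algebraMap k K))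
  let F := Over.pullback π
  haveI : Surjective (F.map q).left := MorphismProperty.overPullbackMap (P := @Surjective) π q ‹_›
  haveI : LocallyOfFiniteType (F.obj Q).hom := inferInstanceAs (LocallyOfFiniteType (pullback.snd Q.hom π))
  haveI : QuasiCompact (F.obj Q).hom := inferInstanceAs (QuasiCompact (pullback.snd Q.hom π))
  haveI : QuasiCompact (Red.bc π G).hom := inferInstanceAs (QuasiCompact (pullback.snd G.hom π))
  haveI : LocallyOfFiniteType (Red.bc π G).hom := inferInstanceAs (LocallyOfFiniteType (pullback.snd G.hom π))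
  haveI := quasiCompact_of_grp q₀
  obtain ⟨φ, hφ, hqφ, -⟩ := S3280.result _ (Red.bc π G) M A (F.obj Q) q₀ i hk₀ (F.map q) (hi.trans Hom.one_def)
  haveI : Surjective φ.left := by
    haveI : Surjective (q₀.left ≫ φ.left) := by rw [← Over.comp_left, hqφ]; infer_instance
    exact Surjective.of_comp q₀.left φ.left
  haveI : IsSeparated (F.obj Q).hom := GrpSchLib.AntiAffine.isSeparated_grp _
  haveI : UniversallyClosed (F.obj Q).hom := by
    haveI : UniversallyClosed (φ.left ≫ (F.obj Q).hom) := by rw [Over.w φ]; infer_instance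
    exact UniversallyClosed.of_comp_surjective φ.left (F.obj Q).hom
  haveI : IsProper (pullback.snd Q.hom π) := (IsProper.mk : IsProper (F.obj Q).hom)
  haveI : Surjective π := inferInstance
  have hπ : (@Surjective ⊓ @Flat ⊓ @QuasiCompact : MorphismProperty Scheme.{u}) π :=
    ⟨⟨inferInstance, inferInstance⟩, inferInstance⟩
  haveI := EtFound.fpqc_isProper.{u}
  exact MorphismProperty.of_isPullback_of_descendsAlong (P := @IsProper)
    (IsPullback.of_hasPullback Q.hom π).flip hπ inferInstance

variable {k : Type u} [Field k]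

/-- The affine part of an anti-affine group over an algebraically closed field of positive characteristic is a split
torus. -/
theorem split_affine_part [IsAlgClosed k] (p : ℕ) [Fact p.Prime] [CharP k p]
    {G L Q : Over (Spec (CommRingCat.of k))} [GrpObj G] [GrpObj L] [GrpObj Q] [IsCommMonObj G] [Smooth G.hom]
    [QuasiCompact G.hom] [ConnectedSpace G.left] (hG : Function.Bijective G.hom.appTop) (i : L ⟶ G) [IsMonHom i]
    [IsClosedImmersion i.left] [Smooth L.hom] [ConnectedSpace L.left] [IsAffine L.left] (q : G ⟶ Q) [IsMonHom q]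
    [Flat q.left] [Surjective q.left] [IsProper Q.hom] (hk : AlgGrp.IsKernel i q) :
    ∃ r : ℕ, Red.IsSplitTorusWith (Fin r → ℤ) L := by
  haveI : Mono i := (Over.forget _).mono_of_mono_map (inferInstanceAs (Mono i.left))
  haveI : IsCommMonObj L := Deform.Extension.isCommMonObj_of fun T x y => by
    rw [← cancel_mono i, MonObj.mul_comp, MonObj.mul_comp, mul_comm]
  refine SplitCrit.split_of_pow_surjective p fun m => ?_
  obtain ⟨hP, hPh⟩ := PowIsogeny.surjective_pow G hG (p ^ m) (pow_pos (Fact.out : p.Prime).pos m)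
  haveI := hP; haveI := hPh
  haveI : IsAffineHom L.hom := isAffineHom_of_isAffine _
  haveI : IsMonHom (𝟙 L ^ p ^ m : L ⟶ L) := by
    have hmul : ∀ {T : Over (Spec (CommRingCat.of k))} (a b : T ⟶ L), (a * b) ≫ (𝟙 L ^ p ^ m : L ⟶ L) =
        (a ≫ (𝟙 L ^ p ^ m : L ⟶ L)) * (b ≫ (𝟙 L ^ p ^ m : L ⟶ L)) := fun a b => by
      simp only [MonObj.comp_pow, Category.comp_id, mul_pow]
    constructor
    · rw [MonObj.one_eq_one, MonObj.comp_pow, Category.comp_id, one_pow]
    · rw [MonObj.mul_eq_mul, hmul, MonObj.comp_mul ((𝟙 L ^ p ^ m) ⊗ₘ (𝟙 L ^ p ^ m))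
        (fst L L) (snd L L), tensorHom_fst, tensorHom_snd]
  obtain ⟨J, iJ, s, c, hs, hc, hJa, hcc, hJl, hss, hsc⟩ :=
    AntiAffineParts.exists_affine_image (𝟙 L ^ p ^ m : L ⟶ L)
  letI := iJ
  haveI := hs; haveI := hc; haveI := hcc; haveI := hss
  haveI : IsClosedImmersion (c ≫ i).left := inferInstanceAs (IsClosedImmersion (c.left ≫ i.left))
  obtain ⟨R, iR, ρ, hρ, hρf, hρs, hRl, hRq, hkR⟩ := exists_quotient (c ≫ i)
    (fun T g n => ⟨n, (by rw [mul_comm g, mul_inv_cancel_right])⟩)
  letI := iR
  haveI := hρ; haveI := hρs; haveI := hRl; haveI := hRq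
  have h1 : i ≫ (𝟙 G ^ p ^ m : G ⟶ G) ≫ ρ = toUnit L ≫ η[R] := by
    rw [← Category.assoc, ← Deform.TorsionOrderScheme.pow_comm i, ← hsc]
    simp only [Category.assoc]
    rw [show c ≫ i ≫ ρ = 1 from (Category.assoc _ _ _).symm.trans hkR.w, MonObj.comp_one, Hom.one_def]
  haveI := quasiCompact_of_grp q
  obtain ⟨φ, hφ, hqφ, -⟩ := S3280.result k G L Q R q i hk ((𝟙 G ^ p ^ m : G ⟶ G) ≫ ρ) h1
  haveI : Surjective φ.left := by
    haveI : Surjective (q.left ≫ φ.left) := by rw [← Over.comp_left, hqφ, Over.comp_left]; infer_instance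
    exact Surjective.of_comp q.left φ.left
  haveI : IsSeparated R.hom := GrpSchLib.AntiAffine.isSeparated_grp _
  haveI : UniversallyClosed R.hom := by
    haveI : UniversallyClosed (φ.left ≫ R.hom) := by rw [Over.w φ]; infer_instance
    exact UniversallyClosed.of_comp_surjective φ.left R.hom
  haveI : IsProper R.hom := IsProper.mk
  obtain ⟨b, hb⟩ := exists_lift_kernel (c ≫ i) ρ hkR i (AVFactor.eq_one_of_affine _)
  have hbc : b ≫ c = 𝟙 L := by rw [← cancel_mono i, Category.assoc, hb, Category.id_comp]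
  haveI : Surjective c.left := ⟨fun x => ⟨b.left x, by rw [← Scheme.Hom.comp_apply, ← Over.comp_left, hbc]; rfl⟩⟩
  rw [← hsc, Over.comp_left]
  infer_instance

set_option maxHeartbeats 1000000 in
/-- Anti-affine groups in positive characteristic are extensions of abelian varieties by tori. -/
theorem exists_torus_part (p : ℕ) [Fact p.Prime] [CharP k p] (G : Over (Spec (CommRingCat.of k))) [GrpObj G]
    [LocallyOfFiniteType G.hom] [QuasiCompact G.hom] (hG : Function.Bijective G.hom.appTop) :
    ∃ (T : Over (Spec (CommRingCat.of k))) (_ : GrpObj T) (i : T ⟶ G) (A : Over (Spec (CommRingCat.of k)))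
      (_ : GrpObj A) (q : G ⟶ A), IsMonHom i ∧ IsClosedImmersion i.left ∧ Red.IsTorus T ∧ IsMonHom q ∧
      Surjective q.left ∧ Flat q.left ∧ AlgGrp.IsKernel i q ∧ IsProper A.hom ∧ Smooth A.hom ∧
      ConnectedSpace A.left := by
  haveI : Smooth G.hom := GrpSchLib.AntiAffineSmooth.smooth hG
  haveI := GrpSchLib.AntiAffine.connectedSpace_of_bijective hG
  haveI := GrpSchLib.AntiAffine.isSeparated_grp G
  have hcomm : ∀ (X : Over (Spec (CommRingCat.of k))) (x y : X ⟶ G), x * y = y * x := fun X x y => by
    have h := GrpSchLib.AntiAffine.commute hG (𝟙 G) (Category.comp_id _) x y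
    rwa [Category.comp_id] at h
  haveI : IsCommMonObj G := Deform.Extension.isCommMonObj_of hcomm
  let K : Type u := AlgebraicClosure k
  let P : IntermediateField k K := perfectClosure k K
  haveI : PerfectField P := perfectClosure.perfectField k K
  haveI : CharP P p := charP_of_injective_algebraMap (algebraMap k P).injective p
  haveI : CharP K p := charP_of_injective_algebraMap (algebraMap k K).injective p
  let π : Spec (CommRingCat.of P) ⟶ Spec (CommRingCat.of k) := Spec.map (CommRingCat.ofHom (algebraMap k P))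
  let τ : Spec (CommRingCat.of K) ⟶ Spec (CommRingCat.of P) := Spec.map (CommRingCat.ofHom (algebraMap P K))
  let F := Over.pullback π
  let E := Over.pullback τ
  haveI : Smooth (Red.bc π G).hom := inferInstanceAs (Smooth (pullback.snd G.hom π))
  haveI : QuasiCompact (Red.bc π G).hom := inferInstanceAs (QuasiCompact (pullback.snd G.hom π))
  have hGP : Function.Bijective (Red.bc π G).hom.appTop := GrpSchLib.AntiAffine.bijective_appTop_snd hG π
  haveI := GrpSchLib.AntiAffine.connectedSpace_of_bijective hGP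
  obtain ⟨L, iL, l, Q, iQ, q, hl, hlc, hLs, hLq, hLc, hLa, hLn, hq, hqf, hqs, hk, hQ, hQs, hQc⟩ :=
    Perfect.exists_decomp (Red.bc π G)
  letI := iL; letI := iQ
  haveI := hl; haveI := hlc; haveI := hLs; haveI := hLc; haveI := hLa; haveI := hq; haveI := hqf; haveI := hqs
  haveI := hQ
  -- the affine part becomes a split torus over the algebraic closure
  haveI : Smooth (Red.bc τ (Red.bc π G)).hom := inferInstanceAs (Smooth (pullback.snd (Red.bc π G).hom τ))
  haveI : QuasiCompact (Red.bc τ (Red.bc π G)).hom :=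
    inferInstanceAs (QuasiCompact (pullback.snd (Red.bc π G).hom τ))
  haveI := GrpSchLib.AntiAffine.isSeparated_grp (Red.bc π G)
  have hGK : Function.Bijective (Red.bc τ (Red.bc π G)).hom.appTop :=
    GrpSchLib.AntiAffine.bijective_appTop_snd hGP τ
  haveI := GrpSchLib.AntiAffine.connectedSpace_of_bijective hGK
  haveI : IsCommMonObj (Red.bc τ (Red.bc π G)) := Deform.Extension.isCommMonObj_of fun X =>
    Deform.Extension.comm_bc τ (fun Y => Deform.Extension.comm_bc π hcomm Y) X
  haveI : Smooth (E.obj L).hom := inferInstanceAs (Smooth (pullback.snd L.hom τ))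
  haveI : ConnectedSpace (E.obj L).left := GrpSchLib.AntiAffine.connectedSpace_bc L (algebraMap P K)
  haveI : IsAffineHom L.hom := isAffineHom_of_isAffine _
  haveI : IsAffine (E.obj L).left := inferInstanceAs (IsAffine (pullback L.hom τ))
  haveI : IsClosedImmersion (E.map l).left := MorphismProperty.overPullbackMap (P := @IsClosedImmersion) τ l hlc
  haveI : Surjective (E.map q).left := MorphismProperty.overPullbackMap (P := @Surjective) τ q hqs
  haveI : Flat (E.map q).left := MorphismProperty.overPullbackMap (P := @Flat) τ q hqf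
  haveI : IsProper (E.obj Q).hom := inferInstanceAs (IsProper (pullback.snd Q.hom τ))
  obtain ⟨r, hr⟩ := split_affine_part p hGK (E.map l) (E.map q) (isKernel_bc τ l q hk)
  have hT : Red.IsTorus L := Deform.TorusIsogeny.isTorus_of_geometric K hr
  -- descent
  haveI : Surjective π := inferInstance
  haveI : IsImmersion l.left := inferInstance
  obtain ⟨T, iT, t, ht, hti, -, φ, hφ⟩ := GrpSchLib.SubgroupDescent.exists_descent l (π := π)
    (fun V hV => ⟨π ⁻¹ᵁ V, (hV.preimage π).isCompact, Set.image_preimage_eq _ π.surjective⟩)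
    (Deform.isMultTypeFT_of_isTorus hT) (fun y => by
      letI : (Spec (CommRingCat.of P)).Over (Spec (CommRingCat.of k)) := ⟨π⟩
      have hbij := GeomField.bijective_bcFst_of_purelyInseparable (k := k) (X := Spec (CommRingCat.of P)) (K := P)
      obtain ⟨x, hx⟩ := hbij.2 y
      have e : pullback.fst π π ⁻¹' {y} = {x} :=
        Set.eq_singleton_iff_unique_mem.mpr ⟨hx, fun z hz => hbij.1 (hz.trans hx.symm)⟩
      rw [e]
      exact isConnected_singleton)
    (fun X g a => Deform.Extension.comm_bc π hcomm X g (a ≫ l))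
  letI := iT
  haveI := ht; haveI := hti
  haveI : Mono l := (Over.forget _).mono_of_mono_map (inferInstanceAs (Mono l.left))
  haveI : IsMonHom φ.hom := by
    constructor
    · rw [← cancel_mono l, Category.assoc, hφ, IsMonHom.one_hom (F.map t), IsMonHom.one_hom l]
    · rw [← cancel_mono l, Category.assoc, hφ, IsMonHom.mul_hom (F.map t), Category.assoc, IsMonHom.mul_hom l,
        ← Category.assoc (φ.hom ⊗ₘ φ.hom), MonoidalCategory.tensorHom_comp_tensorHom, hφ]
  haveI : IsClosedImmersion t.left := by
    haveI : IsIso φ.hom.left := ((Over.forget _).mapIso φ).isIso_hom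
    have h : IsClosedImmersion (F.map t).left := by rw [← hφ, Over.comp_left]; infer_instance
    haveI := EtFound.fpqc_isClosedImmersion.{u}
    have hcov : (@Surjective ⊓ @Flat ⊓ @QuasiCompact : MorphismProperty Scheme.{u}) (pullback.fst G.hom π) :=
      ⟨⟨inferInstance, inferInstance⟩, inferInstance⟩
    exact MorphismProperty.of_isPullback_of_descendsAlong (P := @IsClosedImmersion)
      (Deform.Extension.isPullback_map_left π t) hcov h
  have hTt : Red.IsTorus T := by
    obtain ⟨e1⟩ := GrpSchLib.MultTypeBC.bc_bc τ π T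
    have hc : τ ≫ π = Spec.map (CommRingCat.ofHom (algebraMap k K)) := by
      rw [← Spec.map_comp, ← CommRingCat.ofHom_comp, ← IsScalarTower.algebraMap_eq]
    obtain ⟨e2⟩ := GrpSchLib.MultTypeBC.bc_congr hc T
    obtain ⟨e3⟩ := GrpSchLib.MultTypeBC.bc_iso τ (Grp.mkIso' φ)
    obtain ⟨e4⟩ := hr
    exact Deform.TorusIsogeny.isTorus_of_geometric K ⟨(e1 ≪≫ e2).symm ≪≫ e3 ≪≫ e4⟩
  have hn : AlgGrp.IsNormalHom t := fun X g n => ⟨n, (by rw [hcomm X g, mul_inv_cancel_right])⟩
  obtain ⟨A, iA, α, hα, hαf, hαs, hAl, hAq, hkA⟩ := exists_quotient t hn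
  letI := iA
  haveI := hα; haveI := hαs; haveI := hAl; haveI := hAq; haveI := hαf
  refine ⟨T, iT, t, A, iA, α, ht, inferInstance, hTt, hα, hαs, hαf, hkA, ?_, GrpSchLib.smooth_of_quotient α,
    α.left.surjective.connectedSpace α.left.continuous⟩
  refine isProper_of_bc l q hk α ?_
  rw [← cancel_epi φ.hom, reassoc_of% hφ, ← F.map_comp, show t ≫ α = 1 from hkA.w,
    show F.map (1 : T ⟶ A) = 1 from map_one F.homMonoidHom, MonObj.comp_one]

end

end Groth.Agent.Deform.Chev.SemiAbelian
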