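import Groth.Agent.Deform.Chev.SmallestNormal
import Groth.Agent.Deform.Chev.StructCor
import Groth.Agent.Deform.Chev.SemiAbelian
import Groth.Agent.Deform.PowTorus
import Groth.Agent.Deform.TorusIsogeny
import Groth.Agent.GrpSchLib.MultTypeComm
import Groth.Agent.S7982

/-!
# Semi-abelian varieties: basic properties and descent
-/

universe u

open CategoryTheory CategoryTheory.Limits MonoidalCategory CartesianMonoidalCategory MonObj GrpObj AlgebraicGeometry

attribute [local instance] CategoryTheory.Hom.monoid CategoryTheory.Hom.group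
set_option linter.style.haveILetI false
set_option linter.unusedSectionVars false
set_option backward.isDefEq.respectTransparency false

namespace Groth.Agent.Deform.Chev.SemiAb

noncomputable section

variable {k : Type u} [Field k]

/-- A semi-abelian variety is smooth, connected and of finite type. -/
theorem smooth_connected {T G A : Over (Spec (CommRingCat.of k))} [GrpObj T] [GrpObj G] [GrpObj A]
    [LocallyOfFiniteType G.hom] [QuasiCompact G.hom] (i : T ⟶ G) [IsMonHom i] (hT : Red.IsTorus T)
    (q : G ⟶ A) [IsMonHom q] [Flat q.left] [Surjective q.left] [IsProper A.hom] [Smooth A.hom]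
    [ConnectedSpace A.left] (hk : AlgGrp.IsKernel i q) : Smooth G.hom ∧ ConnectedSpace G.left := by
  obtain ⟨hTa, hTl, hTs, hTc⟩ := Deform.TorusBasic.props hT
  haveI := hTa; haveI := hTl
  haveI : QuasiCompact T.hom := by
    haveI : IsAffineHom T.hom := isAffineHom_of_isAffine _
    infer_instance
  obtain ⟨-, h1, h2⟩ := S7982.result k T G A i q hk
  exact ⟨h1 hTs inferInstance, h2 hTc inferInstance⟩

/-- Over an algebraically closed field a semi-abelian variety is commutative. -/
theorem isCommMonObj [IsAlgClosed k] {T G A : Over (Spec (CommRingCat.of k))} [GrpObj T] [GrpObj G] [GrpObj A]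
    [LocallyOfFiniteType G.hom] [QuasiCompact G.hom] (i : T ⟶ G) [IsMonHom i] (hT : Red.IsTorus T)
    (q : G ⟶ A) [IsMonHom q] [Flat q.left] [Surjective q.left] [IsProper A.hom] [Smooth A.hom]
    [ConnectedSpace A.left] (hk : AlgGrp.IsKernel i q) : IsCommMonObj G := by
  obtain ⟨hGs, hGc⟩ := smooth_connected i hT q hk
  haveI := hGs; haveI := hGc
  obtain ⟨K, iK, κ, hκ, hκc, hKl, hKq, hKb, I, iI, p, hp, hI, hIl, hpf, hps, hkp⟩ := AntiAffineParts.exists_ant G
  letI := iK; letI := iI
  haveI := hκ; haveI := hKl; haveI := hKq; haveI := hp; haveI := hI; haveI := hIl; haveI := hpf; haveI := hps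
  haveI := AntiAffineParts.surjective_proper hKb κ p hkp q
  haveI := AntiAffineParts.surjective_mul i q hk κ
  haveI : IsCommMonObj T := Deform.Extension.isCommMonObj_of fun Y a b =>
    GrpSchLib.MultTypeComm.points_comm (Deform.isMultTypeFT_of_isTorus hT) a b
  exact StructCor.isCommMonObj_of_cover i κ fun a b =>
    GrpSchLib.AntiAffine.commute hKb κ ((IsMonHom.one_hom κ).trans (MonObj.one_eq_one G)) a b

theorem isMonHom_pow {G : Over (Spec (CommRingCat.of k))} [GrpObj G] [IsCommMonObj G] {N : Over (Spec (CommRingCat.of k))}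
    [GrpObj N] (f : N ⟶ G) [IsMonHom f] (n : ℕ) : IsMonHom (f ^ n) :=
  WittEndoLib.isMonHom_of_mul _ fun Y x y => by
    rw [MonObj.comp_pow, MonObj.comp_pow, MonObj.comp_pow, MonObj.mul_comp, mul_pow]

/-- Semi-abelian varieties descend from the algebraic closure. -/
theorem descent (G : Over (Spec (CommRingCat.of k))) [GrpObj G] [LocallyOfFiniteType G.hom] [QuasiCompact G.hom]
    {T A : Over (Spec (CommRingCat.of (AlgebraicClosure k)))} [GrpObj T] [GrpObj A]
    (i : T ⟶ Red.bc (Spec.map (CommRingCat.ofHom (algebraMap k (AlgebraicClosure k)))) G) [IsMonHom i]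
    [IsClosedImmersion i.left] (hT : Red.IsTorus T)
    (q : Red.bc (Spec.map (CommRingCat.ofHom (algebraMap k (AlgebraicClosure k)))) G ⟶ A) [IsMonHom q]
    [Flat q.left] [Surjective q.left] [IsProper A.hom] [Smooth A.hom] [ConnectedSpace A.left]
    (hk : AlgGrp.IsKernel i q) :
    ∃ (T : Over (Spec (CommRingCat.of k))) (_ : GrpObj T) (i : T ⟶ G) (A : Over (Spec (CommRingCat.of k)))
      (_ : GrpObj A) (q : G ⟶ A), IsMonHom i ∧ IsClosedImmersion i.left ∧ Red.IsTorus T ∧ IsMonHom q ∧
      Surjective q.left ∧ Flat q.left ∧ AlgGrp.IsKernel i q ∧ IsProper A.hom ∧ Smooth A.hom ∧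
      ConnectedSpace A.left := by
  let π := Spec.map (CommRingCat.ofHom (algebraMap k (AlgebraicClosure k)))
  let F := Over.pullback π
  haveI : LocallyOfFiniteType (Red.bc π G).hom := inferInstanceAs (LocallyOfFiniteType (pullback.snd G.hom π))
  haveI : QuasiCompact (Red.bc π G).hom := inferInstanceAs (QuasiCompact (pullback.snd G.hom π))
  obtain ⟨hGKs, hGKc⟩ := smooth_connected i hT q hk
  haveI := hGKs; haveI := hGKc
  haveI := isCommMonObj i hT q hk
  haveI : Surjective π := inferInstance
  haveI : Smooth G.hom := MorphismProperty.of_pullback_snd_of_descendsAlong (P := @Smooth)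
    (Q := @Surjective ⊓ @Flat ⊓ @QuasiCompact) (g := π) ⟨⟨inferInstance, inferInstance⟩, inferInstance⟩ hGKs
  haveI : ConnectedSpace ↥(pullback G.hom π) := hGKc
  haveI : ConnectedSpace G.left :=
    (pullback.fst G.hom π).surjective.connectedSpace (pullback.fst G.hom π).continuous
  haveI : IsCommMonObj G := Deform.Extension.isCommMonObj_of fun X x y => by
    refine F.map_injective ?_
    show F.homMonoidHom (x * y) = F.homMonoidHom (y * x)
    rw [map_mul, map_mul]
    exact Deform.Extension.mul_comm_of _ _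
  obtain ⟨N, iN, iN₁, hiN, hiNc, -, hNa, -, ⟨Q, iQ, q₁, hq₁, hq₁s, hq₁f, hkq₁, hQ⟩, -⟩ := SmallestNormal.main G
  letI := iN; letI := iQ
  haveI := hiN; haveI := hiNc; haveI := hNa; haveI := hq₁; haveI := hQ
  haveI : LocallyOfFiniteType N.hom := by rw [← Over.w iN₁]; infer_instance
  haveI : QuasiCompact N.hom := by rw [← Over.w iN₁]; infer_instance
  obtain ⟨hTa, hTl, hTs, hTc⟩ := Deform.TorusBasic.props hT
  haveI := hTa; haveI := hTl; haveI := hTs; haveI := hTc
  haveI : IsReduced T.left := GrpSchLib.isReduced_of_smooth_field T.hom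
  haveI : Mono i := (Over.forget _).mono_of_mono_map (inferInstanceAs (Mono i.left))
  haveI : IsProper (F.obj Q).hom := inferInstanceAs (IsProper (pullback.snd Q.hom π))
  obtain ⟨a, ha⟩ := exists_lift_kernel (F.map iN₁) (F.map q₁) (SemiAbelian.isKernel_bc π iN₁ q₁ hkq₁) i
    (AVFactor.eq_one_of_affine (i ≫ F.map q₁))
  -- a power of the affine part lands in the torus
  haveI : IsAffineHom N.hom := isAffineHom_of_isAffine _
  haveI : IsAffine (F.obj N).left := inferInstanceAs (IsAffine (pullback N.hom π))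
  haveI : LocallyOfFiniteType (F.obj N).hom := inferInstanceAs (LocallyOfFiniteType (pullback.snd N.hom π))
  obtain ⟨J, iJ, r, c, hr, hc, hJa, hcc, hJl, hrs, hrc⟩ := AntiAffineParts.exists_affine_image (F.map iN₁ ≫ q)
  letI := iJ
  haveI := hr; haveI := hc; haveI := hJa; haveI := hcc; haveI := hJl
  haveI : IsProper J.hom := by rw [← Over.w c]; infer_instance
  haveI : IsFinite J.hom := by
    rw [IsFinite.iff_isProper_and_isAffineHom]
    exact ⟨inferInstance, isAffineHom_of_isAffine _⟩
  obtain ⟨n, hn, hJn⟩ := Deform.PowTorus.exists_pow_eq_one J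
  have hkill : (F.map iN₁ ^ n) ≫ q = 1 := by
    rw [Deform.Extension.pow_comp_hom q, ← hrc, ← Deform.Extension.pow_comp_hom c,
      show r ^ n = r ≫ (𝟙 J ^ n) by rw [MonObj.comp_pow, Category.comp_id], hJn, MonObj.comp_one, MonObj.one_comp]
  haveI := isMonHom_pow iN₁ n
  obtain ⟨J₀, iJ₀, r₀, c₀, hr₀, hc₀, hrc₀, hcc₀, hrf₀, hrs₀, hJ₀l, hJ₀q⟩ :=
    GrpSchLib.ImageFactor.exists_image (iN₁ ^ n)
  letI := iJ₀
  haveI := hr₀; haveI := hc₀; haveI := hcc₀; haveI := hrf₀; haveI := hrs₀; haveI := hJ₀l; haveI := hJ₀q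
  haveI := quasiCompact_of_grp r₀
  haveI : IsClosedImmersion (F.map c₀).left := MorphismProperty.overPullbackMap (P := @IsClosedImmersion) π c₀ hcc₀
  have hFc : F.map r₀ ≫ F.map c₀ = F.map iN₁ ^ n := by
    rw [← F.map_comp, hrc₀]
    exact map_pow F.homMonoidHom iN₁ n
  haveI : Surjective (F.map r₀).left := MorphismProperty.overPullbackMap (P := @Surjective) π r₀ hrs₀
  haveI : Flat (F.map r₀).left := MorphismProperty.overPullbackMap (P := @Flat) π r₀ hrf₀
  haveI : QuasiCompact (F.map r₀).left := MorphismProperty.overPullbackMap (P := @QuasiCompact) π r₀ inferInstance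
  haveI : Epi (F.map r₀).left := Flat.epi_of_flat_of_surjective _
  haveI : Epi (F.map r₀) := (Over.forget _).epi_of_epi_map (inferInstanceAs (Epi (F.map r₀).left))
  obtain ⟨d, hd⟩ := exists_lift_kernel i q hk (F.map c₀) (by
    rw [← cancel_epi (F.map r₀), ← Category.assoc, hFc, hkill, MonObj.comp_one])
  haveI : IsClosedImmersion (d.left ≫ i.left) := by rw [← Over.comp_left, hd]; infer_instance
  haveI : IsClosedImmersion d.left := IsClosedImmersion.of_comp d.left i.left
  have hpow : a ≫ F.map r₀ ≫ d = (𝟙 T ^ n : T ⟶ T) := by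
    rw [← cancel_mono i, Category.assoc, Category.assoc, hd, hFc, MonObj.comp_pow, ha, Deform.Extension.pow_comp_hom i,
      Category.id_comp]
  haveI : Surjective ((a ≫ F.map r₀).left ≫ d.left) := by
    rw [← Over.comp_left, Category.assoc, hpow]
    exact (Deform.PowTorus.flat_surjective_pow hT hn).2
  haveI : Surjective d.left := Surjective.of_comp (a ≫ F.map r₀).left d.left
  haveI : IsIso d.left := isIso_of_isClosedImmersion_of_surjective d.left
  haveI : IsIso d := by
    haveI : IsIso ((Over.forget _).map d) := inferInstanceAs (IsIso d.left)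
    exact isIso_of_reflects_iso d (Over.forget _)
  haveI : IsMonHom d := Deform.isMonHom_of_comp d i hd
  have hT₀ : Red.IsTorus J₀ := by
    obtain ⟨m, ⟨e⟩⟩ := Deform.exists_split T hT
    exact Deform.TorusIsogeny.isTorus_of_geometric (AlgebraicClosure k) ⟨Grp.mkIso' (asIso d) ≪≫ e⟩
  have hn₀ : AlgGrp.IsNormalHom c₀ := fun X g x => ⟨x, by
    rw [Deform.Extension.mul_comm_of g, mul_inv_cancel_right]⟩
  obtain ⟨A₀, iA₀, α, hα, hαf, hαs, hAl, hAq, hkα⟩ := exists_quotient c₀ hn₀
  letI := iA₀
  haveI := hα; haveI := hαf; haveI := hαs; haveI := hAl; haveI := hAq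
  refine ⟨J₀, iJ₀, c₀, A₀, iA₀, α, hc₀, hcc₀, hT₀, hα, hαs, hαf, hkα,
    SemiAbelian.isProper_of_bc i q hk α ?_, GrpSchLib.smooth_of_quotient α,
    α.left.surjective.connectedSpace α.left.continuous⟩
  rw [← cancel_epi d, MonObj.comp_one, reassoc_of% hd, ← F.map_comp, show c₀ ≫ α = 1 from hkα.w]
  exact map_one F.homMonoidHom

end

end Groth.Agent.Deform.Chev.SemiAb
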