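import Groth.Agent.Deform.Chev.SemiAbMax
import Groth.Agent.Deform.SubgroupLift
import Groth.Agent.Deform.GreatestTorus
import Groth.Agent.Deform.DiagMaps
import Groth.Agent.UnipComp.Powers
import Groth.Agent.UnipComp.Max
import Groth.Agent.Deform.MultUnipAlmost
import Groth.Agent.Deform.Transporter
import Groth.Agent.Deform.Chev.PowIsogeny

/-!
# Commutative groups without semi-abelian subvarieties have finite exponent in positive characteristic
-/

universe u

open CategoryTheory CategoryTheory.Limits MonoidalCategory CartesianMonoidalCategory MonObj GrpObj AlgebraicGeometry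
open TensorProduct WithConv

attribute [local instance] CategoryTheory.Hom.monoid CategoryTheory.Hom.group
set_option linter.style.haveILetI false
set_option linter.unusedSectionVars false
set_option backward.isDefEq.respectTransparency false

namespace Groth.Agent.Deform.Chev.SemiAbExt

open GrpSchLib.AffineHopf (sp spIso spMap exists_hopf nonempty_DS_iso)

noncomputable section

variable {k : Type u} [Field k]

theorem pow_eq_one_of_iso {S : Scheme.{u}} {X Y : Over S} [GrpObj X] [GrpObj Y] (f : X ⟶ Y) [IsMonHom f] [Epi f]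
    {n : ℕ} (h : (𝟙 X ^ n : X ⟶ X) = 1) : (𝟙 Y ^ n : Y ⟶ Y) = 1 := by
  rw [← cancel_epi f, MonObj.comp_one, MonObj.comp_pow, Category.comp_id, ← Category.id_comp f,
    ← Deform.Extension.pow_comp_hom, h, MonObj.one_comp]

set_option maxHeartbeats 800000 in
/-- A group of multiplicative type without tori has finite exponent. -/
theorem exponent_multType {H : Over (Spec (CommRingCat.of k))} [GrpObj H] (hH : SGA3x.IsMultTypeFT H)
    (h : ∀ (T : Over (Spec (CommRingCat.of k))) [GrpObj T] (v : T ⟶ H) [IsMonHom v] [Mono v], Red.IsTorus T → v = 1) :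
    ∃ n : ℕ, 0 < n ∧ (𝟙 H ^ n : H ⟶ H) = 1 := by
  classical
  obtain ⟨T, iT, i, hi, him, hT, -, huniv⟩ := Deform.GreatestTorus.exists_greatest hH
  letI := iT; haveI := hi; haveI := him
  have hi1 : i = 1 := h T i hT
  let K : Type u := AlgebraicClosure k
  let g : Spec (CommRingCat.of K) ⟶ Spec (CommRingCat.of k) := Spec.map (CommRingCat.ofHom (algebraMap k K))
  obtain ⟨M, iM, hM, ⟨e⟩⟩ := Deform.exists_diag (Red.bc g H) (GrpSchLib.MultTypeBC.isMultTypeFT_bc g hH)
  haveI := hM
  obtain ⟨N, iN, hN, ⟨cN⟩⟩ := QuasiIsotrivial.exists_small M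
  haveI := hN
  obtain ⟨a⟩ := nonempty_DS_iso K N
  let e' : Grp.mk (Red.DS (Spec (CommRingCat.of K)) N) ≅ Grp.mk (Red.bc g H) :=
    a.symm ≪≫ spIso (QuasiIsotrivial.congrEquiv K cN.symm) ≪≫ e
  let f : Red.DS (Spec (CommRingCat.of K)) N ⟶ Red.bc g H := e'.hom.hom.hom
  haveI : IsMonHom f := e'.hom.hom.isMonHom_hom
  haveI : IsIso f := ((Grp.forget _).mapIso e').isIso_hom
  have hchar : ∀ χ : N →+ ℤ, χ = 0 := fun χ => by
    let pr : (Fin 1 → ℤ) →+ ℤ := Pi.evalAddMonoidHom (fun _ => ℤ) 0
    let up : ℤ →+ (Fin 1 → ℤ) := Pi.constAddMonoidHom (Fin 1) ℤ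
    obtain ⟨l, hl⟩ := huniv g (Red.DS (Spec (CommRingCat.of K)) (Fin 1 → ℤ))
      (Red.DSmap (Spec (CommRingCat.of K)) (up.comp χ) ≫ f) (Deform.isTorus_of_split 1 ⟨Iso.refl _⟩)
    have h1 : Red.DSmap (Spec (CommRingCat.of K)) (up.comp χ) = 1 := by
      rw [← cancel_mono f, MonObj.one_comp, ← hl, hi1, show (Over.pullback g).map (1 : T ⟶ H) = 1 from
        map_one (Over.pullback g).homMonoidHom, MonObj.comp_one]
    let B := MonoidAlgebra K (Multiplicative (Fin 1 → ℤ))
    let j : Spec (CommRingCat.of B) ⟶ Spec (CommRingCat.of K) := Spec.map (CommRingCat.ofHom (algebraMap K B))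
    letI : Algebra (ULift.{u} ℤ) B := ((algebraMap ℤ B).comp ULift.ringEquiv.toRingHom).toAlgebra
    let c : DSPtsLib.CoordM.{u} (Fin 1 → ℤ) →+* B :=
      GrpSchLib.HomMonoLocus.charOf (R := ULift.{u} ℤ) (MonoidAlgebra.of K (Multiplicative (Fin 1 → ℤ)))
    have h2 := congrArg (DSPtsLib.pt j c ≫ ·) h1
    simp only [MonObj.comp_one, DiagMaps.pt_DSmap] at h2
    refine AddMonoidHom.ext fun x => ?_
    have h3 := DiagMaps.pt_single_eq_one j h2 (Multiplicative.ofAdd x)
    rw [GrpSchLib.SubgroupFactor.pull_single] at h3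
    simp only [c, GrpSchLib.HomMonoLocus.charOf_single] at h3
    rw [← map_one (MonoidAlgebra.of K (Multiplicative (Fin 1 → ℤ)))] at h3
    have h4 := MonoidAlgebra.of_injective h3
    simpa [up] using congrFun (congrArg Multiplicative.toAdd h4) 0
  haveI : Module.Finite ℤ N := Module.Finite.iff_addGroup_fg.mpr hN
  have htor : Module.IsTorsion ℤ N := by
    let Q := N ⧸ Submodule.torsion ℤ N
    haveI : Module.Free ℤ Q := inferInstance
    intro x
    have hx : Submodule.Quotient.mk (p := Submodule.torsion ℤ N) x = 0 := by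
      refine (Module.Free.chooseBasis ℤ Q).forall_coord_eq_zero_iff.mp fun i => ?_
      exact DFunLike.congr_fun
        (hchar (((Module.Free.chooseBasis ℤ Q).coord i ∘ₗ (Submodule.torsion ℤ N).mkQ).toAddMonoidHom)) x
    exact (Submodule.Quotient.mk_eq_zero _).mp hx
  haveI : Finite N := Module.finite_of_fg_torsion N htor
  refine ⟨Nat.card N, Nat.card_pos, ?_⟩
  haveI : Surjective g := inferInstance
  haveI : QuasiCompact g := inferInstance
  haveI : Flat g := inferInstance
  have hK : (𝟙 (Red.bc g H) ^ Nat.card N : Red.bc g H ⟶ Red.bc g H) = 1 := by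
    have h0 : (𝟙 (Red.DS (Spec (CommRingCat.of K)) N) ^ Nat.card N : _ ⟶ Red.DS (Spec (CommRingCat.of K)) N) = 1 := by
      rw [Deform.PowTorus.pow_DS, show Nat.card N • AddMonoidHom.id N = 0 from AddMonoidHom.ext fun x => by simp,
        DiagMaps.DSmap_zero]
    exact pow_eq_one_of_iso f h0
  rw [← Deform.Extension.pow_bc] at hK
  haveI : Epi (pullback.fst H.hom g) := Flat.epi_of_flat_of_surjective _
  refine Over.OverMorphism.ext ((cancel_epi (pullback.fst H.hom g)).mp ?_)
  have h1 := congrArg (fun m => m.left ≫ pullback.fst H.hom g) hK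
  have h2 : (Over.pullback g).map (1 : H ⟶ H) = 1 := map_one (Over.pullback g).homMonoidHom
  skip
  rw [← h2, (Deform.Extension.isPullback_map_left g _).w, (Deform.Extension.isPullback_map_left g _).w] at h1
  exact h1

open GrpSchLib.AffineHopf (exists_bialgHom)

theorem isSemiAb_torus {T : Over (Spec (CommRingCat.of k))} [GrpObj T] (hT : Red.IsTorus T) : IsSemiAb T := by
  obtain ⟨hTa, hTl, hTs, hTc⟩ := Deform.TorusBasic.props hT
  haveI : ConnectedSpace ↥(𝟙_ (Over (Spec (CommRingCat.of k)))).left :=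
    inferInstanceAs (ConnectedSpace (PrimeSpectrum k))
  haveI := hTl
  haveI : Flat T.hom := Deform.AffineKernel.flat_over_field _
  haveI : Surjective T.hom :=
    ⟨fun x => ⟨η[T].left (IsLocalRing.closedPoint k), Subsingleton.elim (α := PrimeSpectrum k) _ _⟩⟩
  haveI : IsMonHom (toUnit T) := WittEndoLib.isMonHom_of_mul _ fun _ _ _ => toUnit_unique _ _
  haveI : IsIso η[𝟙_ (Over (Spec (CommRingCat.of k)))] := ⟨toUnit _, toUnit_unique _ _, toUnit_unique _ _⟩
  exact ⟨T, inferInstance, 𝟙 T, 𝟙_ _, inferInstance, toUnit T, inferInstance, by rw [Over.id_left]; infer_instance,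
    hT, inferInstance, inferInstanceAs (Surjective T.hom), inferInstanceAs (Flat T.hom),
    IsPullback.of_horiz_isIso ⟨toUnit_unique _ _⟩, inferInstanceAs (IsProper (𝟙 (Spec (CommRingCat.of k)))),
    inferInstanceAs (Smooth (𝟙 (Spec (CommRingCat.of k)))), inferInstance⟩

theorem eq_one_of_isIso_eta {X Y : Over (Spec (CommRingCat.of k))} [GrpObj X] [GrpObj Y] [IsIso η[X]]
    (f : X ⟶ Y) [IsMonHom f] : f = 1 := by
  rw [← cancel_epi η[X], MonObj.comp_one, IsMonHom.one_hom]
  exact MonObj.one_eq_one Y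

/-- A monomorphism from a torus to an affine group is a closed immersion. -/
theorem isClosedImmersion_of_torus {T X : Over (Spec (CommRingCat.of k))} [GrpObj T] [GrpObj X]
    [IsAffineHom X.hom] (hT : Red.IsTorus T) (v : T ⟶ X) [IsMonHom v] [Mono v] :
    IsClosedImmersion v.left :=
  Deform.isClosedImmersion_of_mono (Deform.isMultType_of_ft (Deform.isMultTypeFT_of_isTorus hT)) v

set_option maxHeartbeats 1000000 in
/-- In positive characteristic a commutative affine group without tori has finite exponent. -/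
theorem exponent_affine (p : ℕ) [Fact p.Prime] [CharP k p] {G : Over (Spec (CommRingCat.of k))} [GrpObj G]
    [IsCommMonObj G] [LocallyOfFiniteType G.hom] [IsAffine G.left]
    (h : ∀ (S : Over (Spec (CommRingCat.of k))) [GrpObj S] (s : S ⟶ G) [IsMonHom s] [IsClosedImmersion s.left],
      IsSemiAb S → IsIso η[S]) : ∃ n : ℕ, 0 < n ∧ (𝟙 G ^ n : G ⟶ G) = 1 := by
  classical
  obtain ⟨A, _, _, ⟨eA⟩⟩ := exists_hopf G
  let a : sp k A ⟶ G := eA.hom.hom.hom
  haveI : IsMonHom a := eA.hom.hom.isMonHom_hom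
  haveI : IsIso a := ((Grp.forget _).mapIso eA).isIso_hom
  haveI : IsIso a.left := ((Grp.forget _ ⋙ Over.forget _).mapIso eA).isIso_hom
  haveI : Coalgebra.IsCocomm k A := S14691.isCocomm_of_iso a
  haveI : Algebra.FiniteType k A := QuasiIsotrivial.finiteType_sp eA
  obtain ⟨J, hJi, hJm, -, B, _, _, φ, hφ, hJeq, hU⟩ := UnipComp.exists_max_multType k A
  haveI := hJi
  let π : A →ₐc[k] A ⧸ J := Bialgebra.Quotient.mkBialgHom J
  let H := sp k (A ⧸ J)
  haveI : Algebra.FiniteType k (A ⧸ J) := inferInstance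
  have hH : SGA3x.IsMultTypeFT H := by
    obtain ⟨R', iR', iA', hff, hd⟩ := hJm
    exact Deform.isMultTypeFT_sp (MultTypeLib.isMultType_of_ff R' hd)
  haveI : IsMonHom (spMap (π : A →ₐ[k] A ⧸ J)) := inferInstance
  let j : H ⟶ G := spMap (π : A →ₐ[k] A ⧸ J) ≫ a
  haveI : IsClosedImmersion j.left := by
    haveI : IsClosedImmersion (spMap (π : A →ₐ[k] A ⧸ J)).left :=
      IsClosedImmersion.spec_of_surjective _ Ideal.Quotient.mk_surjective
    exact inferInstanceAs (IsClosedImmersion ((spMap (π : A →ₐ[k] A ⧸ J)).left ≫ a.left))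
  haveI : Mono j := (Over.forget _).mono_of_mono_map (inferInstanceAs (Mono j.left))
  haveI : IsAffineHom G.hom := isAffineHom_of_isAffine _
  obtain ⟨m, hm, hHm⟩ := exponent_multType hH fun T _ v _ _ hT => by
    haveI : IsClosedImmersion (v ≫ j).left := isClosedImmersion_of_torus hT (v ≫ j)
    haveI := h T (v ≫ j) (isSemiAb_torus hT)
    exact eq_one_of_isIso_eta v
  -- the exponent of the unipotent quotient
  haveI : CharP A p := by
    haveI : Nontrivial A := ⟨⟨0, 1, fun e => by
      have := congrArg (Bialgebra.counitAlgHom k A) e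
      rw [map_zero, map_one] at this
      exact zero_ne_one this⟩⟩
    exact charP_of_injective_algebraMap (algebraMap k A).injective p
  have hlev : ∀ b : B, ∃ r, b ∈ ComodLib.uniLevel k B r := fun b =>
    (Submodule.mem_iSup_of_directed _ (ComodLib.uniLevel_mono (k := k) (A := B)).directed_le).mp
      (ComodLib.iSup_uniLevel_eq_top hU ▸ Submodule.mem_top : b ∈ ⨆ r, ComodLib.uniLevel k B r)
  choose r hr using hlev
  haveI : IsNoetherianRing A := Algebra.FiniteType.isNoetherianRing k A
  obtain ⟨t, ht, hspan⟩ := (Submodule.fg_span_iff_fg_span_finset_subset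
    ((fun b => φ b) '' {b : B | Coalgebra.counit (R := k) b = 0})).mp (IsNoetherian.noetherian
      (Ideal.span ((fun b => φ b) '' {b : B | Coalgebra.counit (R := k) b = 0})))
  obtain ⟨w, hw, rfl⟩ := Finset.subset_set_image_iff.mp ht
  let s := w.sup r
  let f : WithConv (B →ₐ[k] A) := toConv (φ : B →ₐ[k] A)
  have hagree : ∀ n, UnipComp.Points.AgreeOn n (f ^ p ^ n) 1 := fun n => by
    induction n with
    | zero =>
      intro b hb
      rw [ComodLib.uniLevel_zero, Submodule.mem_span_singleton] at hb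
      obtain ⟨c, rfl⟩ := hb
      simp
    | succ n ih => rw [pow_succ, pow_mul]; exact UnipComp.Powers.pow_mem_level p ih
  have hkill : ∀ x ∈ J, SGA3b.powConv k A (p ^ s) x = 0 := fun x hx => by
    refine (Ideal.span_le.mpr ?_ : Ideal.span ((fun b => φ b) '' (w : Set B)) ≤
      RingHom.ker (SGA3b.powConv k A (p ^ s)).toRingHom) ?_
    · rintro _ ⟨b, hb, rfl⟩
      show SGA3b.powConv k A (p ^ s) (φ b) = 0
      rw [Deform.TorsionOrder.powConv_map φ]
      have h2 := hagree s b (ComodLib.uniLevel_mono (Finset.le_sup hb) (hr b))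
      rw [MultUnip.pow_eq_powConv, AlgHom.convOne_apply, show Coalgebra.counit (R := k) b = 0 from hw hb,
        map_zero] at h2
      exact h2
    · rw [hJeq] at hx
      have e : Ideal.map (φ : B →+* A) (RingHom.ker (Bialgebra.counitAlgHom k B)) =
          Ideal.span ((fun b => φ b) '' (w : Set B)) := by
        rw [← Finset.coe_image]
        exact hspan
      exact e ▸ hx
  -- the power lands in the multiplicative part
  let ψ : A ⧸ J →ₐ[k] A := Ideal.Quotient.liftₐ J (SGA3b.powConv k A (p ^ s)) hkill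
  refine ⟨p ^ s * m, Nat.mul_pos (pow_pos (Fact.out : p.Prime).pos s) hm, ?_⟩
  have hψ : (𝟙 (sp k A) ^ (p ^ s) : sp k A ⟶ sp k A) = spMap ψ ≫ spMap (π : A →ₐ[k] A ⧸ J) := by
    rw [Deform.TorsionOrderScheme.spMap_powConv, GrpSchLib.AffineHopf.spMap_comp]
    rfl
  refine pow_eq_one_of_iso a ?_
  have hHm' : spMap (π : A →ₐ[k] A ⧸ J) ^ m = 1 := by
    rw [← Category.id_comp (spMap (π : A →ₐ[k] A ⧸ J)), ← Deform.Extension.pow_comp_hom, hHm, MonObj.one_comp]
  rw [pow_mul, hψ, ← MonObj.comp_pow, hHm', MonObj.comp_one]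

/-- In positive characteristic a commutative group without semi-abelian subvarieties has finite exponent. -/
theorem exponent (p : ℕ) [Fact p.Prime] [CharP k p] {G : Over (Spec (CommRingCat.of k))} [GrpObj G]
    [IsCommMonObj G] [LocallyOfFiniteType G.hom] [QuasiCompact G.hom]
    (h : ∀ (S : Over (Spec (CommRingCat.of k))) [GrpObj S] (s : S ⟶ G) [IsMonHom s] [IsClosedImmersion s.left],
      IsSemiAb S → IsIso η[S]) : ∃ n : ℕ, 0 < n ∧ (𝟙 G ^ n : G ⟶ G) = 1 := by
  obtain ⟨K, iK, κ, hκ, hκc, hKl, hKq, hKb, I, iI, q, hq, hI, hIl, hqf, hqs, hk⟩ := AntiAffineParts.exists_ant G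
  letI := iK; letI := iI
  haveI := hκ; haveI := hκc; haveI := hKl; haveI := hKq; haveI := hq; haveI := hI; haveI := hIl
  haveI := h K κ (SemiAbelian.exists_torus_part p K hKb)
  haveI : IsIso η[K].left := ((Over.forget _).mapIso (asIso η[K])).isIso_hom
  haveI : IsAffine (𝟙_ (Over (Spec (CommRingCat.of k)))).left := inferInstanceAs (IsAffine (Spec (CommRingCat.of k)))
  haveI : IsAffine K.left := IsAffine.of_isIso (inv η[K].left)
  haveI : IsAffine G.left := isAffine_of_ker q κ hk
  exact exponent_affine p h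

/-- A semi-abelian variety of finite exponent is trivial. -/
theorem isIso_eta_of_exponent {S : Over (Spec (CommRingCat.of k))} [GrpObj S] [LocallyOfFiniteType S.hom]
    [QuasiCompact S.hom] (hS : IsSemiAb S) {n : ℕ} (hn : 0 < n) (h : (𝟙 S ^ n : S ⟶ S) = 1) : IsIso η[S] := by
  obtain ⟨hs, -⟩ := hS.smooth_connected
  haveI := hs
  obtain ⟨T, iT, t, A, iA, α, ht, htc, hT, hα, hαs, hαf, hkα, hA, hAs, hAc⟩ := hS
  letI := iT; letI := iA
  haveI := ht; haveI := htc; haveI := hα; haveI := hαs; haveI := hA; haveI := hAs; haveI := hAc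
  haveI : Mono t := (Over.forget _).mono_of_mono_map (inferInstanceAs (Mono t.left))
  have hT1 : (𝟙 T ^ n : T ⟶ T) = 1 := by
    rw [← cancel_mono t, Deform.Extension.pow_comp_hom t, Category.id_comp, MonObj.one_comp]
    have := congrArg (t ≫ ·) h
    simpa [MonObj.comp_pow] using this
  have hA1 : (𝟙 A ^ n : A ⟶ A) = 1 := by
    haveI : Epi α := by
      haveI := quasiCompact_of_grp α
      haveI := hαf
      haveI : Epi α.left := Flat.epi_of_flat_of_surjective _
      exact (Over.forget _).epi_of_epi_map (inferInstanceAs (Epi α.left))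
    exact pow_eq_one_of_iso α h
  haveI hTsub : Subsingleton T.left := by
    have hs := (Deform.PowTorus.flat_surjective_pow hT hn).2
    rw [hT1, Hom.one_def, Over.comp_left] at hs
    haveI : Subsingleton ↥(𝟙_ (Over (Spec (CommRingCat.of k)))).left := inferInstanceAs (Subsingleton (PrimeSpectrum k))
    haveI : Surjective η[T].left := Surjective.of_comp (toUnit T).left η[T].left
    exact η[T].left.surjective.subsingleton
  haveI hAsub : Subsingleton A.left := by
    haveI : GeometricallyIntegral A.hom := AVFactor.geometricallyIntegral_smooth A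
    haveI : Subsingleton ↥(Spec (CommRingCat.of k)) := inferInstanceAs (Subsingleton (PrimeSpectrum k))
    have hs := AVMulN.surjective_pow (A := A) n hn
    rw [hA1, Hom.one_def, Over.comp_left] at hs
    haveI : Subsingleton ↥(𝟙_ (Over (Spec (CommRingCat.of k)))).left := inferInstanceAs (Subsingleton (PrimeSpectrum k))
    haveI : Surjective η[A].left := Surjective.of_comp (toUnit A).left η[A].left
    exact η[A].left.surjective.subsingleton
  haveI : Subsingleton S.left := by
    refine ⟨fun x y => ?_⟩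
    have hall : ∀ x : S.left, ∃ z, t.left z = x := fun x => by
      obtain ⟨z, hz, -⟩ := Scheme.Pullback.exists_preimage_pullback x
        (IsLocalRing.closedPoint k : ↥(𝟙_ (Over (Spec (CommRingCat.of k)))).left)
        (Subsingleton.elim (α.left x) (η[A].left _))
      let sq : IsPullback t.left (toUnit T).left α.left η[A].left := hkα.map (Over.forget _)
      exact ⟨sq.isoPullback.inv z, by rw [← Scheme.Hom.comp_apply, sq.isoPullback_inv_fst]; exact hz⟩
    obtain ⟨x', rfl⟩ := hall x
    obtain ⟨y', rfl⟩ := hall y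
    rw [Subsingleton.elim x' y']
  haveI := GrpSchLib.AntiAffine.isSeparated_grp S
  haveI : IsClosedImmersion η[S].left := by
    haveI : IsClosedImmersion (η[S].left ≫ S.hom) := by
      rw [Over.w]; exact inferInstanceAs (IsClosedImmersion (𝟙 (Spec (CommRingCat.of k))))
    exact IsClosedImmersion.of_comp η[S].left S.hom
  haveI : IsReduced S.left := GrpSchLib.isReduced_of_smooth_field S.hom
  haveI : Surjective η[S].left :=
    ⟨fun x => ⟨(IsLocalRing.closedPoint k : ↥(𝟙_ (Over (Spec (CommRingCat.of k)))).left), Subsingleton.elim _ _⟩⟩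
  haveI : IsIso η[S].left := isIso_of_isClosedImmersion_of_surjective η[S].left
  haveI : IsIso ((Over.forget _).map η[S]) := inferInstanceAs (IsIso η[S].left)
  exact isIso_of_reflects_iso η[S] (Over.forget _)

/-- Multiplication by a positive integer on a semi-abelian variety is flat, surjective and finite. -/
theorem pow_props {S : Over (Spec (CommRingCat.of k))} [GrpObj S] [IsCommMonObj S] [LocallyOfFiniteType S.hom]
    [QuasiCompact S.hom] (hS : IsSemiAb S) {n : ℕ} (hn : 0 < n) :
    Flat (𝟙 S ^ n : S ⟶ S).left ∧ Surjective (𝟙 S ^ n : S ⟶ S).left ∧ IsFinite (𝟙 S ^ n : S ⟶ S).left := by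
  obtain ⟨hs, -⟩ := hS.smooth_connected
  haveI := hs
  haveI : IsReduced S.left := GrpSchLib.isReduced_of_smooth_field S.hom
  haveI := GrpSchLib.AntiAffine.isSeparated_grp S
  haveI : IsMonHom (𝟙 S ^ n : S ⟶ S) := SemiAb.isMonHom_pow (𝟙 S) n
  have hsurj : Surjective (𝟙 S ^ n : S ⟶ S).left := by
    obtain ⟨J, iJ, r, c, hr, hc, hrc, hcc, hrf, hrs, hJl, hJq⟩ :=
      GrpSchLib.ImageFactor.exists_image (𝟙 S ^ n : S ⟶ S)
    letI := iJ
    haveI := hr; haveI := hc; haveI := hcc; haveI := hrs; haveI := hJl; haveI := hJq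
    obtain ⟨R, iR, ρ, hρ, hρf, hρs, hRl, hRq, hkρ⟩ := exists_quotient c (fun X x y => ⟨y, by
      rw [Deform.Extension.mul_comm_of x, mul_inv_cancel_right]⟩)
    letI := iR
    haveI := hρ; haveI := hρf; haveI := hρs; haveI := hRl; haveI := hRq
    haveI := quasiCompact_of_grp ρ
    haveI : IsCommMonObj R := isCommMonObj_of_quotient ρ
    haveI : Epi ρ := by
      haveI : Epi ρ.left := Flat.epi_of_flat_of_surjective _
      exact (Over.forget _).epi_of_epi_map (inferInstanceAs (Epi ρ.left))
    have hR : (𝟙 R ^ n : R ⟶ R) = 1 := by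
      rw [← cancel_epi ρ, MonObj.comp_one, MonObj.comp_pow, Category.comp_id, ← Category.id_comp ρ,
        ← Deform.Extension.pow_comp_hom, ← hrc, Category.assoc, show c ≫ ρ = 1 from hkρ.w, MonObj.comp_one]
    haveI := isIso_eta_of_exponent (quotient ρ hS) hn hR
    obtain ⟨d, hd⟩ := exists_lift_kernel c ρ hkρ (𝟙 S) (by
      rw [Category.id_comp]
      have h2 : (𝟙 R : R ⟶ R) = 1 := eq_one_of_isIso_eta _
      rw [← Category.comp_id ρ, h2, MonObj.comp_one])
    rw [← hrc, Over.comp_left]
    haveI : Surjective c.left :=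
      ⟨fun x => ⟨d.left x, by rw [← Scheme.Hom.comp_apply, ← Over.comp_left, hd]; rfl⟩⟩
    infer_instance
  haveI := hsurj
  haveI := quasiCompact_of_grp (𝟙 S ^ n : S ⟶ S)
  refine ⟨GrpSchLib.flat_of_surjective_hom _, hsurj, ?_⟩
  obtain ⟨T, iT, t, A, iA, α, ht, htc, hT, hα, hαs, hαf, hkα, hA, hAs, hAc⟩ := hS
  letI := iT; letI := iA
  haveI := ht; haveI := hα; haveI := hαs; haveI := hαf; haveI := hA; haveI := hAs; haveI := hAc
  haveI : GeometricallyIntegral A.hom := AVFactor.geometricallyIntegral_smooth A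
  haveI := quasiCompact_of_grp α
  exact Deform.Extension.isFinite_pow hkα (Deform.Extension.covers_of_fpqc α) n
    (Deform.Extension.isFinite_pow_multType n hn (Deform.isMultTypeFT_of_isTorus hT))
    (AVMulN.isFinite_pow (A := A) n hn)

/-- Where a multiple of the identity factors through a semi-abelian subvariety, the latter and the torsion generate. -/
theorem exists_torsion_complement {G S : Over (Spec (CommRingCat.of k))} [GrpObj G] [IsCommMonObj G] [GrpObj S]
    [LocallyOfFiniteType G.hom] [QuasiCompact G.hom] (s : S ⟶ G) [IsMonHom s] [IsClosedImmersion s.left]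
    (hS : IsSemiAb S) {n : ℕ} (hn : 0 < n) (ν : G ⟶ S) (hν : ν ≫ s = (𝟙 G ^ n : G ⟶ G)) :
    ∃ (H : Over (Spec (CommRingCat.of k))) (_ : GrpObj H) (h : H ⟶ G), IsMonHom h ∧ IsClosedImmersion h.left ∧
      Flat ((s ⊗ₘ h) ≫ μ[G]).left ∧ Surjective ((s ⊗ₘ h) ≫ μ[G]).left ∧
      IsFinite (pullback.fst s.left h.left ≫ S.hom) := by
  haveI : LocallyOfFiniteType S.hom := by rw [← Over.w s]; infer_instance
  haveI : QuasiCompact S.hom := by rw [← Over.w s]; infer_instance
  haveI : Mono s := (Over.forget _).mono_of_mono_map (inferInstanceAs (Mono s.left))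
  haveI : IsCommMonObj S := Deform.Extension.isCommMonObj_of fun X x y => by
    rw [← cancel_mono s, MonObj.mul_comp, MonObj.mul_comp, mul_comm]
  obtain ⟨hnf, hns, hnfin⟩ := pow_props hS hn
  haveI := hnf; haveI := hns; haveI := hnfin
  haveI : IsMonHom (𝟙 G ^ n : G ⟶ G) := SemiAb.isMonHom_pow (𝟙 G) n
  haveI := GrpSchLib.AntiAffine.isSeparated_grp G
  obtain ⟨H, iH, h, hhm, hhc, -, hkh⟩ := GrpSchLib.exists_kernel (𝟙 G ^ n : G ⟶ G)
  letI := iH
  haveI := hhm; haveI := hhc
  haveI : Mono h := (Over.forget _).mono_of_mono_map (inferInstanceAs (Mono h.left))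
  have hpow : ∀ {X : Over (Spec (CommRingCat.of k))} (x : X ⟶ G), x ≫ (𝟙 G ^ n : G ⟶ G) = x ^ n := fun x => by
    rw [MonObj.comp_pow, Category.comp_id]
  have hh : h ^ n = 1 := (hpow h).symm.trans hkh.w
  have e : (s ⊗ₘ h) ≫ μ[G] = (fst S H ≫ s) * (snd S H ≫ h) := by
    rw [Hom.mul_def, ← lift_map, lift_fst_snd, Category.id_comp]
  have hw : ((s ⊗ₘ h) ≫ μ[G]) ≫ ν = fst S H ≫ (𝟙 S ^ n : S ⟶ S) := by
    rw [← cancel_mono s, Category.assoc, hν, hpow, e, mul_pow, Category.assoc, Deform.Extension.pow_comp_hom s,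
      Category.id_comp, show (snd S H ≫ h) ^ n = snd S H ≫ (h ^ n) from (MonObj.comp_pow _ _ _).symm, hh,
      MonObj.comp_one, _root_.mul_one]
    try exact (MonObj.comp_pow _ _ _).symm
  have sq : IsPullback ((s ⊗ₘ h) ≫ μ[G]) (fst S H) ν (𝟙 S ^ n : S ⟶ S) :=
    IsPullback.of_isLimit' ⟨hw⟩ (PullbackCone.IsLimit.mk _
      (fun c => lift c.snd (hkh.lift (c.fst * (c.snd ≫ s)⁻¹) (toUnit _) (by
        have h2 := congrArg (· ≫ s) c.condition
        simp only [Category.assoc, hν, hpow, Deform.Extension.pow_comp_hom s, Category.id_comp,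
          MonObj.comp_pow] at h2
        rw [hpow, mul_pow, inv_pow, h2, mul_inv_cancel, Hom.one_def])))
      (fun c => by
        rw [e, MonObj.comp_mul, lift_fst_assoc, lift_snd_assoc, hkh.lift_fst, mul_comm c.fst,
          mul_inv_cancel_left])
      (fun c => lift_fst _ _)
      (fun c x hx1 hx2 => by
        apply CartesianMonoidalCategory.hom_ext
        · rw [lift_fst]; exact hx2
        · rw [lift_snd, ← cancel_mono h, hkh.lift_fst, Category.assoc]
          have h3 : (x ≫ fst S H ≫ s) * (x ≫ snd S H ≫ h) = c.fst := by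
            rw [← MonObj.comp_mul, ← e]; exact hx1
          rw [← h3, ← hx2, Category.assoc, mul_inv_eq_iff_eq_mul.mpr (mul_comm _ _)]))
  have sq' : IsPullback ((s ⊗ₘ h) ≫ μ[G]).left (fst S H).left ν.left (𝟙 S ^ n : S ⟶ S).left :=
    sq.map (Over.forget _)
  refine ⟨H, iH, h, hhm, hhc, MorphismProperty.of_isPullback (P := @Flat) sq'.flip hnf,
    MorphismProperty.of_isPullback (P := @Surjective) sq'.flip hns, ?_⟩
  -- the intersection is killed by n
  let W : Over (Spec (CommRingCat.of k)) := Over.mk (pullback.fst s.left h.left ≫ S.hom)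
  let a : W ⟶ S := Over.homMk (pullback.fst s.left h.left) rfl
  let b : W ⟶ H := Over.homMk (pullback.snd s.left h.left) (by
    show pullback.snd s.left h.left ≫ H.hom = pullback.fst s.left h.left ≫ S.hom
    rw [← Over.w h, ← Over.w s, pullback.condition_assoc])
  have hab : a ≫ s = b ≫ h := Over.OverMorphism.ext pullback.condition
  have hker : a ≫ (𝟙 S ^ n : S ⟶ S) = toUnit W ≫ η[S] := by
    rw [← Hom.one_def, ← cancel_mono s, MonObj.one_comp, Category.assoc, Deform.Extension.pow_comp_hom s,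
      Category.id_comp, MonObj.comp_pow, hab, ← MonObj.comp_pow, hh, MonObj.comp_one]
  haveI : IsClosedImmersion a.left := inferInstanceAs (IsClosedImmersion (pullback.fst s.left h.left))
  haveI : IsFinite (W.hom ≫ η[S].left) := by
    have h2 : a.left ≫ (𝟙 S ^ n : S ⟶ S).left = W.hom ≫ η[S].left := congrArg CommaMorphism.left hker
    rw [← h2]
    infer_instance
  haveI : IsSeparated (η[S].left ≫ S.hom) := by
    rw [Over.w]; exact inferInstanceAs (IsSeparated (𝟙 (Spec (CommRingCat.of k))))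
  haveI : IsSeparated η[S].left := IsSeparated.of_comp η[S].left S.hom
  exact IsFinite.of_comp W.hom η[S].left

/-- A positive multiple of the identity lands in the largest semi-abelian subvariety. -/
theorem exists_pow_factor (p : ℕ) [Fact p.Prime] [CharP k p] {G S : Over (Spec (CommRingCat.of k))} [GrpObj G]
    [IsCommMonObj G] [LocallyOfFiniteType G.hom] [QuasiCompact G.hom] [GrpObj S] (s : S ⟶ G) [IsMonHom s]
    [IsClosedImmersion s.left] (hS : IsSemiAb S)
    (hmax : ∀ (S' : Over (Spec (CommRingCat.of k))) [GrpObj S'] (s' : S' ⟶ G) [IsMonHom s']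
      [IsClosedImmersion s'.left], IsSemiAb S' → ∃ g : S' ⟶ S, g ≫ s = s') :
    ∃ (n : ℕ) (ν : G ⟶ S), 0 < n ∧ ν ≫ s = (𝟙 G ^ n : G ⟶ G) := by
  obtain ⟨Q, iQ, q, hq, hqf, hqs, hQl, hQq, hkq⟩ := exists_quotient s (fun X x y => ⟨y, by
    rw [Deform.Extension.mul_comm_of x, mul_inv_cancel_right]⟩)
  letI := iQ
  haveI := hq; haveI := hqf; haveI := hqs; haveI := hQl; haveI := hQq
  haveI := quasiCompact_of_grp q
  haveI : IsCommMonObj Q := isCommMonObj_of_quotient q
  obtain ⟨n, hn, hQn⟩ := exponent p (G := Q) fun S₂ _ s₂ _ _ h₂ => trivial_of_quotient s hS hmax q hkq s₂ h₂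
  obtain ⟨ν, hν⟩ := exists_lift_kernel s q hkq (𝟙 G ^ n : G ⟶ G) (by
    rw [Deform.Extension.pow_comp_hom q, Category.id_comp, ← Category.comp_id q, ← MonObj.comp_pow, hQn,
      MonObj.comp_one])
  exact ⟨n, ν, hn, hν⟩

/-- A smooth group with one point is trivial. -/
theorem isIso_eta_of_subsingleton (S : Over (Spec (CommRingCat.of k))) [GrpObj S] [Smooth S.hom]
    [Subsingleton S.left] : IsIso η[S] := by
  haveI := GrpSchLib.AntiAffine.isSeparated_grp S
  haveI : IsClosedImmersion η[S].left := by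
    haveI : IsClosedImmersion (η[S].left ≫ S.hom) := by
      rw [Over.w]; exact inferInstanceAs (IsClosedImmersion (𝟙 (Spec (CommRingCat.of k))))
    exact IsClosedImmersion.of_comp η[S].left S.hom
  haveI : IsReduced S.left := GrpSchLib.isReduced_of_smooth_field S.hom
  haveI : Surjective η[S].left :=
    ⟨fun x => ⟨(IsLocalRing.closedPoint k : ↥(𝟙_ (Over (Spec (CommRingCat.of k)))).left), Subsingleton.elim _ _⟩⟩
  haveI : IsIso η[S].left := isIso_of_isClosedImmersion_of_surjective η[S].left
  haveI : IsIso ((Over.forget _).map η[S]) := inferInstanceAs (IsIso η[S].left)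
  exact isIso_of_reflects_iso η[S] (Over.forget _)

theorem eq_one_of_isIso_eta' {X Y : Over (Spec (CommRingCat.of k))} [GrpObj Y] [IsIso η[Y]] (f : X ⟶ Y) : f = 1 := by
  rw [← cancel_mono (inv η[Y])]
  exact toUnit_unique _ _

end

end Groth.Agent.Deform.Chev.SemiAbExt
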