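import Groth.Agent.Deform.Chev.SemiAb
import Groth.Agent.Deform.Chev.QuasiCompl
import Groth.Agent.GrpSchLib.CharZeroPts
import Groth.Agent.GrpSchLib.MultTypeBC

/-!
# Quotients and extensions of semi-abelian varieties
-/

universe u

open CategoryTheory CategoryTheory.Limits MonoidalCategory CartesianMonoidalCategory MonObj GrpObj AlgebraicGeometry

attribute [local instance] CategoryTheory.Hom.monoid CategoryTheory.Hom.group
set_option linter.style.haveILetI false
set_option linter.unusedSectionVars false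
set_option backward.isDefEq.respectTransparency false

namespace Groth.Agent.Deform.Chev.SemiAbExt

open GrpSchLib.AffineHopf (sp spIso nonempty_DS_iso)

noncomputable section

variable {k : Type u} [Field k]

/-- An extension of a proper smooth connected group by a torus. -/
abbrev IsSemiAb (G : Over (Spec (CommRingCat.of k))) [GrpObj G] : Prop :=
  ∃ (T : Over (Spec (CommRingCat.of k))) (_ : GrpObj T) (i : T ⟶ G) (A : Over (Spec (CommRingCat.of k)))
    (_ : GrpObj A) (q : G ⟶ A), IsMonHom i ∧ IsClosedImmersion i.left ∧ Red.IsTorus T ∧ IsMonHom q ∧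
    Surjective q.left ∧ Flat q.left ∧ AlgGrp.IsKernel i q ∧ IsProper A.hom ∧ Smooth A.hom ∧
    ConnectedSpace ↥A.left

theorem IsSemiAb.smooth_connected {G : Over (Spec (CommRingCat.of k))} [GrpObj G] [LocallyOfFiniteType G.hom]
    [QuasiCompact G.hom] (h : IsSemiAb G) : Smooth G.hom ∧ ConnectedSpace G.left := by
  obtain ⟨T, iT, i, A, iA, q, hi, -, hT, hq, hqs, hqf, hk, hA, hAs, hAc⟩ := h
  exact SemiAb.smooth_connected i hT q hk

/-- Morphisms out of smooth schemes are detected by rational points over an algebraically closed field. -/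
theorem ext_points [IsAlgClosed k] {H Y : Over (Spec (CommRingCat.of k))} [Smooth H.hom] [IsSeparated Y.hom]
    (u v : H ⟶ Y) (h : ∀ x : 𝟙_ (Over (Spec (CommRingCat.of k))) ⟶ H, x ≫ u = x ≫ v) : u = v := by
  let e : 𝟙_ (Over (Spec (CommRingCat.of k))) ≅ GrpSchLib.CharZeroPts.P k k :=
    Over.isoMk (Iso.refl _) (by simp [GrpSchLib.CharZeroPts.P])
  have h1 := GrpSchLib.CharZeroPts.hom_ext_of_points (K := k) (snd (GrpSchLib.CharZeroPts.P k k) H ≫ u)
    (snd (GrpSchLib.CharZeroPts.P k k) H ≫ v) fun x => by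
      simp only [lift_snd_assoc]
      rw [← cancel_epi e.hom, ← Category.assoc, ← Category.assoc]
      exact h (e.hom ≫ x)
  have h2 := congrArg (lift (toUnit H ≫ e.hom) (𝟙 H) ≫ ·) h1
  simpa using h2

/-- A quotient of a proper group is proper. -/
theorem isProper_of_surjective {A Q : Over (Spec (CommRingCat.of k))} [GrpObj Q] [IsProper A.hom]
    [LocallyOfFiniteType Q.hom] (φ : A ⟶ Q) [Surjective φ.left] : IsProper Q.hom := by
  haveI : IsSeparated Q.hom := GrpSchLib.AntiAffine.isSeparated_grp Q
  haveI : UniversallyClosed Q.hom := by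
    haveI : UniversallyClosed (φ.left ≫ Q.hom) := by rw [Over.w φ]; infer_instance
    exact UniversallyClosed.of_comp_surjective φ.left Q.hom
  exact IsProper.mk

/-- Factorisation through a quotient. -/
theorem exists_desc {G N Q H : Over (Spec (CommRingCat.of k))} [GrpObj G] [GrpObj Q] [GrpObj H]
    [LocallyOfFiniteType G.hom] [QuasiCompact G.hom] [LocallyOfFiniteType Q.hom] [LocallyOfFiniteType H.hom]
    [QuasiCompact H.hom] (q : G ⟶ Q) [IsMonHom q] [Flat q.left] [Surjective q.left] (i : N ⟶ G)
    (hk : AlgGrp.IsKernel i q) (f : G ⟶ H) [IsMonHom f] (hf : i ≫ f = 1) :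
    ∃ φ : Q ⟶ H, IsMonHom φ ∧ q ≫ φ = f := by
  haveI : CompactSpace G.left := QuasiCompact.compactSpace_of_compactSpace G.hom
  haveI : CompactSpace Q.left := q.left.surjective.compactSpace q.left.continuous
  haveI : QuasiCompact Q.hom := (quasiCompact_iff_compactSpace Q.hom).mpr inferInstance
  obtain ⟨φ, hφ, hqφ, -⟩ := S3280.result k G N Q H q i hk f (hf.trans Hom.one_def)
  exact ⟨φ, hφ, hqφ⟩

/-- Over an algebraically closed field a smooth connected group of multiplicative type is a split torus. -/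
theorem split_of_multType [IsAlgClosed k] {E : Over (Spec (CommRingCat.of k))} [GrpObj E] [IsAffine E.left]
    [Smooth E.hom] [ConnectedSpace E.left] (hE : SGA3x.IsMultTypeFT E) :
    ∃ r : ℕ, Red.IsSplitTorusWith (Fin r → ℤ) E := by
  obtain ⟨M, iM, hM, ⟨e⟩⟩ := Deform.exists_diag E hE
  haveI : IsAffineHom E.hom := isAffineHom_of_isAffine _
  haveI : IsIntegral E.left := GrpSchLib.Kunneth.isIntegral_grp E
  haveI : IsIso e.hom.hom.hom.left := ((Grp.forget _ ⋙ Over.forget _).mapIso e).isIso_hom
  haveI : IsIntegral (Spec (CommRingCat.of (MonoidAlgebra k M))) := by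
    haveI : Nonempty ↥(Spec (CommRingCat.of (MonoidAlgebra k M))) :=
      ⟨(asIso e.hom.hom.hom.left).inv (Classical.arbitrary _)⟩
    exact isIntegral_of_isOpenImmersion e.hom.hom.hom.left
  haveI : IsDomain (MonoidAlgebra k M) := (affine_isIntegral_iff (CommRingCat.of _)).mp inferInstance
  have htf : ∀ (x : M) (n : ℕ), n ≠ 0 → x ^ n = 1 → x = 1 := fun x n hn hx => by
    let s : MonoidAlgebra k M := MonoidAlgebra.single x 1
    have hs : s ^ n = 1 := by
      simp [s, MonoidAlgebra.single_pow, hx, MonoidAlgebra.one_def]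
    have hint : IsIntegral k s := ⟨Polynomial.X ^ n - 1, Polynomial.monic_X_pow_sub_C 1 hn, by simp [hs]⟩
    obtain ⟨c, hc⟩ := minpoly.mem_range_of_degree_eq_one k s
      (IsAlgClosed.degree_eq_one_of_irreducible k (minpoly.irreducible hint))
    rw [MonoidAlgebra.coe_algebraMap, Function.comp_apply] at hc
    by_contra hne
    have h1 := congrArg (fun f : MonoidAlgebra k M => f.coeff x) hc
    simp [s, Ne.symm hne] at h1
  haveI : Module.Finite ℤ (Additive M) := Module.Finite.iff_addGroup_fg.mpr (by haveI := hM; infer_instance)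
  haveI : IsAddTorsionFree (Additive M) := ⟨fun n hn x y h => sub_eq_zero.mp (by
    have h' : (Additive.toMul (x - y)) ^ n = 1 := by
      have : n • (x - y) = 0 := by rw [nsmul_sub, sub_eq_zero]; exact h
      simpa using congrArg Additive.toMul this
    exact Additive.toMul.injective (htf _ n hn h'))⟩
  haveI : Module.Free ℤ (Additive M) := inferInstance
  let b := (Module.finBasis ℤ (Additive M)).equivFun.toAddEquiv
  let c : M ≃* Multiplicative (Fin (Module.finrank ℤ (Additive M)) → ℤ) :=
    (MulEquiv.multiplicativeAdditive M).symm.trans b.toMultiplicative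
  obtain ⟨a⟩ := nonempty_DS_iso k (Fin (Module.finrank ℤ (Additive M)) → ℤ)
  exact ⟨_, ⟨e.symm ≪≫ spIso (QuasiIsotrivial.congrEquiv k c.symm) ≪≫ a⟩⟩

/-- A smooth connected group of multiplicative type is a torus. -/
theorem isTorus_of_multType {E : Over (Spec (CommRingCat.of k))} [GrpObj E] [IsAffine E.left]
    [Smooth E.hom] [ConnectedSpace E.left] (hE : SGA3x.IsMultTypeFT E) : Red.IsTorus E := by
  let K : Type u := AlgebraicClosure k
  let g : Spec (CommRingCat.of K) ⟶ Spec (CommRingCat.of k) := Spec.map (CommRingCat.ofHom (algebraMap k K))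
  haveI : IsAffineHom E.hom := isAffineHom_of_isAffine _
  haveI : IsAffineHom (pullback.snd E.hom g) := MorphismProperty.pullback_snd (P := @IsAffineHom) _ _ ‹_›
  haveI : IsAffine (Red.bc g E).left := isAffine_of_isAffineHom (pullback.snd E.hom g)
  haveI : Smooth (Red.bc g E).hom := inferInstanceAs (Smooth (pullback.snd E.hom g))
  haveI : ConnectedSpace (Red.bc g E).left := GrpSchLib.AntiAffine.connectedSpace_bc E (algebraMap k K)
  obtain ⟨r, hr⟩ := split_of_multType (GrpSchLib.MultTypeBC.isMultTypeFT_bc g hE)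
  exact Deform.TorusIsogeny.isTorus_of_geometric K hr

/-- An extension of a torus by a torus is a torus. -/
theorem isTorus_extension {E H K : Over (Spec (CommRingCat.of k))} [GrpObj E] [GrpObj H] [GrpObj K]
    [LocallyOfFiniteType E.hom] [QuasiCompact E.hom] (p : E ⟶ K) [IsMonHom p] [Surjective p.left] [Flat p.left]
    (i : H ⟶ E) [IsMonHom i] (hker : AlgGrp.IsKernel i p) (hH : Red.IsTorus H) (hK : Red.IsTorus K) :
    Red.IsTorus E := by
  obtain ⟨hHa, hHl, hHs, hHc⟩ := Deform.TorusBasic.props hH
  obtain ⟨hKa, hKl, hKs, hKc⟩ := Deform.TorusBasic.props hK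
  haveI := hHa; haveI := hHl; haveI := hKa; haveI := hKl
  haveI : IsAffineHom H.hom := isAffineHom_of_isAffine _
  haveI : IsAffineHom K.hom := isAffineHom_of_isAffine _
  haveI := quasiCompact_of_grp p
  obtain ⟨h1, h2, h3⟩ := S7982.result k H E K i p hker
  haveI := h1 hHa hKa; haveI := h2 hHs hKs; haveI := h3 hHc hKc
  have hHm := Deform.isMultTypeFT_of_isTorus hH
  have hKm := Deform.isMultTypeFT_of_isTorus hK
  haveI : IsCommMonObj E := Deform.Extension.isCommMonObj_of
    (Deform.Extension.comm_of_connected p i hker hHm hKm fun s => by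
      haveI : Unique ↥(Spec (CommRingCat.of k)) := inferInstanceAs (Unique (PrimeSpectrum k))
      rw [show K.hom.base ⁻¹' {s} = Set.univ from Set.eq_univ_of_forall fun x => Subsingleton.elim _ _]
      exact isConnected_univ)
  exact isTorus_of_multType (Deform.Extension.isMultTypeFT_of_comm p i hker hHm hKm)

/-- An extension of a semi-abelian variety by a torus is semi-abelian. -/
theorem of_torus_kernel {G S T₁ : Over (Spec (CommRingCat.of k))} [GrpObj G] [GrpObj S] [GrpObj T₁]
    [LocallyOfFiniteType G.hom] [QuasiCompact G.hom] [LocallyOfFiniteType S.hom] [QuasiCompact S.hom]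
    (i : T₁ ⟶ G) [IsMonHom i] [IsClosedImmersion i.left] (hT₁ : Red.IsTorus T₁) (π : G ⟶ S) [IsMonHom π]
    [Flat π.left] [Surjective π.left] (hk : AlgGrp.IsKernel i π) (hS : IsSemiAb S) : IsSemiAb G := by
  obtain ⟨T, iT, t, A, iA, α, ht, htc, hT, hα, hαs, hαf, hkα, hA, hAs, hAc⟩ := hS
  letI := iT; letI := iA
  haveI := ht; haveI := htc; haveI := hα; haveI := hαs; haveI := hαf; haveI := hA
  obtain ⟨M, iM, m, hm, hmc, -, hkm⟩ := GrpSchLib.exists_kernel (π ≫ α)
  letI := iM
  haveI := hm; haveI := hmc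
  obtain ⟨g, hg⟩ := exists_lift_kernel t α hkα (m ≫ π) ((Category.assoc _ _ _).trans hkm.w)
  haveI : Mono t := (Over.forget _).mono_of_mono_map (inferInstanceAs (Mono t.left))
  haveI : Mono m := (Over.forget _).mono_of_mono_map (inferInstanceAs (Mono m.left))
  haveI : IsMonHom g := Deform.isMonHom_of_comp g t hg
  have sq : IsPullback m g π t :=
    IsPullback.of_isLimit' ⟨hg.symm⟩ (PullbackCone.IsLimit.mk _
      (fun s => hkm.lift s.fst (toUnit _) (by
        rw [← Category.assoc, s.condition, Category.assoc, show t ≫ α = 1 from hkα.w, MonObj.comp_one, Hom.one_def]))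
      (fun s => hkm.lift_fst _ _ _)
      (fun s => by rw [← cancel_mono t, Category.assoc, hg, ← Category.assoc, hkm.lift_fst, s.condition])
      (fun s x hx _ => by rw [← cancel_mono m, hkm.lift_fst]; exact hx))
  have sq' := (sq.map (Over.forget _)).flip
  haveI : Flat g.left := MorphismProperty.of_isPullback (P := @Flat) sq'.flip ‹_›
  haveI : Surjective g.left := MorphismProperty.of_isPullback (P := @Surjective) sq'.flip ‹_›
  haveI : LocallyOfFiniteType M.hom := by rw [← Over.w m]; infer_instance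
  haveI : QuasiCompact M.hom := by rw [← Over.w m]; infer_instance
  obtain ⟨u, hu⟩ := exists_lift_kernel m (π ≫ α) hkm i (by
    rw [← Category.assoc, show i ≫ π = 1 from hk.w, MonObj.one_comp])
  haveI : IsMonHom u := Deform.isMonHom_of_comp u m hu
  have hug : u ≫ g = 1 := by
    rw [← cancel_mono t, Category.assoc, hg, ← Category.assoc, hu, MonObj.one_comp]
    exact hk.w
  have hker : AlgGrp.IsKernel u g :=
    IsPullback.of_isLimit' ⟨hug.trans Hom.one_def⟩ (PullbackCone.IsLimit.mk _
      (fun s => hk.lift (s.fst ≫ m) (toUnit _) (by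
        rw [Category.assoc, ← hg, ← Category.assoc, s.condition, Category.assoc, IsMonHom.one_hom t,
          toUnit_unique s.snd (toUnit _)]))
      (fun s => by rw [← cancel_mono m, Category.assoc, hu, hk.lift_fst])
      (fun s => toUnit_unique _ _)
      (fun s x hx _ => hk.hom_ext (by rw [hk.lift_fst, ← hu, ← Category.assoc, hx]) (toUnit_unique _ _)))
  exact ⟨M, iM, m, A, iA, π ≫ α, hm, hmc, isTorus_extension g u hker hT₁ hT, inferInstance,
    inferInstanceAs (Surjective (π.left ≫ α.left)), inferInstanceAs (Flat (π.left ≫ α.left)), hkm, hA, hAs, hAc⟩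

/-- A homomorphism of smooth connected groups with finite kernel to a commutative group has commutative source. -/
theorem comm_of_finite_kernel [IsAlgClosed k] {G H N : Over (Spec (CommRingCat.of k))} [GrpObj G] [GrpObj H]
    [IsCommMonObj H] [Smooth G.hom] [QuasiCompact G.hom] [ConnectedSpace G.left] (f : G ⟶ H) [IsMonHom f]
    (n : N ⟶ G) [IsFinite N.hom] (hk : AlgGrp.IsKernel n f) : IsCommMonObj G := by
  haveI := GrpSchLib.AntiAffine.isSeparated_grp G
  haveI : ConnectedSpace (G ⊗ G).left := connectedSpace_tensor G G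
  haveI : Smooth (G ⊗ G).hom := inferInstanceAs (Smooth (pullback.fst G.hom G.hom ≫ G.hom))
  let c : G ⊗ G ⟶ G := fst G G * snd G G * (fst G G)⁻¹ * (snd G G)⁻¹
  have hc : c ≫ f = 1 := by
    simp only [c, MonObj.mul_comp, GrpObj.inv_comp]
    rw [mul_comm (fst G G ≫ f) (snd G G ≫ f), mul_inv_cancel_right, mul_inv_cancel]
  let d : G ⊗ G ⟶ N := hk.lift c (toUnit _) hc
  haveI : JacobsonSpace N.left := LocallyOfFiniteType.jacobsonSpace N.hom
  haveI : Finite N.left := by
    have h := N.hom.finite_preimage_singleton (IsLocalRing.closedPoint k)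
    rw [show N.hom ⁻¹' {IsLocalRing.closedPoint k} = Set.univ from
      Set.eq_univ_of_forall fun x => Subsingleton.elim (α := PrimeSpectrum k) _ _] at h
    exact Set.finite_univ_iff.mp h
  haveI : DiscreteTopology N.left := inferInstance
  have hd : c = 1 := by
    refine ext_points c 1 fun x => ?_
    rw [MonObj.comp_one]
    refine pimg_injective ?_
    have e : d ≫ n = c := hk.lift_fst _ _ _
    have h1 : (1 : 𝟙_ (Over (Spec (CommRingCat.of k))) ⟶ G ⊗ G) ≫ c = 1 := by
      simp only [c, MonObj.comp_mul, GrpObj.comp_inv]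
      simp [Hom.one_def]
    conv_rhs => rw [← h1, ← e]
    rw [← e]
    exact congrArg n.left (PreconnectedSpace.constant inferInstance (d.left).continuous (x := pimg x)
      (y := pimg (1 : 𝟙_ (Over (Spec (CommRingCat.of k))) ⟶ G ⊗ G)))
  refine Deform.Extension.isCommMonObj_of fun T x y => ?_
  have h := congrArg (lift x y ≫ ·) hd
  simp only [c, MonObj.comp_mul, GrpObj.comp_inv, lift_fst, lift_snd, MonObj.comp_one] at h
  rwa [mul_inv_eq_one, mul_inv_eq_iff_eq_mul] at h

set_option maxHeartbeats 1000000 in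
/-- An extension of a semi-abelian variety by a proper group is semi-abelian. -/
theorem of_proper_kernel [IsAlgClosed k] {G S K : Over (Spec (CommRingCat.of k))} [GrpObj G] [GrpObj S]
    [Smooth G.hom] [QuasiCompact G.hom] [ConnectedSpace G.left] [LocallyOfFiniteType S.hom] [QuasiCompact S.hom]
    (π : G ⟶ S) [IsMonHom π] [Surjective π.left] (iK : K ⟶ G) [IsProper K.hom] (hkπ : AlgGrp.IsKernel iK π)
    (hS : IsSemiAb S) : IsSemiAb G := by
  obtain ⟨T, iT, t, A, iA, α, ht, htc, hT, hα, hαs, hαf, hkα, hA, hAs, hAc⟩ := hS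
  letI := iT; letI := iA
  haveI := ht; haveI := htc; haveI := hα; haveI := hαs; haveI := hαf; haveI := hA
  haveI : IsCommMonObj S := SemiAb.isCommMonObj t hT α hkα
  obtain ⟨hTa, hTl, hTs, hTc⟩ := Deform.TorusBasic.props hT
  haveI := hTa; haveI := hTl; haveI := hTs; haveI := hTc
  haveI : IsAffineHom T.hom := isAffineHom_of_isAffine _
  obtain ⟨L, iL, l, Q, iQ, q, hl, hlc, hLs, hLq, hLc, hLa, hLn, hq, hqf, hqs, hkq, hQ, hQs, hQc⟩ :=
    Perfect.exists_decomp G
  letI := iL; letI := iQ
  haveI := hl; haveI := hlc; haveI := hLs; haveI := hLq; haveI := hLc; haveI := hLa; haveI := hq; haveI := hqf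
  haveI := hqs; haveI := hQ
  obtain ⟨g, hg⟩ := exists_lift_kernel t α hkα (l ≫ π) (by
    rw [Category.assoc]
    exact AVFactor.eq_one_of_affine (l ≫ π ≫ α))
  haveI : Mono t := (Over.forget _).mono_of_mono_map (inferInstanceAs (Mono t.left))
  haveI : Mono l := (Over.forget _).mono_of_mono_map (inferInstanceAs (Mono l.left))
  haveI : IsMonHom g := Deform.isMonHom_of_comp g t hg
  haveI : IsCommMonObj T := Deform.Extension.isCommMonObj_of fun X x y => by
    rw [← cancel_mono t, MonObj.mul_comp, MonObj.mul_comp, mul_comm]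
  -- the affine part maps onto the torus
  haveI : Surjective g.left := by
    obtain ⟨J, iJ, r, c, hr, hc, hrc, hcc, hrf, hrs, hJl, hJq⟩ := GrpSchLib.ImageFactor.exists_image (l ≫ π)
    letI := iJ
    haveI := hr; haveI := hc; haveI := hcc; haveI := hrs; haveI := hJl; haveI := hJq
    obtain ⟨R, iR, ρ, hρ, hρf, hρs, hRl, hRq, hkρ⟩ := exists_quotient c (fun X x y => ⟨y, by
      rw [Deform.Extension.mul_comm_of x, mul_inv_cancel_right]⟩)
    letI := iR
    haveI := hρ; haveI := hρs; haveI := hRl; haveI := hRq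
    obtain ⟨φ, hφ, hqφ⟩ := exists_desc q l hkq (π ≫ ρ) (by
      rw [← Category.assoc, ← hrc, Category.assoc, show c ≫ ρ = 1 from hkρ.w, MonObj.comp_one])
    haveI : Surjective φ.left := by
      haveI : Surjective (q.left ≫ φ.left) := by
        rw [← Over.comp_left, hqφ, Over.comp_left]; infer_instance
      exact Surjective.of_comp q.left φ.left
    haveI := isProper_of_surjective φ
    obtain ⟨d, hd⟩ := exists_lift_kernel c ρ hkρ t (AVFactor.eq_one_of_affine _)
    refine ⟨fun x => ?_⟩
    obtain ⟨y, hy⟩ := r.left.surjective (d.left x)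
    refine ⟨y, t.left.isClosedEmbedding.injective ?_⟩
    rw [← Scheme.Hom.comp_apply, ← Over.comp_left, hg, ← hrc, Over.comp_left, Scheme.Hom.comp_apply, hy,
      ← Scheme.Hom.comp_apply, ← Over.comp_left, hd]
  -- with finite kernel
  obtain ⟨M, iM, m, hm, hmc, -, hkm⟩ := GrpSchLib.exists_kernel g
  letI := iM
  haveI := hm; haveI := hmc
  have hmπ : (m ≫ l) ≫ π = 1 := by
    rw [Category.assoc, ← hg, ← Category.assoc, show m ≫ g = 1 from hkm.w, MonObj.one_comp]
  obtain ⟨u, hu⟩ := exists_lift_kernel iK π hkπ (m ≫ l) hmπ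
  haveI : IsFinite M.hom := by
    haveI : IsClosedImmersion (u.left ≫ iK.left) := by
      rw [← Over.comp_left, hu, Over.comp_left]; infer_instance
    haveI : IsSeparated (iK.left ≫ G.hom) := by rw [Over.w iK]; infer_instance
    haveI : IsSeparated iK.left := IsSeparated.of_comp iK.left G.hom
    haveI : IsClosedImmersion u.left := IsClosedImmersion.of_comp u.left iK.left
    haveI : IsProper M.hom := by rw [← Over.w u]; infer_instance
    haveI : IsAffine M.left := isAffine_of_isAffineHom m.left
    rw [IsFinite.iff_isProper_and_isAffineHom]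
    exact ⟨inferInstance, isAffineHom_of_isAffine _⟩
  haveI := comm_of_finite_kernel g m hkm
  have hLT : Red.IsTorus L := Deform.TorusIsogeny.isTorus_of_isogeny g ⟨inferInstance, fun N i hi => by
    haveI : IsIso (hkm.isoIsPullback _ _ hi).inv.left :=
      ((Over.forget _).mapIso (hkm.isoIsPullback _ _ hi)).isIso_inv
    rw [← Over.w (hkm.isoIsPullback _ _ hi).inv]
    infer_instance⟩ hT
  exact ⟨L, iL, l, Q, iQ, q, hl, hlc, hLT, hq, hqs, hqf, hkq, hQ, hQs, hQc⟩

/-- The torus of a normal semi-abelian subvariety of a smooth connected group is normal. -/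
theorem isNormalHom_torus [IsAlgClosed k] {G S T A : Over (Spec (CommRingCat.of k))} [GrpObj G] [GrpObj S]
    [GrpObj T] [GrpObj A] [Smooth G.hom] [QuasiCompact G.hom] (j : S ⟶ G) [IsMonHom j] (hn : AlgGrp.IsNormalHom j)
    (t : T ⟶ S) [IsMonHom t] [Mono j] (hT : Red.IsTorus T) (α : S ⟶ A) [IsMonHom α] [IsProper A.hom]
    (hk : AlgGrp.IsKernel t α) : AlgGrp.IsNormalHom (t ≫ j) := by
  obtain ⟨hTa, hTl, hTs, hTc⟩ := Deform.TorusBasic.props hT
  haveI := hTa; haveI := hTl; haveI := hTs; haveI := hTc
  haveI : Smooth (G ⊗ T).hom := inferInstanceAs (Smooth (pullback.fst G.hom T.hom ≫ G.hom))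
  obtain ⟨m, hm⟩ := hn (G ⊗ T) (fst G T) (snd G T ≫ t)
  have hzero : m ≫ α = 1 := by
    refine ext_points _ _ fun x => ?_
    rw [MonObj.comp_one]
    -- freeze the group coordinate
    let g : Pt G := x ≫ fst G T
    obtain ⟨c, hc⟩ := hn T (toUnit T ≫ g) t
    haveI : IsMonHom c := WittEndoLib.isMonHom_of_mul c fun Y a b => by
      rw [← cancel_mono j, MonObj.mul_comp (a ≫ c) (b ≫ c) j, Category.assoc, Category.assoc, Category.assoc, ← hc]
      simp only [MonObj.comp_mul, GrpObj.comp_inv, MonObj.mul_comp, ← Category.assoc,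
        toUnit_unique ((a * b) ≫ toUnit T) (toUnit Y), toUnit_unique (a ≫ toUnit T) (toUnit Y),
        toUnit_unique (b ≫ toUnit T) (toUnit Y)]
      group
    have h1 : x ≫ m = (x ≫ snd G T) ≫ c := by
      rw [← cancel_mono j, Category.assoc, Category.assoc, Category.assoc, ← hm, ← hc]
      simp only [MonObj.comp_mul, GrpObj.comp_inv, Category.assoc, g]
      rw [toUnit_unique (toUnit T) (toUnit T)]
      simp only [← Category.assoc, toUnit_unique ((x ≫ snd G T) ≫ toUnit T) (𝟙 _), Category.id_comp]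
    rw [← Category.assoc, h1, Category.assoc, AVFactor.eq_one_of_affine (c ≫ α), MonObj.comp_one]
  intro X g n
  obtain ⟨n', hn'⟩ := exists_lift_kernel t α hk (lift g n ≫ m) (by rw [Category.assoc, hzero, MonObj.comp_one])
  refine ⟨n', ?_⟩
  rw [← Category.assoc n', hn', Category.assoc, ← hm]
  simp [MonObj.comp_mul, GrpObj.comp_inv]

set_option maxHeartbeats 1000000 in
/-- Over an algebraically closed field an extension of semi-abelian varieties is semi-abelian. -/
theorem extension_algClosed [IsAlgClosed k] {G S₁ S₂ : Over (Spec (CommRingCat.of k))} [GrpObj G] [GrpObj S₁]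
    [GrpObj S₂] [Smooth G.hom] [QuasiCompact G.hom] [ConnectedSpace G.left] [LocallyOfFiniteType S₂.hom]
    [QuasiCompact S₂.hom] (j : S₁ ⟶ G) [IsMonHom j] [IsClosedImmersion j.left] (π : G ⟶ S₂) [IsMonHom π]
    [Flat π.left] [Surjective π.left] (hk : AlgGrp.IsKernel j π) (h₁ : IsSemiAb S₁) (h₂ : IsSemiAb S₂) :
    IsSemiAb G := by
  obtain ⟨T, iT, t, A, iA, α, ht, htc, hT, hα, hαs, hαf, hkα, hA, hAs, hAc⟩ := h₁
  letI := iT; letI := iA
  haveI := ht; haveI := htc; haveI := hα; haveI := hαs; haveI := hαf; haveI := hA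
  haveI : Mono j := (Over.forget _).mono_of_mono_map (inferInstanceAs (Mono j.left))
  haveI : LocallyOfFiniteType S₁.hom := by rw [← Over.w j]; infer_instance
  haveI : QuasiCompact S₁.hom := by rw [← Over.w j]; infer_instance
  have hn := isNormalHom_torus j (isNormalHom_of_kernel π j hk) t hT α hkα
  haveI : IsClosedImmersion (t ≫ j).left := inferInstanceAs (IsClosedImmersion (t.left ≫ j.left))
  obtain ⟨Gb, iGb, β, hβ, hβf, hβs, hGbl, hGbq, hkβ⟩ := exists_quotient (t ≫ j) hn
  letI := iGb
  haveI := hβ; haveI := hβf; haveI := hβs; haveI := hGbl; haveI := hGbq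
  haveI : Smooth Gb.hom := GrpSchLib.smooth_of_quotient β
  haveI : ConnectedSpace Gb.left := β.left.surjective.connectedSpace β.left.continuous
  obtain ⟨π', hπ', hβπ⟩ := exists_desc β (t ≫ j) hkβ π (by
    rw [Category.assoc, show j ≫ π = 1 from hk.w, MonObj.comp_one])
  haveI := hπ'
  haveI : Surjective π'.left := by
    haveI : Surjective (β.left ≫ π'.left) := by rw [← Over.comp_left, hβπ]; infer_instance
    exact Surjective.of_comp β.left π'.left
  haveI := GrpSchLib.AntiAffine.isSeparated_grp S₂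
  obtain ⟨K, iK', κ, hκ, hκc, -, hkκ⟩ := GrpSchLib.exists_kernel π'
  letI := iK'
  haveI := hκ; haveI := hκc
  obtain ⟨φ, hφ, hαφ⟩ := exists_desc α t hkα (j ≫ β) ((Category.assoc _ _ _).symm.trans hkβ.w)
  haveI : Epi α := by
    haveI := quasiCompact_of_grp α
    haveI : Epi α.left := Flat.epi_of_flat_of_surjective _
    exact (Over.forget _).epi_of_epi_map (inferInstanceAs (Epi α.left))
  obtain ⟨v, hv⟩ := exists_lift_kernel κ π' hkκ φ (by
    rw [← cancel_epi α, ← Category.assoc, hαφ, Category.assoc, hβπ, MonObj.comp_one]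
    exact hk.w)
  haveI : Surjective v.left := ⟨fun x => by
    obtain ⟨g, hg⟩ := β.left.surjective (κ.left x)
    have hgπ : π.left g = η[S₂].left ((toUnit K).left x) := by
      rw [← hβπ, Over.comp_left, Scheme.Hom.comp_apply, hg, ← Scheme.Hom.comp_apply, ← Scheme.Hom.comp_apply,
        ← Over.comp_left, ← Over.comp_left, hkκ.w]
    obtain ⟨z, hz1, -⟩ := Scheme.Pullback.exists_preimage_pullback g ((toUnit K).left x) hgπ
    let sq : IsPullback j.left (toUnit S₁).left π.left η[S₂].left := hk.map (Over.forget _)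
    have hjs : j.left (sq.isoPullback.inv z) = g := by
      rw [← Scheme.Hom.comp_apply, sq.isoPullback_inv_fst]; exact hz1
    refine ⟨α.left (sq.isoPullback.inv z), κ.left.isClosedEmbedding.injective ?_⟩
    rw [← Scheme.Hom.comp_apply, ← Over.comp_left, hv, ← Scheme.Hom.comp_apply, ← Over.comp_left, hαφ,
      Over.comp_left, Scheme.Hom.comp_apply, hjs, hg]⟩
  haveI : LocallyOfFiniteType K.hom := by rw [← Over.w κ]; infer_instance
  haveI := isProper_of_surjective v
  haveI : IsSemiAb Gb := of_proper_kernel π' κ hkκ h₂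
  exact of_torus_kernel (t ≫ j) hT β hkβ ‹_›

end

end Groth.Agent.Deform.Chev.SemiAbExt
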