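import Groth.Agent.Deform.Chev.SemiAbExt
import Groth.Agent.Deform.MultSubScheme

/-!
# Semi-abelian varieties over an arbitrary field: sums, quotients, extensions, subgroups
-/

universe u

open CategoryTheory CategoryTheory.Limits MonoidalCategory CartesianMonoidalCategory MonObj GrpObj AlgebraicGeometry

attribute [local instance] CategoryTheory.Hom.monoid CategoryTheory.Hom.group
set_option linter.style.haveILetI false
set_option linter.unusedSectionVars false
set_option backward.isDefEq.respectTransparency false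

namespace Groth.Agent.Deform.Chev.SemiAbExt

noncomputable section

variable {k : Type u} [Field k]

theorem IsSemiAb.bc {K : Type u} [Field K] [Algebra k K] {G : Over (Spec (CommRingCat.of k))} [GrpObj G]
    (h : IsSemiAb G) : IsSemiAb (Red.bc (Spec.map (CommRingCat.ofHom (algebraMap k K))) G) := by
  obtain ⟨T, iT, i, A, iA, q, hi, hic, hT, hq, hqs, hqf, hk, hA, hAs, hAc⟩ := h
  letI := iT; letI := iA
  haveI := hi; haveI := hq; haveI := hA; haveI := hAs; haveI := hAc
  let π := Spec.map (CommRingCat.ofHom (algebraMap k K))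
  let F := Over.pullback π
  exact ⟨F.obj T, inferInstance, F.map i, F.obj A, inferInstance, F.map q, inferInstance,
    MorphismProperty.overPullbackMap (P := @IsClosedImmersion) π i hic, Deform.isTorus_bc π hT, inferInstance,
    MorphismProperty.overPullbackMap (P := @Surjective) π q hqs, MorphismProperty.overPullbackMap (P := @Flat) π q hqf,
    SemiAbelian.isKernel_bc π i q hk, inferInstanceAs (IsProper (pullback.snd A.hom π)),
    inferInstanceAs (Smooth (pullback.snd A.hom π)), GrpSchLib.AntiAffine.connectedSpace_bc A (algebraMap k K)⟩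

/-- A group which becomes semi-abelian over the algebraic closure is semi-abelian. -/
theorem IsSemiAb.of_geometric (G : Over (Spec (CommRingCat.of k))) [GrpObj G] [LocallyOfFiniteType G.hom]
    [QuasiCompact G.hom]
    (h : IsSemiAb (Red.bc (Spec.map (CommRingCat.ofHom (algebraMap k (AlgebraicClosure k)))) G)) : IsSemiAb G := by
  obtain ⟨T, iT, i, A, iA, q, hi, hic, hT, hq, hqs, hqf, hk, hA, hAs, hAc⟩ := h
  letI := iT; letI := iA
  haveI := hi; haveI := hic; haveI := hq; haveI := hqs; haveI := hqf; haveI := hA; haveI := hAs; haveI := hAc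
  exact SemiAb.descent G i hT q hk

/-- An extension of semi-abelian varieties is semi-abelian. -/
theorem extension {G S₁ S₂ : Over (Spec (CommRingCat.of k))} [GrpObj G] [GrpObj S₁]
    [GrpObj S₂] [LocallyOfFiniteType G.hom] [QuasiCompact G.hom] [LocallyOfFiniteType S₂.hom]
    [QuasiCompact S₂.hom] (j : S₁ ⟶ G) [IsMonHom j] [IsClosedImmersion j.left] (p : G ⟶ S₂) [IsMonHom p]
    [Flat p.left] [Surjective p.left] (hk : AlgGrp.IsKernel j p) (h₁ : IsSemiAb S₁) (h₂ : IsSemiAb S₂) :
    IsSemiAb G := by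
  haveI : LocallyOfFiniteType S₁.hom := by rw [← Over.w j]; infer_instance
  haveI : QuasiCompact S₁.hom := by rw [← Over.w j]; infer_instance
  obtain ⟨hs₁, hc₁⟩ := h₁.smooth_connected
  obtain ⟨hs₂, hc₂⟩ := h₂.smooth_connected
  obtain ⟨-, hs, hc⟩ := S7982.result k S₁ G S₂ j p hk
  haveI := hs hs₁ hs₂; haveI := hc hc₁ hc₂
  let π := Spec.map (CommRingCat.ofHom (algebraMap k (AlgebraicClosure k)))
  let F := Over.pullback π
  refine IsSemiAb.of_geometric G ?_
  haveI : Smooth (Red.bc π G).hom := inferInstanceAs (Smooth (pullback.snd G.hom π))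
  haveI : QuasiCompact (Red.bc π G).hom := inferInstanceAs (QuasiCompact (pullback.snd G.hom π))
  haveI : ConnectedSpace (Red.bc π G).left := GrpSchLib.AntiAffine.connectedSpace_bc G (algebraMap k _)
  haveI : LocallyOfFiniteType (F.obj S₂).hom := inferInstanceAs (LocallyOfFiniteType (pullback.snd S₂.hom π))
  haveI : QuasiCompact (F.obj S₂).hom := inferInstanceAs (QuasiCompact (pullback.snd S₂.hom π))
  haveI : IsClosedImmersion (F.map j).left := MorphismProperty.overPullbackMap (P := @IsClosedImmersion) π j ‹_›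
  haveI : Surjective (F.map p).left := MorphismProperty.overPullbackMap (P := @Surjective) π p ‹_›
  haveI : Flat (F.map p).left := MorphismProperty.overPullbackMap (P := @Flat) π p ‹_›
  exact extension_algClosed (F.map j) (F.map p) (SemiAbelian.isKernel_bc π j p hk) h₁.bc h₂.bc

/-- A smooth connected group with a proper kernel over a semi-abelian variety is semi-abelian. -/
theorem of_proper_kernel' {G S K : Over (Spec (CommRingCat.of k))} [GrpObj G] [GrpObj S] [GrpObj K]
    [Smooth G.hom] [QuasiCompact G.hom] [ConnectedSpace G.left] [LocallyOfFiniteType S.hom] [QuasiCompact S.hom]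
    (p : G ⟶ S) [IsMonHom p] [Surjective p.left] (iK : K ⟶ G) [IsProper K.hom] (hk : AlgGrp.IsKernel iK p)
    (hS : IsSemiAb S) : IsSemiAb G := by
  let π := Spec.map (CommRingCat.ofHom (algebraMap k (AlgebraicClosure k)))
  let F := Over.pullback π
  refine IsSemiAb.of_geometric G ?_
  haveI : Smooth (Red.bc π G).hom := inferInstanceAs (Smooth (pullback.snd G.hom π))
  haveI : QuasiCompact (Red.bc π G).hom := inferInstanceAs (QuasiCompact (pullback.snd G.hom π))
  haveI : ConnectedSpace (Red.bc π G).left := GrpSchLib.AntiAffine.connectedSpace_bc G (algebraMap k _)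
  haveI : LocallyOfFiniteType (F.obj S).hom := inferInstanceAs (LocallyOfFiniteType (pullback.snd S.hom π))
  haveI : QuasiCompact (F.obj S).hom := inferInstanceAs (QuasiCompact (pullback.snd S.hom π))
  haveI : IsProper (F.obj K).hom := inferInstanceAs (IsProper (pullback.snd K.hom π))
  haveI : Surjective (F.map p).left := MorphismProperty.overPullbackMap (P := @Surjective) π p ‹_›
  exact of_proper_kernel (F.map p) (F.map iK) (SemiAbelian.isKernel_bc π iK p hk) hS.bc

/-- A commutative quotient of a semi-abelian variety is semi-abelian. -/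
theorem quotient {S Q : Over (Spec (CommRingCat.of k))} [GrpObj S] [GrpObj Q] [IsCommMonObj Q]
    [LocallyOfFiniteType S.hom] [QuasiCompact S.hom] [LocallyOfFiniteType Q.hom] [QuasiCompact Q.hom]
    (f : S ⟶ Q) [IsMonHom f] [Flat f.left] [Surjective f.left] (hS : IsSemiAb S) : IsSemiAb Q := by
  obtain ⟨hs, hc⟩ := hS.smooth_connected
  haveI := hs; haveI := hc
  obtain ⟨T, iT, t, A, iA, α, ht, htc, hT, hα, hαs, hαf, hkα, hA, hAs, hAc⟩ := hS
  letI := iT; letI := iA
  haveI := ht; haveI := htc; haveI := hα; haveI := hαs; haveI := hαf; haveI := hA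
  obtain ⟨hTa, hTl, hTs, hTc⟩ := Deform.TorusBasic.props hT
  haveI := hTa; haveI := hTl; haveI := hTs; haveI := hTc
  haveI : IsAffineHom T.hom := isAffineHom_of_isAffine _
  haveI : Smooth Q.hom := GrpSchLib.smooth_of_quotient f
  obtain ⟨J₁, iJ₁, r₁, c₁, hr₁, hc₁, hJ₁a, hc₁c, hJ₁l, hr₁s, hrc₁⟩ := AntiAffineParts.exists_affine_image (t ≫ f)
  letI := iJ₁
  haveI := hr₁; haveI := hc₁; haveI := hJ₁a; haveI := hc₁c; haveI := hJ₁l; haveI := hr₁s
  haveI : IsAffineHom J₁.hom := isAffineHom_of_isAffine _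
  obtain ⟨J, iJ, r, c, hr, hcm, hrc, hcc, hrf, hrs, hJl, hJq⟩ := GrpSchLib.ImageFactor.exists_image r₁
  letI := iJ
  haveI := hr; haveI := hcm; haveI := hcc; haveI := hrf; haveI := hrs; haveI := hJl; haveI := hJq
  haveI : IsAffine J.left := isAffine_of_isAffineHom c.left
  haveI : Smooth J.hom := GrpSchLib.smooth_of_quotient r
  haveI : IsClosedImmersion (c ≫ c₁).left := inferInstanceAs (IsClosedImmersion (c.left ≫ c₁.left))
  haveI : Mono (c ≫ c₁) := (Over.forget _).mono_of_mono_map (inferInstanceAs (Mono (c ≫ c₁).left))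
  haveI : IsCommMonObj J := Deform.Extension.isCommMonObj_of fun X x y => by
    rw [← cancel_mono (c ≫ c₁), MonObj.mul_comp, MonObj.mul_comp, mul_comm]
  obtain ⟨A', iA', β, hβ, hβf, hβs, hA'l, hA'q, hkβ⟩ := exists_quotient (c ≫ c₁) (fun X x y => ⟨y, by
    rw [Deform.Extension.mul_comm_of x, mul_inv_cancel_right]⟩)
  letI := iA'
  haveI := hβ; haveI := hβf; haveI := hβs; haveI := hA'l; haveI := hA'q
  obtain ⟨φ, hφ, hαφ⟩ := exists_desc α t hkα (f ≫ β) (by
    rw [← Category.assoc, ← hrc₁, ← hrc, Category.assoc, Category.assoc, ← Category.assoc c,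
      show (c ≫ c₁) ≫ β = 1 from hkβ.w, MonObj.comp_one])
  haveI : Surjective φ.left := by
    haveI : Surjective (α.left ≫ φ.left) := by rw [← Over.comp_left, hαφ, Over.comp_left]; infer_instance
    exact Surjective.of_comp α.left φ.left
  haveI : ConnectedSpace A'.left := φ.left.surjective.connectedSpace φ.left.continuous
  exact ⟨J, iJ, c ≫ c₁, A', iA', β, inferInstance, inferInstance,
    Deform.TorusIsogeny.isTorus_of_surjective hT r, hβ, hβs, hβf, hkβ, isProper_of_surjective φ,
    GrpSchLib.smooth_of_quotient β, inferInstance⟩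

/-- The image of a semi-abelian variety in a commutative group. -/
theorem exists_image {S G : Over (Spec (CommRingCat.of k))} [GrpObj S] [GrpObj G] [IsCommMonObj G]
    [LocallyOfFiniteType S.hom] [QuasiCompact S.hom] [LocallyOfFiniteType G.hom] [QuasiCompact G.hom]
    (f : S ⟶ G) [IsMonHom f] (hS : IsSemiAb S) :
    ∃ (R : Over (Spec (CommRingCat.of k))) (_ : GrpObj R) (r : S ⟶ R) (c : R ⟶ G), IsMonHom r ∧ IsMonHom c ∧
      IsClosedImmersion c.left ∧ r ≫ c = f ∧ IsSemiAb R := by
  obtain ⟨R, iR, r, c, hr, hc, hrc, hcc, hrf, hrs, hRl, hRq⟩ := GrpSchLib.ImageFactor.exists_image f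
  letI := iR
  haveI := hr; haveI := hc; haveI := hcc; haveI := hrf; haveI := hrs; haveI := hRl; haveI := hRq
  haveI : Mono c := (Over.forget _).mono_of_mono_map (inferInstanceAs (Mono c.left))
  haveI : IsCommMonObj R := Deform.Extension.isCommMonObj_of fun X x y => by
    rw [← cancel_mono c, MonObj.mul_comp, MonObj.mul_comp, mul_comm]
  exact ⟨R, iR, r, c, hr, hc, hcc, hrc, quotient r hS⟩

/-- Two semi-abelian subvarieties lie in a third one. -/
theorem exists_sup {G S₁ S₂ : Over (Spec (CommRingCat.of k))} [GrpObj G] [IsCommMonObj G] [GrpObj S₁] [GrpObj S₂]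
    [LocallyOfFiniteType G.hom] [QuasiCompact G.hom] (s₁ : S₁ ⟶ G) [IsMonHom s₁] [IsClosedImmersion s₁.left]
    (s₂ : S₂ ⟶ G) [IsMonHom s₂] [IsClosedImmersion s₂.left] (h₁ : IsSemiAb S₁) (h₂ : IsSemiAb S₂) :
    ∃ (R : Over (Spec (CommRingCat.of k))) (_ : GrpObj R) (c : R ⟶ G), IsMonHom c ∧ IsClosedImmersion c.left ∧
      IsSemiAb R ∧ (∃ a : S₁ ⟶ R, a ≫ c = s₁) ∧ ∃ b : S₂ ⟶ R, b ≫ c = s₂ := by
  haveI : LocallyOfFiniteType S₁.hom := by rw [← Over.w s₁]; infer_instance
  haveI : QuasiCompact S₁.hom := by rw [← Over.w s₁]; infer_instance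
  haveI : LocallyOfFiniteType S₂.hom := by rw [← Over.w s₂]; infer_instance
  haveI : QuasiCompact S₂.hom := by rw [← Over.w s₂]; infer_instance
  let P := S₁ ⊗ S₂
  haveI : LocallyOfFiniteType P.hom := inferInstanceAs (LocallyOfFiniteType (pullback.fst S₁.hom S₂.hom ≫ S₁.hom))
  haveI : QuasiCompact P.hom := inferInstanceAs (QuasiCompact (pullback.fst S₁.hom S₂.hom ≫ S₁.hom))
  let j : S₁ ⟶ P := lift (𝟙 S₁) 1
  haveI : IsMonHom j := WittEndoLib.isMonHom_of_mul j fun Y a b => by
    apply CartesianMonoidalCategory.hom_ext <;>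
      simp only [j, Category.assoc, MonObj.mul_comp, lift_fst, lift_snd, Category.comp_id, MonObj.comp_one,
        _root_.mul_one]
  haveI := GrpSchLib.AntiAffine.isSeparated_grp S₂
  haveI : IsClosedImmersion j.left := by
    haveI : IsClosedImmersion (j.left ≫ (fst S₁ S₂).left) := by
      rw [← Over.comp_left, lift_fst, Over.id_left]; infer_instance
    haveI : IsSeparated (fst S₁ S₂).left := inferInstanceAs (IsSeparated (pullback.fst S₁.hom S₂.hom))
    exact IsClosedImmersion.of_comp j.left (fst S₁ S₂).left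
  haveI : Flat S₁.hom := Deform.AffineKernel.flat_over_field _
  haveI : Flat (snd S₁ S₂).left := inferInstanceAs (Flat (pullback.snd S₁.hom S₂.hom))
  haveI : Surjective S₁.hom :=
    ⟨fun x => ⟨η[S₁].left (IsLocalRing.closedPoint k), Subsingleton.elim (α := PrimeSpectrum k) _ _⟩⟩
  haveI : Surjective (snd S₁ S₂).left := inferInstanceAs (Surjective (pullback.snd S₁.hom S₂.hom))
  have hker : AlgGrp.IsKernel j (snd S₁ S₂) :=
    IsPullback.of_isLimit' ⟨by rw [lift_snd, Hom.one_def]⟩ (PullbackCone.IsLimit.mk _ (fun s => s.fst ≫ fst S₁ S₂)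
      (fun s => by
        apply CartesianMonoidalCategory.hom_ext
        · simp [j]
        · rw [Category.assoc, lift_snd, MonObj.comp_one, s.condition, toUnit_unique s.snd (toUnit _), Hom.one_def])
      (fun s => toUnit_unique _ _)
      (fun s x hx _ => by rw [← hx, Category.assoc, lift_fst, Category.comp_id]))
  have hP : IsSemiAb P := extension j (snd S₁ S₂) hker h₁ h₂
  let f : P ⟶ G := (fst S₁ S₂ ≫ s₁) * (snd S₁ S₂ ≫ s₂)
  haveI : IsMonHom f := WittEndoLib.isMonHom_of_mul f fun Y a b => by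
    simp only [f, MonObj.comp_mul, ← Category.assoc, MonObj.mul_comp]
    rw [_root_.mul_mul_mul_comm]
  obtain ⟨R, iR, r, c, hr, hc, hcc, hrc, hR⟩ := exists_image f hP
  refine ⟨R, iR, c, hc, hcc, hR, ⟨j ≫ r, ?_⟩, ⟨lift 1 (𝟙 S₂) ≫ r, ?_⟩⟩
  · simp [Category.assoc, hrc, f, j, MonObj.comp_mul]
  · simp [Category.assoc, hrc, f, MonObj.comp_mul]

end

end Groth.Agent.Deform.Chev.SemiAbExt
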