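import Groth.Agent.Deform.Chev.SemiAbField
import Groth.Agent.AVRosati.AlbProper
import Groth.Agent.GrpSchLib.FieldDim

/-!
# The largest semi-abelian subvariety of a commutative group
-/

universe u

open CategoryTheory CategoryTheory.Limits MonoidalCategory CartesianMonoidalCategory MonObj GrpObj AlgebraicGeometry

attribute [local instance] CategoryTheory.Hom.monoid CategoryTheory.Hom.group
set_option linter.style.haveILetI false
set_option linter.unusedSectionVars false
set_option backward.isDefEq.respectTransparency false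

namespace Groth.Agent.Deform.Chev.SemiAbExt

noncomputable section

variable {k : Type u} [Field k]

theorem isIso_eta_of_eq_one {X : Over (Spec (CommRingCat.of k))} [GrpObj X] (h : (𝟙 X : X ⟶ X) = 1) : IsIso η[X] :=
  ⟨toUnit X, toUnit_unique _ _, by rw [← Hom.one_def, h]⟩

theorem isSemiAb_unit : IsSemiAb (𝟙_ (Over (Spec (CommRingCat.of k)))) := by
  haveI : IsIso η[𝟙_ (Over (Spec (CommRingCat.of k)))] :=
    ⟨toUnit _, toUnit_unique _ _, toUnit_unique _ _⟩
  haveI : IsIso (𝟙_ (Over (Spec (CommRingCat.of k)))).hom := inferInstanceAs (IsIso (𝟙 (Spec (CommRingCat.of k))))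
  haveI : ConnectedSpace ↥(𝟙_ (Over (Spec (CommRingCat.of k)))).left :=
    inferInstanceAs (ConnectedSpace (PrimeSpectrum k))
  refine ⟨_, inferInstance, 𝟙 _, _, inferInstance, 𝟙 _, inferInstance, by rw [Over.id_left]; infer_instance,
    AVRosati.AlbProper.isTorus_one, inferInstance, by rw [Over.id_left]; infer_instance,
    by rw [Over.id_left]; infer_instance, IsPullback.of_horiz_isIso ⟨toUnit_unique _ _⟩, inferInstance,
    inferInstance, inferInstance⟩

/-- A quotient of a commutative group is commutative. -/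
theorem isCommMonObj_of_quotient {G Q : Over (Spec (CommRingCat.of k))} [GrpObj G] [GrpObj Q] [IsCommMonObj G]
    (q : G ⟶ Q) [IsMonHom q] [Flat q.left] [Surjective q.left] [QuasiCompact q.left] : IsCommMonObj Q :=
  Deform.Extension.isCommMonObj_of fun X x y => by
    obtain ⟨X₁, r₁, hr₁, x', hx'⟩ := Deform.Extension.exists_lift (Deform.Extension.covers_of_fpqc q) x
    obtain ⟨X₂, r₂, hr₂, y', hy'⟩ := Deform.Extension.exists_lift (Deform.Extension.covers_of_fpqc q) (r₁ ≫ y)
    haveI := hr₁; haveI := hr₂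
    rw [← cancel_epi r₁, ← cancel_epi r₂, MonObj.comp_mul, MonObj.comp_mul, MonObj.comp_mul, MonObj.comp_mul,
      ← hx', ← hy', ← Category.assoc r₂ x', ← MonObj.mul_comp, ← MonObj.mul_comp, mul_comm]

variable (G : Over (Spec (CommRingCat.of k))) [GrpObj G] [IsCommMonObj G] [LocallyOfFiniteType G.hom]
  [QuasiCompact G.hom]

/-- The points of a group which are generic points of semi-abelian subvarieties. -/
def semiAbPts : Set G.left :=
  {x | ∃ (S : Over (Spec (CommRingCat.of k))) (_ : GrpObj S) (s : S ⟶ G) (ξ : S.left), IsMonHom s ∧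
    IsClosedImmersion s.left ∧ IsSemiAb S ∧ IsGenericPoint ξ Set.univ ∧ s.left ξ = x}

theorem exists_genericPoint {S : Over (Spec (CommRingCat.of k))} [GrpObj S] (s : S ⟶ G)
    [IsClosedImmersion s.left] (h : IsSemiAb S) : ∃ ξ : S.left, IsGenericPoint ξ Set.univ := by
  haveI : LocallyOfFiniteType S.hom := by rw [← Over.w s]; infer_instance
  haveI : QuasiCompact S.hom := by rw [← Over.w s]; infer_instance
  obtain ⟨hs, hc⟩ := h.smooth_connected
  haveI := hs; haveI := hc
  haveI := AVFactor.geometricallyIntegral_smooth S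
  haveI : Subsingleton ↥(Spec (CommRingCat.of k)) := inferInstanceAs (Subsingleton (PrimeSpectrum k))
  haveI : IsIntegral S.left := GeometricallyIntegral.isIntegral_of_subsingleton S.hom
  exact ⟨_, genericPoint_spec _⟩

/-- Every commutative group of finite type has a largest semi-abelian subvariety. -/
theorem exists_largest :
    ∃ (S : Over (Spec (CommRingCat.of k))) (_ : GrpObj S) (s : S ⟶ G), IsMonHom s ∧ IsClosedImmersion s.left ∧
      IsSemiAb S ∧ ∀ (S' : Over (Spec (CommRingCat.of k))) [GrpObj S'] (s' : S' ⟶ G) [IsMonHom s']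
        [IsClosedImmersion s'.left], IsSemiAb S' → ∃ g : S' ⟶ S, g ≫ s = s' := by
  classical
  obtain ⟨d, hd⟩ := GrpSchLib.exists_height_isMaxPt G
  have hle : ∀ x : G.left, VarDim.deg G.hom x ≤ d := fun x => by
    obtain ⟨g, hg, hgx⟩ := GrpSchLib.exists_isMaxPt x
    exact hd g hg ▸ VarDim.deg_le_of_specializes G.hom hgx
  have hne : ∃ n, ∃ x ∈ semiAbPts G, VarDim.deg G.hom x = n := by
    haveI := GrpSchLib.AntiAffine.isSeparated_grp G
    let s₀ : 𝟙_ (Over (Spec (CommRingCat.of k))) ⟶ G := η[G]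
    haveI : IsClosedImmersion s₀.left := by
      haveI : IsClosedImmersion (s₀.left ≫ G.hom) := by
        rw [Over.w]; exact inferInstanceAs (IsClosedImmersion (𝟙 (Spec (CommRingCat.of k))))
      exact IsClosedImmersion.of_comp s₀.left G.hom
    haveI : IsMonHom s₀ := WittEndoLib.isMonHom_of_mul s₀ fun Y a b => by
      rw [toUnit_unique (a * b) (toUnit Y), toUnit_unique a (toUnit Y), toUnit_unique b (toUnit Y)]
      simp only [s₀, ← Hom.one_def, _root_.one_mul]
    obtain ⟨ξ, hξ⟩ := exists_genericPoint G s₀ isSemiAb_unit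
    exact ⟨_, _, ⟨_, _, s₀, ξ, inferInstance, inferInstance, isSemiAb_unit, hξ, rfl⟩, rfl⟩
  let n := Nat.findGreatest (fun n => ∃ x ∈ semiAbPts G, VarDim.deg G.hom x = n) d
  obtain ⟨n₀, x₀, hx₀, hn₀⟩ := hne
  obtain ⟨x, ⟨S, iS, s, ξ, hs, hsc, hS, hξ, hξx⟩, hxn⟩ :=
    Nat.findGreatest_spec (P := fun n => ∃ x ∈ semiAbPts G, VarDim.deg G.hom x = n) (hn₀ ▸ hle x₀) ⟨x₀, hx₀, hn₀⟩
  letI := iS
  haveI := hs; haveI := hsc
  refine ⟨S, iS, s, hs, hsc, hS, fun S' _ s' _ _ hS' => ?_⟩
  obtain ⟨R, iR, c, hc, hcc, hR, ⟨a, ha⟩, ⟨b, hb⟩⟩ := exists_sup s s' hS hS'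
  letI := iR
  haveI := hc; haveI := hcc
  obtain ⟨ζ, hζ⟩ := exists_genericPoint G c hR
  have hspec : c.left ζ ⤳ x := by
    rw [← hξx, ← ha, Over.comp_left, Scheme.Hom.comp_apply]
    exact (hζ.specializes trivial).map c.left.continuous
  have hmax : VarDim.deg G.hom (c.left ζ) ≤ VarDim.deg G.hom x := by
    rw [hxn]
    exact Nat.le_findGreatest (hle _) ⟨_, ⟨R, iR, c, ζ, hc, hcc, hR, hζ, rfl⟩, rfl⟩
  have heq : c.left ζ = x := VarDim.eq_of_specializes_of_deg_le G.hom hspec hmax
  haveI : IsClosedImmersion (a.left ≫ c.left) := by rw [← Over.comp_left, ha]; infer_instance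
  haveI : IsClosedImmersion a.left := IsClosedImmersion.of_comp a.left c.left
  haveI : Surjective a.left := by
    refine ⟨fun y => ?_⟩
    have h : a.left ξ = ζ := c.left.isClosedEmbedding.injective (by
      rw [heq, ← Scheme.Hom.comp_apply, ← Over.comp_left, ha, hξx])
    have hsub : closure {ζ} ⊆ Set.range a.left :=
      (a.left.isClosedEmbedding.isClosed_range.closure_subset_iff).mpr (Set.singleton_subset_iff.mpr ⟨ξ, h⟩)
    exact hsub (hζ.def ▸ trivial)
  haveI : LocallyOfFiniteType R.hom := by rw [← Over.w c]; infer_instance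
  haveI : QuasiCompact R.hom := by rw [← Over.w c]; infer_instance
  obtain ⟨hRs, -⟩ := hR.smooth_connected
  haveI := hRs
  haveI : IsReduced R.left := GrpSchLib.isReduced_of_smooth_field R.hom
  haveI : IsIso a.left := isIso_of_isClosedImmersion_of_surjective a.left
  haveI : IsIso a := by
    haveI : IsIso ((Over.forget _).map a) := inferInstanceAs (IsIso a.left)
    exact isIso_of_reflects_iso a (Over.forget _)
  exact ⟨b ≫ inv a, by rw [← ha, Category.assoc, IsIso.inv_hom_id_assoc, hb]⟩

variable {G}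

/-- The quotient by the largest semi-abelian subvariety has no semi-abelian subvariety. -/
theorem trivial_of_quotient {S Q S₂ : Over (Spec (CommRingCat.of k))} [GrpObj S] [GrpObj Q] [GrpObj S₂]
    [LocallyOfFiniteType Q.hom] [QuasiCompact Q.hom] (s : S ⟶ G) [IsMonHom s] [IsClosedImmersion s.left]
    (hS : IsSemiAb S)
    (hmax : ∀ (S' : Over (Spec (CommRingCat.of k))) [GrpObj S'] (s' : S' ⟶ G) [IsMonHom s']
      [IsClosedImmersion s'.left], IsSemiAb S' → ∃ g : S' ⟶ S, g ≫ s = s')
    (q : G ⟶ Q) [IsMonHom q] [Flat q.left] [Surjective q.left] (hk : AlgGrp.IsKernel s q)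
    (s₂ : S₂ ⟶ Q) [IsMonHom s₂] [IsClosedImmersion s₂.left] (h₂ : IsSemiAb S₂) : IsIso η[S₂] := by
  haveI : LocallyOfFiniteType S₂.hom := by rw [← Over.w s₂]; infer_instance
  haveI : QuasiCompact S₂.hom := by rw [← Over.w s₂]; infer_instance
  haveI : Mono s₂ := (Over.forget _).mono_of_mono_map (inferInstanceAs (Mono s₂.left))
  haveI : Mono s := (Over.forget _).mono_of_mono_map (inferInstanceAs (Mono s.left))
  haveI := quasiCompact_of_grp q
  haveI : IsCommMonObj Q := isCommMonObj_of_quotient q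
  obtain ⟨R, iR, ρ, hρ, -, -, hRl, hRq, hkρ⟩ := exists_quotient s₂ (fun X x y => ⟨y, by
    rw [Deform.Extension.mul_comm_of x, mul_inv_cancel_right]⟩)
  letI := iR
  haveI := hρ; haveI := hRl; haveI := hRq
  haveI := GrpSchLib.AntiAffine.isSeparated_grp R
  obtain ⟨P, iP, j, hjm, hjc, -, hkj⟩ := GrpSchLib.exists_kernel (q ≫ ρ)
  letI := iP
  haveI := hjm; haveI := hjc
  haveI : Mono j := (Over.forget _).mono_of_mono_map (inferInstanceAs (Mono j.left))
  obtain ⟨g, hg⟩ := exists_lift_kernel s₂ ρ hkρ (j ≫ q) ((Category.assoc _ _ _).trans hkj.w)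
  haveI : IsMonHom g := Deform.isMonHom_of_comp g s₂ hg
  have sq : IsPullback j g q s₂ :=
    IsPullback.of_isLimit' ⟨hg.symm⟩ (PullbackCone.IsLimit.mk _
      (fun c => hkj.lift c.fst (toUnit _) (by
        rw [← Category.assoc, c.condition, Category.assoc, show s₂ ≫ ρ = 1 from hkρ.w, MonObj.comp_one,
          Hom.one_def]))
      (fun c => hkj.lift_fst _ _ _)
      (fun c => by rw [← cancel_mono s₂, Category.assoc, hg, ← Category.assoc, hkj.lift_fst, c.condition])
      (fun c x hx _ => by rw [← cancel_mono j, hkj.lift_fst]; exact hx))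
  have sq' : IsPullback j.left g.left q.left s₂.left := sq.map (Over.forget _)
  haveI : Flat g.left := MorphismProperty.of_isPullback (P := @Flat) sq' ‹_›
  haveI : Surjective g.left := MorphismProperty.of_isPullback (P := @Surjective) sq' ‹_›
  haveI : QuasiCompact g.left := MorphismProperty.of_isPullback (P := @QuasiCompact) sq' ‹_›
  haveI : LocallyOfFiniteType P.hom := by rw [← Over.w j]; infer_instance
  haveI : QuasiCompact P.hom := by rw [← Over.w j]; infer_instance
  let u : S ⟶ P := sq.lift s 1 (by rw [show s ≫ q = 1 from hk.w, MonObj.one_comp])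
  have huj : u ≫ j = s := sq.lift_fst _ _ _
  haveI : IsMonHom u := Deform.isMonHom_of_comp u j huj
  haveI : IsClosedImmersion (u.left ≫ j.left) := by rw [← Over.comp_left, huj]; infer_instance
  haveI : IsClosedImmersion u.left := IsClosedImmersion.of_comp u.left j.left
  have hug : u ≫ g = 1 := sq.lift_snd _ _ _
  have hker : AlgGrp.IsKernel u g :=
    IsPullback.of_isLimit' ⟨hug.trans Hom.one_def⟩ (PullbackCone.IsLimit.mk _
      (fun c => hk.lift (c.fst ≫ j) (toUnit _) (by
        rw [Category.assoc, ← hg, ← Category.assoc, c.condition, Category.assoc, IsMonHom.one_hom,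
          toUnit_unique c.snd (toUnit _)]))
      (fun c => by rw [← cancel_mono j, Category.assoc, huj, hk.lift_fst])
      (fun c => toUnit_unique _ _)
      (fun c x hx _ => by rw [← cancel_mono s, hk.lift_fst, ← huj, ← Category.assoc, hx]))
  have hP : IsSemiAb P := extension u g hker hS h₂
  obtain ⟨e, he⟩ := hmax P j hP
  haveI : Epi g := by
    haveI : Epi g.left := Flat.epi_of_flat_of_surjective _
    exact (Over.forget _).epi_of_epi_map (inferInstanceAs (Epi g.left))
  refine isIso_eta_of_eq_one ?_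
  rw [← cancel_mono s₂, ← cancel_epi g, Category.id_comp, MonObj.one_comp, MonObj.comp_one]
  rw [hg, ← he, Category.assoc,
    show s ≫ q = 1 from hk.w, MonObj.comp_one]

end

end Groth.Agent.Deform.Chev.SemiAbExt
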