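import Groth.Agent.Deform.Chev.SemiAbField
import Groth.Agent.Deform.MultSubScheme

/-!
# Smooth connected subgroups of semi-abelian varieties
-/

universe u

open CategoryTheory CategoryTheory.Limits MonoidalCategory CartesianMonoidalCategory MonObj GrpObj AlgebraicGeometry

attribute [local instance] CategoryTheory.Hom.monoid CategoryTheory.Hom.group
set_option linter.style.haveILetI false
set_option linter.unusedSectionVars false
set_option backward.isDefEq.respectTransparency false

namespace Groth.Agent.Deform.Chev.SemiAbExt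

noncomputable section

variable {k : Type u} [Field k]

/-- A smooth connected subgroup of a semi-abelian variety is semi-abelian. -/
theorem subgroup [PerfectField k] {S₁ G : Over (Spec (CommRingCat.of k))} [GrpObj S₁] [GrpObj G]
    [LocallyOfFiniteType G.hom] [QuasiCompact G.hom] [Smooth S₁.hom] [ConnectedSpace S₁.left] (j : S₁ ⟶ G)
    [IsMonHom j] [IsClosedImmersion j.left] (hG : IsSemiAb G) : IsSemiAb S₁ := by
  obtain ⟨T, iT, t, A, iA, α, ht, htc, hT, hα, hαs, hαf, hkα, hA, hAs, hAc⟩ := hG
  letI := iT; letI := iA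
  haveI := ht; haveI := htc; haveI := hα; haveI := hA
  haveI : QuasiCompact S₁.hom := by rw [← Over.w j]; infer_instance
  obtain ⟨L, iL, l, Q, iQ, q, hl, hlc, hLs, hLq, hLc, hLa, hLn, hq, hqf, hqs, hkq, hQ, hQs, hQc⟩ :=
    Perfect.exists_decomp S₁
  letI := iL; letI := iQ
  haveI := hl; haveI := hlc; haveI := hLs; haveI := hLq; haveI := hLc; haveI := hLa; haveI := hq
  obtain ⟨g, hg⟩ := exists_lift_kernel t α hkα (l ≫ j) (AVFactor.eq_one_of_affine _)
  haveI : Mono t := (Over.forget _).mono_of_mono_map (inferInstanceAs (Mono t.left))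
  haveI : IsMonHom g := Deform.isMonHom_of_comp g t hg
  haveI : IsClosedImmersion (g.left ≫ t.left) := by
    rw [← Over.comp_left, hg, Over.comp_left]; infer_instance
  haveI : IsClosedImmersion g.left := IsClosedImmersion.of_comp g.left t.left
  haveI : Flat L.hom := Deform.AffineKernel.flat_over_field _
  have hLT : Red.IsTorus L :=
    isTorus_of_multType (Deform.MultSubScheme.isMultTypeFT_of_closed (Deform.isMultTypeFT_of_isTorus hT) g)
  exact ⟨L, iL, l, Q, iQ, q, hl, hlc, hLT, hq, hqs, hqf, hkq, hQ, hQs, hQc⟩

end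

end Groth.Agent.Deform.Chev.SemiAbExt
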