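import Groth.Agent.Deform.Chev.Points
import Mathlib.RingTheory.LaurentSeries
import Mathlib.Topology.JacobsonSpace

/-!
# The translation-invariant expansion of rational functions along a formal curve
-/

universe u

open CategoryTheory CategoryTheory.Limits MonoidalCategory CartesianMonoidalCategory MonObj GrpObj AlgebraicGeometry

attribute [local instance] CategoryTheory.Hom.monoid CategoryTheory.Hom.group
set_option linter.style.haveILetI false
set_option linter.unusedSectionVars false

namespace Groth.Agent.Deform.Chev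

noncomputable section

/-- Power series inside Laurent series. -/
abbrev toLS {A : Type u} [Field A] : PowerSeries A →+* LaurentSeries A := HahnSeries.ofPowerSeries ℤ A

theorem toLS_injective {A : Type u} [Field A] : Function.Injective (toLS (A := A)) :=
  HahnSeries.ofPowerSeries_injective

theorem lsMap_injective_aux {A B : Type u} [Field A] [Field B] (φ : A →+* B) :
    Function.Injective ((toLS (A := B)).comp (PowerSeries.map φ)) := by
  intro p q h
  rw [RingHom.comp_apply, RingHom.comp_apply] at h
  have h2 : PowerSeries.map φ p = PowerSeries.map φ q := toLS_injective h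
  refine PowerSeries.ext fun n => φ.injective ?_
  rw [← PowerSeries.coeff_map, ← PowerSeries.coeff_map, h2]

/-- Apply a field embedding to the coefficients. -/
def lsMap {A B : Type u} [Field A] [Field B] (φ : A →+* B) : LaurentSeries A →+* LaurentSeries B :=
  IsFractionRing.lift (A := PowerSeries A) (lsMap_injective_aux φ)

theorem lsMap_toLS {A B : Type u} [Field A] [Field B] (φ : A →+* B) (p : PowerSeries A) :
    lsMap φ (toLS p) = toLS (PowerSeries.map φ p) :=
  IsFractionRing.lift_algebraMap (A := PowerSeries A) (lsMap_injective_aux φ) p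

/-- The constants of the Laurent series. -/
abbrev lsC {A : Type u} [Field A] : A →+* LaurentSeries A := toLS.comp PowerSeries.C

theorem lsMap_lsC {A B : Type u} [Field A] [Field B] (φ : A →+* B) (a : A) : lsMap φ (lsC a) = lsC (φ a) := by
  show lsMap φ (toLS (PowerSeries.C a)) = _
  rw [lsMap_toLS, PowerSeries.map_C]
  rfl

/-- The image of a series lies in the power series only if the series does. -/
theorem mem_of_lsMap_mem {A B : Type u} [Field A] [Field B] (φ : A →+* B) (z : LaurentSeries A)
    (h : ∃ v, toLS v = lsMap φ z) : ∃ w, toLS w = z := by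
  obtain ⟨v, hv⟩ := h
  obtain ⟨⟨p, _, n, rfl⟩, hz⟩ := IsLocalization.surj (Submonoid.powers (PowerSeries.X : PowerSeries A)) z
  have hz' : z * toLS (PowerSeries.X ^ n) = toLS p := hz
  have h2 : toLS (v * PowerSeries.X ^ n) = toLS (PowerSeries.map φ p) := by
    rw [← lsMap_toLS, ← hz', map_mul (lsMap φ), lsMap_toLS, map_mul, hv, map_pow, map_pow, map_pow, PowerSeries.map_X]
  have h3 : v * PowerSeries.X ^ n = PowerSeries.map φ p := toLS_injective h2
  obtain ⟨w, rfl⟩ : PowerSeries.X ^ n ∣ p := by
    rw [PowerSeries.X_pow_dvd_iff]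
    intro m hm
    apply φ.injective
    rw [map_zero, ← PowerSeries.coeff_map, ← h3, PowerSeries.coeff_mul_X_pow']
    simp [hm]
  refine ⟨w, mul_right_cancel₀ (b := toLS (PowerSeries.X ^ n)) ?_ ?_⟩
  · exact (map_ne_zero_iff toLS toLS_injective).mpr (pow_ne_zero _ PowerSeries.X_ne_zero)
  · rw [hz', ← map_mul, mul_comm]

variable {k : Type u} [Field k] {G : Over (Spec (CommRingCat.of k))} [IsIntegral G.left]

theorem fromSpecStalk_hom :
    G.left.fromSpecStalk (genericPoint G.left) ≫ G.hom = Spec.map (CommRingCat.ofHom (kK (G := G))) := by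
  refine ext_of_isAffine ?_
  rw [Scheme.Hom.comp_appTop, Scheme.fromSpecStalk_appTop, ← cancel_epi (Scheme.ΓSpecIso (CommRingCat.of k)).inv]
  rw [← Scheme.ΓSpecIso_inv_naturality]
  rfl

/-- The formal punctured disc. -/
abbrev disc (k : Type u) [Field k] : Over (Spec (CommRingCat.of k)) :=
  Over.mk (Spec.map (CommRingCat.ofHom (lsC (A := k))))

/-- A formal punctured curve extends over the puncture. -/
def Extends (γ : disc k ⟶ G) : Prop :=
  ∃ γ' : Over.mk (Spec.map (CommRingCat.ofHom (PowerSeries.C (R := k)))) ⟶ G,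
    Spec.map (CommRingCat.ofHom (toLS (A := k))) ≫ γ'.left = γ.left

variable [GrpObj G] [IsAlgClosed k] [LocallyOfFiniteType G.hom] [IsCommMonObj G]

/-- A translation-equivariant embedding of the function field into Laurent series, not contained in the power
series if the curve does not extend. -/
theorem exists_expansion (γ : disc k ⟶ G) (hγ : ¬ Extends γ) :
    ∃ Φ : Fld G →+* LaurentSeries (Fld G),
      (∀ (x : Pt G) (f : Fld G), Φ (tau x f) = lsMap (tau x).hom (Φ f)) ∧
      (∀ c, Φ (kK c) = lsC (kK c)) ∧ ∃ f, ∀ v, toLS v ≠ Φ f := by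
  let L : CommRingCat.{u} := CommRingCat.of (LaurentSeries (Fld G))
  let T : Over (Spec (CommRingCat.of k)) := Over.mk (Spec.map (CommRingCat.ofHom (lsC.comp (kK (G := G)))))
  let GO : Over (Spec (CommRingCat.of k)) := Over.mk (G.left.fromSpecStalk (genericPoint G.left) ≫ G.hom)
  let ιK : T ⟶ GO := Over.homMk (Spec.map (CommRingCat.ofHom (lsC (A := (Fld G : Type u))))) (by
    show Spec.map _ ≫ G.left.fromSpecStalk (genericPoint G.left) ≫ G.hom = _
    rw [fromSpecStalk_hom, ← Spec.map_comp]; rfl)
  let ιF : T ⟶ disc k := Over.homMk (Spec.map (CommRingCat.ofHom (lsMap (kK (G := G))))) (by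
    show Spec.map _ ≫ Spec.map _ = Spec.map _
    rw [← Spec.map_comp]
    congr 1
    refine CommRingCat.hom_ext (RingHom.ext fun a => ?_)
    exact lsMap_lsC _ a)
  let ζ : T ⟶ G := (ιK ≫ gen) * (ιF ≫ γ)
  have hσ : ∀ x : Pt G, Spec.map (CommRingCat.ofHom (lsMap (tau x).hom)) ≫ ζ.left = ζ.left ≫ (tr x).left := by
    intro x
    let σ : T ⟶ T := Over.homMk (Spec.map (CommRingCat.ofHom (lsMap (tau x).hom))) (by
      show Spec.map _ ≫ Spec.map _ = Spec.map _
      rw [← Spec.map_comp]
      congr 1
      refine CommRingCat.hom_ext (RingHom.ext fun a => ?_)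
      show lsMap (tau x).hom (lsC (kK a)) = lsC (kK a)
      rw [lsMap_lsC]
      exact congrArg lsC (tau_kK x a))
    have h1 : σ ≫ ιK ≫ gen = ιK ≫ gen ≫ tr x := by
      refine Over.OverMorphism.ext ?_
      show Spec.map _ ≫ Spec.map _ ≫ G.left.fromSpecStalk _ = Spec.map _ ≫ G.left.fromSpecStalk _ ≫ (tr x).left
      rw [← tau_spec, ← Spec.map_comp_assoc, ← Spec.map_comp_assoc]
      congr 2
      refine CommRingCat.hom_ext (RingHom.ext fun a => ?_)
      exact lsMap_lsC _ a
    have h2 : σ ≫ ιF = ιF := by
      refine Over.OverMorphism.ext ?_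
      show Spec.map _ ≫ Spec.map _ = Spec.map _
      rw [← Spec.map_comp]
      congr 1
      refine CommRingCat.hom_ext ?_
      show (lsMap (tau x).hom).comp (lsMap (kK (G := G))) = lsMap (kK (G := G))
      refine IsLocalization.ringHom_ext (nonZeroDivisors (PowerSeries k)) (RingHom.ext fun p => ?_)
      show lsMap (tau x).hom (lsMap kK (toLS p)) = lsMap kK (toLS p)
      rw [lsMap_toLS, lsMap_toLS]
      refine congrArg toLS (PowerSeries.ext fun n => ?_)
      simp only [PowerSeries.coeff_map]
      exact tau_kK x _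
    have h3 : σ ≫ ζ = ζ ≫ tr x := by
      show σ ≫ ((ιK ≫ gen) * (ιF ≫ γ)) = _
      rw [MonObj.comp_mul, h1, reassoc_of% h2, comp_tr, comp_tr, MonObj.comp_mul, comp_toUnit_assoc]
      exact _root_.mul_assoc _ _ _
    exact congrArg CommaMorphism.left h3
  have hgen : ζ.left (IsLocalRing.closedPoint L) = genericPoint G.left := by
    haveI : JacobsonSpace G.left := LocallyOfFiniteType.jacobsonSpace G.hom
    set x0 := ζ.left (IsLocalRing.closedPoint L) with hx0
    haveI : Subsingleton ↥T.left := inferInstanceAs (Subsingleton (PrimeSpectrum (LaurentSeries (Fld G))))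
    have hinv : ∀ x : Pt G, (tr x).left x0 = x0 := fun x => by
      have := congr($(hσ x) (IsLocalRing.closedPoint L))
      rw [Scheme.Hom.comp_apply, Scheme.Hom.comp_apply] at this
      refine this.symm.trans (congrArg ζ.left ?_)
      exact Subsingleton.elim _ _
    obtain ⟨g₀, hg₀⟩ := exists_pt (G := G) (S := closure {x0}) ⟨x0, subset_closure rfl⟩ isClosed_closure.isLocallyClosed
    have hall : ∀ g : Pt G, pimg g ∈ closure ({x0} : Set G.left) := fun g => by
      have h1 : pimg g = (tr (g * g₀⁻¹)).left (pimg g₀) := by rw [← pimg_mul, inv_mul_cancel_right]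
      have h2 : (tr (g * g₀⁻¹)).left '' closure {x0} ⊆ closure {x0} := by
        refine (image_closure_subset_closure_image (tr (g * g₀⁻¹)).left.continuous).trans ?_
        rw [Set.image_singleton, hinv]
      exact h1 ▸ h2 ⟨_, hg₀, rfl⟩
    have huniv : closure ({x0} : Set G.left) = Set.univ := by
      refine Set.univ_subset_iff.mp ?_
      rw [← closure_closedPoints (X := G.left)]
      refine closure_minimal (fun y hy => ?_) isClosed_closure
      obtain ⟨g, rfl⟩ := exists_pimg_eq hy
      exact hall g
    exact ((isGenericPoint_def.mpr huniv).eq (genericPoint_spec G.left)).symm ▸ rfl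
  obtain ⟨φ, hφ⟩ := exists_hom (L := LaurentSeries (Fld G)) ζ.left hgen
  have hconst : ∀ c, φ (kK c) = lsC (kK c) := by
    have h := Over.w ζ
    rw [← hφ, Category.assoc, fromSpecStalk_hom, ← Spec.map_comp] at h
    intro c
    exact congr($(Spec.map_injective h) c)
  refine ⟨φ.hom, fun x f => ?_, hconst, ?_⟩
  · have h := hσ x
    rw [← hφ, Category.assoc, ← tau_spec, ← Spec.map_comp_assoc, ← Spec.map_comp_assoc, cancel_mono] at h
    exact (congr($(Spec.map_injective h) f)).symm
  by_contra hall
  push Not at hall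
  apply hγ
  choose v hv using hall
  let ψ : Fld G ⟶ CommRingCat.of (PowerSeries (Fld G)) := CommRingCat.ofHom
    { toFun := v
      map_one' := toLS_injective ((hv 1).trans ((map_one φ.hom).trans (map_one toLS).symm))
      map_mul' := fun a b => toLS_injective ((hv _).trans ((map_mul φ.hom a b).trans ((map_mul toLS (v a) (v b)).trans (congrArg₂ (· * ·) (hv a) (hv b))).symm))
      map_zero' := toLS_injective ((hv 0).trans ((map_zero φ.hom).trans (map_zero toLS).symm))
      map_add' := fun a b => toLS_injective ((hv _).trans ((map_add φ.hom a b).trans ((map_add toLS (v a) (v b)).trans (congrArg₂ (· + ·) (hv a) (hv b))).symm)) }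
  let T₀ : Over (Spec (CommRingCat.of k)) :=
    Over.mk (Spec.map (CommRingCat.ofHom ((PowerSeries.C (R := (Fld G : Type u))).comp (kK (G := G)))))
  let j : T ⟶ T₀ := Over.homMk (Spec.map (CommRingCat.ofHom (toLS (A := (Fld G : Type u))))) (by
    show Spec.map _ ≫ Spec.map _ = Spec.map _
    rw [← Spec.map_comp]; rfl)
  let X : T₀ ⟶ GO := Over.homMk (Spec.map ψ) (by
    show Spec.map _ ≫ G.left.fromSpecStalk (genericPoint G.left) ≫ G.hom = Spec.map _
    rw [fromSpecStalk_hom, ← Spec.map_comp]
    congr 1
    refine CommRingCat.hom_ext (RingHom.ext fun c => toLS_injective ?_)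
    exact (hv _).trans (hconst c))
  let C₀ : T₀ ⟶ GO := Over.homMk (Spec.map (CommRingCat.ofHom (PowerSeries.C (R := (Fld G : Type u))))) (by
    show Spec.map _ ≫ G.left.fromSpecStalk (genericPoint G.left) ≫ G.hom = Spec.map _
    rw [fromSpecStalk_hom, ← Spec.map_comp]; rfl)
  let y : T₀ ⟶ G := (C₀ ≫ gen)⁻¹ * (X ≫ gen)
  have hjC : j ≫ C₀ = ιK := Over.OverMorphism.ext (by
    show Spec.map _ ≫ Spec.map _ = Spec.map _
    rw [← Spec.map_comp]; rfl)
  have hjX : j ≫ X ≫ gen = ζ := Over.OverMorphism.ext (by
    show Spec.map _ ≫ Spec.map _ ≫ G.left.fromSpecStalk _ = ζ.left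
    rw [← hφ, ← Spec.map_comp_assoc]
    congr 2
    exact CommRingCat.hom_ext (RingHom.ext fun a => hv a))
  have hy : j ≫ y = ιF ≫ γ := by
    show j ≫ ((C₀ ≫ gen)⁻¹ * (X ≫ gen)) = _
    rw [MonObj.comp_mul, GrpObj.comp_inv, reassoc_of% hjC, hjX]
    exact inv_mul_cancel_left _ _
  obtain ⟨_, ⟨W, hW, rfl⟩, hpW, -⟩ := G.left.isBasis_affineOpens.exists_subset_of_mem_open
    (Set.mem_univ (y.left (IsLocalRing.closedPoint (CommRingCat.of (PowerSeries (Fld G)))))) isOpen_univ
  have hyW : y.left ⁻¹ᵁ W = ⊤ := Scheme.preimage_eq_top_of_closedPoint_mem _ hpW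
  have hyr : Set.range y.left ⊆ Set.range hW.fromSpec := by
    rw [IsAffineOpen.range_fromSpec]
    rintro _ ⟨q, rfl⟩
    show q ∈ y.left ⁻¹ᵁ W
    rw [hyW]
    trivial
  have hγr : Set.range γ.left ⊆ Set.range hW.fromSpec := by
    rintro _ ⟨q, rfl⟩
    haveI : Subsingleton (disc k).left := inferInstanceAs (Subsingleton (PrimeSpectrum (LaurentSeries k)))
    rw [Subsingleton.elim q (ιF.left (IsLocalRing.closedPoint L))]
    rw [← Scheme.Hom.comp_apply, ← Over.comp_left, ← hy, Over.comp_left, Scheme.Hom.comp_apply]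
    exact hyr ⟨_, rfl⟩
  let b := Spec.preimage (IsOpenImmersion.lift hW.fromSpec y.left hyr)
  let c := Spec.preimage (IsOpenImmersion.lift hW.fromSpec γ.left hγr)
  have hb : Spec.map b ≫ hW.fromSpec = y.left := by rw [Spec.map_preimage, IsOpenImmersion.lift_fac]
  have hc : Spec.map c ≫ hW.fromSpec = γ.left := by rw [Spec.map_preimage, IsOpenImmersion.lift_fac]
  have hbc : b ≫ CommRingCat.ofHom (toLS (A := (Fld G : Type u))) = c ≫ CommRingCat.ofHom (lsMap (kK (G := G))) := by
    refine Spec.map_injective ((cancel_mono hW.fromSpec).mp ?_)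
    rw [Spec.map_comp, Spec.map_comp, Category.assoc, Category.assoc, hb, hc]
    exact congrArg CommaMorphism.left hy
  choose w hw using fun a => mem_of_lsMap_mem (kK (G := G)) (c a) ⟨b a, congr($hbc a)⟩
  let c' : Γ(G.left, W) ⟶ CommRingCat.of (PowerSeries k) := CommRingCat.ofHom
    { toFun := w
      map_one' := toLS_injective (by rw [hw, map_one, map_one])
      map_mul' := fun a b => toLS_injective (by rw [hw, map_mul, map_mul, hw, hw])
      map_zero' := toLS_injective (by rw [hw, map_zero, map_zero])
      map_add' := fun a b => toLS_injective (by rw [hw, map_add, map_add, hw, hw]) }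
  have hc' : Spec.map (CommRingCat.ofHom (toLS (A := k))) ≫ Spec.map c' ≫ hW.fromSpec = γ.left := by
    rw [← hc, ← Spec.map_comp_assoc]
    congr 2
    exact CommRingCat.hom_ext (RingHom.ext hw)
  refine ⟨Over.homMk (Spec.map c' ≫ hW.fromSpec) ?_, hc'⟩
  have h := Over.w γ
  rw [← hc', Category.assoc] at h
  refine ext_of_isAffine ?_
  have h2 := congrArg Scheme.Hom.appTop h
  show (( Spec.map c' ≫ hW.fromSpec) ≫ G.hom).appTop = (Spec.map _).appTop
  simp only [Scheme.Hom.comp_appTop, Category.assoc] at h2 ⊢
  refine CommRingCat.hom_ext (RingHom.ext fun a => ?_)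
  have inj : Function.Injective (Spec.map (CommRingCat.ofHom (toLS (A := k)))).appTop := by
    intro p q hpq
    apply (ConcreteCategory.bijective_of_isIso (Scheme.ΓSpecIso (CommRingCat.of (PowerSeries k))).hom).1
    apply toLS_injective (A := k)
    have e := Scheme.ΓSpecIso_naturality (CommRingCat.ofHom (toLS (A := k)))
    exact (congr($e p)).symm.trans ((congrArg _ hpq).trans congr($e q))
  apply inj
  have h3 := congr($h2 a)
  exact h3.trans (by
    show (Spec.map (CommRingCat.ofHom (lsC (A := k)))).appTop a = _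
    rw [show CommRingCat.ofHom (lsC (A := k)) = CommRingCat.ofHom PowerSeries.C ≫ CommRingCat.ofHom toLS from rfl,
      Spec.map_comp, Scheme.Hom.comp_appTop]
    rfl)

end

end Groth.Agent.Deform.Chev
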