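import Groth.Agent.Deform.Chev.FrobReduce

/-!
# Every algebraic group has a smallest normal subgroup with proper quotient
-/

universe u

open CategoryTheory CategoryTheory.Limits MonoidalCategory CartesianMonoidalCategory MonObj GrpObj AlgebraicGeometry

attribute [local instance] CategoryTheory.Hom.monoid CategoryTheory.Hom.group
set_option linter.style.haveILetI false
set_option linter.unusedSectionVars false

namespace Groth.Agent.Deform.Chev.SmallestNormal

noncomputable section

variable {k : Type u} [Field k]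

/-- A smooth group maps to a proper group with affine kernel. -/
theorem exists_affine_kernel_smooth (G : Over (Spec (CommRingCat.of k))) [GrpObj G] [Smooth G.hom]
    [QuasiCompact G.hom] : ∃ (N : Over (Spec (CommRingCat.of k))) (_ : GrpObj N) (i : N ⟶ G)
    (A : Over (Spec (CommRingCat.of k))) (_ : GrpObj A) (q : G ⟶ A), IsMonHom i ∧ IsClosedImmersion i.left ∧
      IsAffine N.left ∧ IsMonHom q ∧ AlgGrp.IsKernel i q ∧ IsProper A.hom := by
  obtain ⟨G₀, iG₀, i₀, hi₀, hic₀, hio₀, hs₀, hq₀, hc₀, -⟩ := exists_neutral G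
  letI := iG₀
  haveI := hi₀; haveI := hic₀; haveI := hio₀; haveI := hs₀; haveI := hq₀; haveI := hc₀
  obtain ⟨N, iN, j, A, iA, α, hj, hjc, -, -, -, hA, hAs, hAc, hα, hαs, hαf, hk, -, huniv⟩ :=
    Albanese.exists_albanese G₀
  letI := iN; letI := iA
  haveI := hj; haveI := hjc; haveI := hA; haveI := hAs; haveI := hAc; haveI := hα; haveI := hαs; haveI := hαf
  obtain ⟨-, ha, -, ⟨Q, iQ, q, hq, -, -, hkq, hQ⟩, -⟩ := NeutralAlb.main i₀ α huniv j hk
  exact ⟨N, iN, j ≫ i₀, Q, iQ, q, inferInstance, inferInstanceAs (IsClosedImmersion (j.left ≫ i₀.left)), ha,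
    hq, hkq, hQ⟩

/-- An algebraic group maps to a proper group with affine kernel. -/
theorem exists_affine_kernel (G : Over (Spec (CommRingCat.of k))) [GrpObj G] [LocallyOfFiniteType G.hom]
    [QuasiCompact G.hom] : ∃ (N : Over (Spec (CommRingCat.of k))) (_ : GrpObj N) (i : N ⟶ G)
    (A : Over (Spec (CommRingCat.of k))) (_ : GrpObj A) (q : G ⟶ A), IsMonHom i ∧ IsClosedImmersion i.left ∧
      IsAffine N.left ∧ IsMonHom q ∧ AlgGrp.IsKernel i q ∧ IsProper A.hom := by
  obtain ⟨p, hp⟩ := CharP.exists k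
  rcases CharP.char_is_prime_or_zero k p with hpp | rfl
  · haveI := Fact.mk hpp
    obtain ⟨I, iI, r, hr, hra, -, hIs, hIq⟩ := FrobReduce.exists_smooth_image p G
    letI := iI
    haveI := hr; haveI := hra; haveI := hIs; haveI := hIq
    obtain ⟨N, iN, i, A, iA, q, hi, hic, ha, hq, hk, hA⟩ := exists_affine_kernel_smooth I
    letI := iN; letI := iA
    haveI := hi; haveI := hic; haveI := ha; haveI := hq; haveI := hA
    haveI := GrpSchLib.AntiAffine.isSeparated_grp A
    obtain ⟨M, iM, j, hj, hjc, -, hkj⟩ := GrpSchLib.exists_kernel (r ≫ q)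
    letI := iM
    haveI := hj; haveI := hjc
    refine ⟨M, iM, j, A, iA, r ≫ q, hj, hjc, ?_, inferInstance, hkj, hA⟩
    obtain ⟨t, ht⟩ := exists_lift_kernel i q hk (j ≫ r) (by rw [Category.assoc]; exact hkj.w)
    have squ : IsPullback j t r i := IsPullback.of_bot
      (by rw [toUnit_unique (t ≫ toUnit N) (toUnit M)]; exact hkj) ht.symm hk
    haveI : IsAffineHom t.left :=
      MorphismProperty.of_isPullback (P := @IsAffineHom) (squ.map (Over.forget _)) hra
    exact isAffine_of_isAffineHom t.left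
  · haveI : CharZero k := CharP.charP_to_charZero k
    haveI := GrpSchLib.smooth_of_charZero G
    exact exists_affine_kernel_smooth G

/-- An algebraic group has a smallest normal subgroup with proper quotient, affine and connected. -/
theorem main (G : Over (Spec (CommRingCat.of k))) [GrpObj G] [LocallyOfFiniteType G.hom] [QuasiCompact G.hom] :
    ∃ (N : Over (Spec (CommRingCat.of k))) (_ : GrpObj N) (i : N ⟶ G), IsMonHom i ∧ IsClosedImmersion i.left ∧
      AlgGrp.IsNormalHom i ∧ IsAffine N.left ∧ ConnectedSpace N.left ∧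
      (∃ (Q : Over (Spec (CommRingCat.of k))) (_ : GrpObj Q) (q : G ⟶ Q), IsMonHom q ∧ Surjective q.left ∧
        Flat q.left ∧ AlgGrp.IsKernel i q ∧ IsProper Q.hom) ∧
      ∀ (Q' : Over (Spec (CommRingCat.of k))) [GrpObj Q'] [IsProper Q'.hom] (q' : G ⟶ Q') [IsMonHom q']
        [Surjective q'.left] [Flat q'.left], i ≫ q' = 1 := by
  obtain ⟨N₁, iN₁, i₁, A₁, iA₁, q₁, hi₁, hic₁, ha₁, hq₁, hk₁, hA₁⟩ := exists_affine_kernel G
  letI := iN₁; letI := iA₁
  haveI := hi₁; haveI := hic₁; haveI := ha₁; haveI := hq₁; haveI := hA₁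
  obtain ⟨N, iN, i, A, iA, α, hi, hic, hn, ha, hα, hαf, hαs, hk, hA, huniv⟩ := AnyField.exists_smallest G i₁ q₁ hk₁
  letI := iN; letI := iA
  haveI := hi; haveI := hic; haveI := hα; haveI := hαf; haveI := hαs; haveI := hA
  exact ⟨N, iN, i, hi, hic, hn, ha, AnyField.connected_smallest i hn α hk huniv,
    ⟨A, iA, α, hα, hαs, hαf, hk, hA⟩, fun Q' _ _ q' _ _ _ => huniv Q' q'⟩

end

end Groth.Agent.Deform.Chev.SmallestNormal
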