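import Groth.Agent.Deform.Chev.Curve
import Groth.Agent.Deform.Chev.Fibre
import Groth.Agent.Deform.Chev.Rigid
import Groth.Agent.Deform.AntiAffineParts
import Groth.Agent.GrpSchLib.RedSubgroup
import Groth.Agent.GrpSchLib.MonoSubgroup
import Groth.Agent.GrpSchLib.IdentityComp
import Groth.Agent.GrpSchLib.AntiAffineSmoothAny
import Groth.Agent.GrpSchLib.UnitsScheme
import Groth.Agent.GrpSchLib.AntiAffine
import Groth.Agent.S3036

/-!
# A non-proper commutative group contains a nontrivial connected affine subgroup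
-/

universe u

open CategoryTheory CategoryTheory.Limits MonoidalCategory CartesianMonoidalCategory MonObj GrpObj AlgebraicGeometry
open TopologicalSpace (Closeds)

attribute [local instance] CategoryTheory.Hom.monoid CategoryTheory.Hom.group
set_option linter.style.haveILetI false
set_option linter.unusedSectionVars false

namespace Groth.Agent.Deform.Chev

noncomputable section

variable {k : Type u} [Field k] [IsAlgClosed k] {G : Over (Spec (CommRingCat.of k))}

theorem mem_of_pts {W : Over (Spec (CommRingCat.of k))} [LocallyOfFiniteType W.hom] (f : W ⟶ G) {C : Set G.left}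
    (hC : IsClosed C) (h : ∀ w : Pt W, pimg (w ≫ f) ∈ C) : Set.range f.left ⊆ C := by
  rintro _ ⟨x, rfl⟩
  by_contra hx
  obtain ⟨w, hw⟩ := exists_pt (G := W) (S := (f.left ⁻¹' C)ᶜ) ⟨x, hx⟩
    (hC.preimage f.left.continuous).isOpen_compl.isLocallyClosed
  exact hw (h w)

theorem pimg_comp {W : Over (Spec (CommRingCat.of k))} (w : Pt W) (f : W ⟶ G) : pimg (w ≫ f) = f.left (pimg w) := rfl

variable [GrpObj G] [LocallyOfFiniteType G.hom]

/-- A closed subgroup of points is the group of points of a reduced closed subgroup scheme. -/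
theorem exists_subgroup [QuasiCompact G.hom] (H : Subgroup (Pt G)) {C : Set G.left} (hC : IsClosed C)
    (hCH : ∀ h : Pt G, pimg h ∈ C ↔ h ∈ H) :
    ∃ (Y : Over (Spec (CommRingCat.of k))) (_ : GrpObj Y) (i : Y ⟶ G), IsMonHom i ∧ IsClosedImmersion i.left ∧
      IsReduced Y.left ∧ LocallyOfFiniteType Y.hom ∧ QuasiCompact Y.hom ∧
      (∀ y : Pt Y, y ≫ i ∈ H) ∧ ∀ h ∈ H, ∃ y : Pt Y, y ≫ i = h := by
  let I := Scheme.IdealSheafData.vanishingIdeal (⟨C, hC⟩ : Closeds G.left)
  let Y : Over (Spec (CommRingCat.of k)) := Over.mk (I.subschemeι ≫ G.hom)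
  let i : Y ⟶ G := Over.homMk I.subschemeι rfl
  haveI : IsReduced Y.left := H23.RedSub.isReduced_vanishingIdeal ⟨C, hC⟩
  haveI : IsClosedImmersion i.left := inferInstanceAs (IsClosedImmersion I.subschemeι)
  haveI : LocallyOfFiniteType Y.hom := inferInstanceAs (LocallyOfFiniteType (I.subschemeι ≫ G.hom))
  haveI : QuasiCompact Y.hom := inferInstanceAs (QuasiCompact (I.subschemeι ≫ G.hom))
  haveI : Mono i.left := inferInstance
  haveI : Mono i := (Over.forget _).mono_of_mono_map (inferInstanceAs (Mono i.left))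
  have hr : Set.range i.left = C := H23.RedSub.range_vanishingIdeal ⟨C, hC⟩
  have hmem : ∀ y : Pt Y, y ≫ i ∈ H := fun y => (hCH _).mp (by rw [pimg_comp, ← hr]; exact ⟨_, rfl⟩)
  have hl : ∀ (T : Over (Spec (CommRingCat.of k))) (_ : IsReduced T.left) (_ : LocallyOfFiniteType T.hom) (f : T ⟶ G),
      (∀ t : Pt T, t ≫ f ∈ H) → ∃ g : T ⟶ Y, g ≫ i = f := by
    intro T _ _ f hf
    obtain ⟨g, hg⟩ := H23.RedSub.exists_lift_closed f.left i.left
      ((mem_of_pts f hC fun t => (hCH _).mpr (hf t)).trans hr.ge)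
    exact ⟨Over.homMk g (by rw [← Over.w i, reassoc_of% hg, Over.w f]), Over.OverMorphism.ext hg⟩
  haveI : IsReduced (Y ⊗ Y).left := GrpSchLib.isReduced_pullback_of_perfectField Y.hom Y.hom
  haveI : LocallyOfFiniteType (Y ⊗ Y).hom := inferInstanceAs (LocallyOfFiniteType (pullback.fst Y.hom Y.hom ≫ Y.hom))
  haveI : IsReduced (𝟙_ (Over (Spec (CommRingCat.of k)))).left := inferInstanceAs (IsReduced (Spec (CommRingCat.of k)))
  haveI : LocallyOfFiniteType (𝟙_ (Over (Spec (CommRingCat.of k)))).hom :=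
    inferInstanceAs (LocallyOfFiniteType (𝟙 (Spec (CommRingCat.of k))))
  obtain ⟨e, he⟩ := hl (𝟙_ _) inferInstance inferInstance η[G] fun t => by
    rw [MonObj.one_eq_one, MonObj.comp_one]; exact H.one_mem
  obtain ⟨m, hm⟩ := hl (Y ⊗ Y) inferInstance inferInstance ((fst Y Y ≫ i) * (snd Y Y ≫ i)) fun t => by
    rw [MonObj.comp_mul, ← Category.assoc, ← Category.assoc]
    exact H.mul_mem (hmem _) (hmem _)
  obtain ⟨v, hv⟩ := hl Y inferInstance inferInstance i⁻¹ fun t => by
    rw [GrpObj.comp_inv]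
    exact H.inv_mem (hmem t)
  obtain ⟨str, hi⟩ := GrpSchLib.exists_grpObj_of_mono i e he m hm v hv
  refine ⟨Y, str, i, hi, inferInstance, inferInstance, inferInstance, inferInstance, hmem, fun h hh => ?_⟩
  exact hl (𝟙_ _) inferInstance inferInstance h fun t => by
    rw [Subsingleton.elim t (𝟙 _), Category.id_comp]; exact hh

/-- The neutral component of an infinite algebraic group is not a point. -/
theorem not_subsingleton_of_infinite {Y : Over (Spec (CommRingCat.of k))} [GrpObj Y] [LocallyOfFiniteType Y.hom]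
    [QuasiCompact Y.hom] (hY : Infinite (Pt Y)) {G₀ : Over (Spec (CommRingCat.of k))} (j : G₀ ⟶ Y)
    [IsOpenImmersion j.left] (e : Pt G₀) (he : e ≫ j = 1) : ¬ Subsingleton G₀.left := by
  intro hsub
  haveI : JacobsonSpace Y.left := LocallyOfFiniteType.jacobsonSpace Y.hom
  have hop : IsOpen ({pimg (1 : Pt Y)} : Set Y.left) := by
    have : Set.range j.left = {pimg (1 : Pt Y)} := by
      refine Set.eq_singleton_iff_unique_mem.mpr ⟨⟨pimg e, by rw [← pimg_comp, he]⟩, ?_⟩
      rintro _ ⟨x, rfl⟩
      rw [Subsingleton.elim x (pimg e), ← pimg_comp, he]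
    rw [← this]
    exact j.left.isOpenEmbedding.isOpen_range
  have hall : ∀ y : Pt Y, IsOpen ({pimg y} : Set Y.left) := fun y => by
    have : ({pimg y} : Set Y.left) = (tr y⁻¹).left ⁻¹' {pimg (1 : Pt Y)} := by
      ext z
      constructor
      · rintro rfl
        show (tr y⁻¹).left (pimg y) = _
        rw [← pimg_mul, inv_mul_cancel]
      · intro (hz : (tr y⁻¹).left z = _)
        refine Set.mem_singleton_iff.mpr ((tr y⁻¹).left.isOpenEmbedding.injective (hz.trans ?_))
        rw [← pimg_mul, inv_mul_cancel]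
    rw [this]
    exact hop.preimage (tr y⁻¹).left.continuous
  haveI : CompactSpace Y.left := QuasiCompact.compactSpace_of_compactSpace Y.hom
  have huniv : (⋃ y : Pt Y, ({pimg y} : Set Y.left)) = Set.univ := by
    by_contra hne
    obtain ⟨y, hy⟩ := exists_pt (G := Y) (S := (⋃ y : Pt Y, ({pimg y} : Set Y.left))ᶜ)
      (Set.nonempty_compl.mpr hne) (isOpen_iUnion hall).isClosed_compl.isLocallyClosed
    exact hy (Set.mem_iUnion.mpr ⟨y, rfl⟩)
  obtain ⟨s, hs⟩ := isCompact_univ.elim_finite_subcover _ hall huniv.ge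
  haveI := hY
  obtain ⟨y, hy⟩ := Infinite.exists_notMem_finset s
  obtain ⟨y', hy', hyy'⟩ := Set.mem_iUnion₂.mp (hs (Set.mem_univ (pimg y)))
  exact hy (pimg_injective (show pimg y = pimg y' from hyy') ▸ hy')

variable [IsIntegral G.left] [IsCommMonObj G]

/-- The translations fixing a set of rational functions. -/
def fixer (S : Set (Fld G)) : Subgroup (Pt G) where
  carrier := {h | ∀ s ∈ S, tau h s = s}
  one_mem' := fun s _ => tau_one s
  mul_mem' := fun {a b} ha hb s hs => by rw [← tau_mul, ha s hs, hb s hs]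
  inv_mem' := fun {a} ha s hs => by
    conv_lhs => rw [← ha s hs]
    exact tau_inv a s

theorem mem_fixer {S : Set (Fld G)} {h : Pt G} : h ∈ fixer S ↔ ∀ s ∈ S, tau h s = s := Iff.rfl

theorem closure_fixer {S : Set (Fld G)} {h : Pt G}
    (hh : pimg h ∈ closure (pimg '' (fixer S : Set (Pt G)))) : h ∈ fixer S := by
  intro s hs
  by_contra hne
  obtain ⟨V, hV, hval⟩ := exists_domain_tau s h
  obtain ⟨W, hW, hWval⟩ := exists_domain s
  obtain ⟨g, hg, hdiff⟩ : ∃ g : Pt G, pimg g ∈ (V ⊓ W : G.left.Opens) ∧ ∃ c c', c ≠ c' ∧ HasVal s (h * g) c ∧ HasVal s g c' := by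
    by_contra hcon
    push Not at hcon
    refine hne (eq_of_forall (nonempty_inf hV hW) fun g hg => ?_)
    obtain ⟨c, hc, hc'⟩ := hval g hg.1
    obtain ⟨c', hc''⟩ := hWval g hg.2
    rcases eq_or_ne c c' with rfl | hcc
    · exact ⟨c, hc', hc''⟩
    · exact absurd hc'' (hcon g hg c c' hcc hc)
  obtain ⟨c, c', hcc, hc, hc'⟩ := hdiff
  obtain ⟨O, hO, hOval⟩ := hc.ne_nhd hcc
  have hmem : pimg h ∈ (tr g).left ⁻¹ᵁ O := by
    show (tr g).left (pimg h) ∈ O
    rw [← pimg_mul, mul_comm]; exact hO
  obtain ⟨_, hxO, h', hh', rfl⟩ := mem_closure_iff.mp hh _ ((tr g).left ⁻¹ᵁ O).2 hmem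
  obtain ⟨d, hd, hdc⟩ := hOval (h' * g) (by rw [mul_comm, pimg_mul]; exact hxO)
  have := hd.tau
  rw [hh' s hs] at this
  exact hdc (this.unique hc')

/-- **A commutative connected smooth group which is not proper contains a nontrivial connected affine subgroup.** -/
theorem exists_affine_subgroup (G : Over (Spec (CommRingCat.of k))) [GrpObj G] [IsCommMonObj G] [Smooth G.hom]
    [QuasiCompact G.hom] [ConnectedSpace G.left] (hG : ¬ IsProper G.hom) :
    ∃ (N : Over (Spec (CommRingCat.of k))) (_ : GrpObj N) (i : N ⟶ G), IsMonHom i ∧ IsClosedImmersion i.left ∧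
      Smooth N.hom ∧ QuasiCompact N.hom ∧ ConnectedSpace N.left ∧ IsAffine N.left ∧ ¬ Subsingleton N.left := by
  classical
  haveI := GrpSchLib.AntiAffine.isSeparated_grp G
  haveI : IsIntegral G.left := GrpSchLib.Kunneth.isIntegral_grp G
  obtain ⟨crv, hcrv⟩ := exists_not_extends G hG
  obtain ⟨Φ, he, hk, hno⟩ := exists_expansion crv hcrv
  obtain ⟨u, hu⟩ := exists_transcendental Φ hk hno
  haveI : CompactSpace G.left := QuasiCompact.compactSpace_of_compactSpace G.hom
  haveI : IsLocallyNoetherian G.left := LocallyOfFiniteType.isLocallyNoetherian G.hom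
  haveI : IsNoetherian G.left := { }
  let Z : Finset (Fld G) → Closeds G.left := fun S => ⟨closure (pimg '' (fixer (S : Set (Fld G)) : Set (Pt G))), isClosed_closure⟩
  obtain ⟨C, ⟨S, hS, rfl⟩, hmin⟩ := wellFounded_lt.has_min {C | ∃ S : Finset (Fld G), (∀ s ∈ S, s ∈ res Φ) ∧ Z S = C}
    ⟨Z ∅, ∅, by simp, rfl⟩
  have hfix : ∀ h : Pt G, pimg h ∈ (Z S : Set G.left) ↔ h ∈ fixer (res Φ : Set (Fld G)) := by
    refine fun h => ⟨fun hh l hl => ?_, fun hh => subset_closure ⟨h, fun s hs => hh s (hS s hs), rfl⟩⟩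
    have hle : Z (insert l S) ≤ Z S := by
      refine closure_mono (Set.image_mono fun g hg s hs => hg s ?_)
      exact Finset.mem_insert_of_mem hs
    have heq : Z (insert l S) = Z S := hle.eq_of_not_lt (hmin _ ⟨insert l S, fun s hs =>
      (Finset.mem_insert.mp hs).elim (fun e => e ▸ hl) (hS s), rfl⟩)
    rw [← heq] at hh
    exact closure_fixer hh l (Finset.mem_insert_self l S)
  obtain ⟨Y, iY, i, hi, hic, hYr, hYl, hYq, hYH, hHY⟩ := exists_subgroup (fixer (res Φ : Set (Fld G))) (Z S).2 hfix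
  haveI := hi; haveI := hic; haveI := hYr; haveI := hYl; haveI := hYq
  haveI hYinf : Infinite (Pt Y) := by
    have hinf := infinite_stab (res Φ) (kK_mem_res Φ hk) (fun x _ hl => tau_mem_res Φ he x hl) hu S hS
    haveI := hinf.to_subtype
    refine Infinite.of_injective (fun h : {h : Pt G | ∀ s ∈ S, tau h s = s} =>
      (hHY h ((hfix h).mp (subset_closure ⟨h, h.2, rfl⟩))).choose) fun a b hab => Subtype.ext ?_
    rw [← (hHY a ((hfix a).mp (subset_closure ⟨a, a.2, rfl⟩))).choose_spec,
      ← (hHY b ((hfix b).mp (subset_closure ⟨b, b.2, rfl⟩))).choose_spec]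
    exact congrArg (· ≫ i) hab
  obtain ⟨N, iN, j, hj, hjc, hjf, hjr, hgi, hNc⟩ := GrpSchLib.exists_identityComponent (G := Y)
  haveI := hj; haveI := hjc; haveI := hjf; haveI := hgi; haveI := hNc
  haveI : IsLocallyNoetherian Y.left := LocallyOfFiniteType.isLocallyNoetherian Y.hom
  haveI : LocallyOfFinitePresentation j.left := inferInstance
  haveI : IsOpenImmersion j.left := IsOpenImmersion.of_flat_of_mono j.left
  haveI : IsReduced N.left := isReduced_of_isOpenImmersion j.left
  haveI : LocallyOfFiniteType N.hom := by rw [← Over.w j]; infer_instance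
  haveI : Smooth N.hom := GrpSchLib.smooth_of_isReduced_of_isAlgClosed N
  haveI : QuasiCompact N.hom := by rw [← Over.w j]; infer_instance
  haveI : IrreducibleSpace N.left := GeometricallyIrreducible.irreducibleSpace N.hom N.hom.isOpenMap
  haveI : ConnectedSpace N.left := inferInstance
  refine ⟨N, iN, j ≫ i, inferInstance, inferInstanceAs (IsClosedImmersion (j.left ≫ i.left)), inferInstance,
    inferInstance, inferInstance, ?_, not_subsingleton_of_infinite hYinf j η[N] (IsMonHom.one_hom j)⟩
  -- its anti-affine part is trivial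
  obtain ⟨M, iM, κ, hκ, hκc, hMl, hMq, hMb, I, iI, p, hp, hI, hIl, hpf, hps, hker⟩ := AntiAffineParts.exists_ant N
  haveI := hκ; haveI := hκc; haveI := hMl; haveI := hMq; haveI := hp; haveI := hI; haveI := hIl
  haveI : Smooth M.hom := GrpSchLib.AntiAffineSmooth.smooth hMb
  haveI : ConnectedSpace M.left := GrpSchLib.AntiAffine.connectedSpace_of_bijective hMb
  haveI : IsIntegral M.left := GrpSchLib.Kunneth.isIntegral_grp M
  have h1 : ∀ m : Pt M, m ≫ (κ ≫ j ≫ i) = 1 := fun m =>
    comp_eq_one hMb (κ ≫ j ≫ i) Φ he (fun m l hl => by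
      have := hYH (m ≫ κ ≫ j) l hl
      simpa only [Category.assoc] using this) m
  haveI : IsIso M.hom := by
    haveI : Mono (κ ≫ j ≫ i) := by
      haveI : Mono κ := (Over.forget _).mono_of_mono_map (inferInstanceAs (Mono κ.left))
      haveI : Mono j := (Over.forget _).mono_of_mono_map (inferInstanceAs (Mono j.left))
      haveI : Mono i := (Over.forget _).mono_of_mono_map (inferInstanceAs (Mono i.left))
      infer_instance
    have hpt : ∀ m : Pt M, m = 1 := fun m => (cancel_mono (κ ≫ j ≫ i)).mp ((h1 m).trans (MonObj.one_comp _).symm)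
    haveI := GrpSchLib.AntiAffine.isSeparated_grp M
    haveI : IsClosedImmersion (η[M].left ≫ M.hom) := by
      rw [Over.w η[M]]; exact inferInstanceAs (IsClosedImmersion (𝟙 (Spec (CommRingCat.of k))))
    haveI : IsClosedImmersion η[M].left := IsClosedImmersion.of_comp η[M].left M.hom
    -- the unit section is surjective
    have hs : Set.range (η[M].left) = Set.univ := by
      have hcl : IsClosed (Set.range η[M].left) :=
        η[M].left.isClosedEmbedding.isClosed_range
      by_contra hne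
      obtain ⟨m, hm⟩ := exists_pt (G := M) (S := (Set.range η[M].left)ᶜ) (Set.nonempty_compl.mpr hne)
        hcl.isOpen_compl.isLocallyClosed
      exact hm ⟨IsLocalRing.closedPoint k, by rw [hpt m, ← MonObj.one_eq_one]; rfl⟩
    obtain ⟨g, hg⟩ := H23.RedSub.exists_lift_closed (𝟙 M.left) η[M].left (by rw [hs]; exact Set.subset_univ _)
    have hgM : g = M.hom := by
      have := congrArg (· ≫ M.hom) hg
      simpa [Over.w η[M]] using this
    exact ⟨η[M].left, by rw [← hgM]; exact hg, Over.w η[M]⟩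
  haveI := AntiAffineParts.mono_of_trivial p κ hker
  haveI : IsSeparated I.hom := GrpSchLib.AntiAffine.isSeparated_grp I
  haveI : QuasiCompact p.left := by
    haveI : QuasiCompact (p.left ≫ I.hom) := by rw [Over.w p]; infer_instance
    exact QuasiCompact.of_comp p.left I.hom
  haveI := S3036.result k N I p
  exact isAffine_of_isAffineHom p.left

end

end Groth.Agent.Deform.Chev
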